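import Cfsg.Agent.Lib.helper23.ClassProd

set_option autoImplicit false

namespace Cfsg.Agent.Lib.helper23

open Cfsg Cfsg.Agent.Lib.helper24

universe u

section linchar

variable {G : Type u} [Group G]

theorem end_fin_one (T : Module.End ℂ (Fin 1 → ℂ)) :
    T = (LinearMap.trace ℂ (Fin 1 → ℂ) T) • (1 : Module.End ℂ (Fin 1 → ℂ)) := by
  have hs : (Pi.single 0 1 : Fin 1 → ℂ) = fun _ => 1 := by
    ext i
    fin_cases i
    simp
  have htr : LinearMap.trace ℂ (Fin 1 → ℂ) T = T (fun _ => 1) 0 := by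
    rw [LinearMap.trace_eq_matrix_trace ℂ (Pi.basisFun ℂ (Fin 1)) T, Matrix.trace_fin_one,
      LinearMap.toMatrix_apply]
    simp only [Pi.basisFun_apply, Pi.basisFun_repr]
    rw [hs]
  apply LinearMap.ext
  intro v
  have hv : v = v 0 • (fun _ => (1 : ℂ)) := by
    ext i
    fin_cases i
    simp
  rw [hv, map_smul]
  ext i
  fin_cases i
  simp [htr]

theorem rep_fin_one_mul (ρ : Representation ℂ G (Fin 1 → ℂ)) (g h : G) :
    ρ.character (g * h) = ρ.character g * ρ.character h := by
  have h1 := end_fin_one (ρ g)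
  have h2 := end_fin_one (ρ h)
  unfold Representation.character
  rw [map_mul]
  conv_lhs => rw [h1, h2]
  rw [smul_mul_smul_comm, one_mul, map_smul]
  have : LinearMap.trace ℂ (Fin 1 → ℂ) (1 : Module.End ℂ (Fin 1 → ℂ)) = 1 := by
    rw [LinearMap.trace_one]
    simp
  rw [this]
  simp

theorem irr_linear_mul (χ : IrrCharacter G) (h1 : χ.1 1 = 1) (g h : G) :
    χ.1 (g * h) = χ.1 g * χ.1 h := by
  obtain ⟨n, ρ, hirr, hρ⟩ := χ.2
  have hn : n = 1 := by
    rw [← hρ, rep_char_one] at h1
    exact_mod_cast h1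
  subst hn
  rw [← hρ]
  exact rep_fin_one_mul ρ g h

/-- A linear character as a monoid hom. -/
noncomputable def linHom (χ : IrrCharacter G) (h1 : χ.1 1 = 1) : G →* ℂ where
  toFun := χ.1
  map_one' := h1
  map_mul' := irr_linear_mul χ h1

theorem irr_linear_norm [Finite G] (χ : IrrCharacter G) (h1 : χ.1 1 = 1) (g : G) :
    ‖χ.1 g‖ = 1 := by
  have h2 : (χ.1 g) ^ orderOf g = 1 := by
    have := map_pow (linHom χ h1) g (orderOf g)
    rw [pow_orderOf_eq_one, map_one] at this
    exact this.symm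
  exact Complex.norm_eq_one_of_pow_eq_one h2 (orderOf_pos g).ne'

theorem irr_linear_commutator (χ : IrrCharacter G) (h1 : χ.1 1 = 1) (k : G)
    (hk : k ∈ commutator G) : χ.1 k = 1 := by
  have h2 := Abelianization.commutator_subset_ker (linHom χ h1).toHomUnits hk
  rw [MonoidHom.mem_ker] at h2
  have h3 := congrArg Units.val h2
  simpa [linHom] using h3

theorem card_linear_le [Finite G] :
    Nat.card {χ : IrrCharacter G // χ.1 1 = 1} ≤ (commutator G).index := by
  classical
  have hdef : ∀ χ : {χ : IrrCharacter G // χ.1 1 = 1},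
      ∃ χ' : G ⧸ commutator G → ℂ, Cfsg.IsIrrCharacter (G ⧸ commutator G) χ' ∧
        ∀ g : G, χ' (g : G ⧸ commutator G) = χ.1.1 g := by
    intro χ
    apply isIrrCharacter_deflate (commutator G) χ.1.2
    intro x hx
    rw [irr_linear_commutator χ.1 χ.2 x hx, χ.2]
  choose f hf1 hf2 using hdef
  have hinj : Function.Injective
      (fun χ : {χ : IrrCharacter G // χ.1 1 = 1} =>
        (⟨f χ, hf1 χ⟩ : IrrCharacter (G ⧸ commutator G))) := by
    intro χ ψ hχψ
    have h1 : f χ = f ψ := congrArg Subtype.val hχψ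
    apply Subtype.ext
    apply Subtype.ext
    funext g
    rw [← hf2 χ g, ← hf2 ψ g, h1]
  have hfin : Finite (IrrCharacter (G ⧸ commutator G)) := irrFinite
  have h1 := Nat.card_le_card_of_injective _ hinj
  have h2 : Nat.card (IrrCharacter (G ⧸ commutator G))
      = Nat.card (ConjClasses (G ⧸ commutator G)) := card_irr_eq_card_conjClasses
  have h3 : Nat.card (ConjClasses (G ⧸ commutator G)) ≤ Nat.card (G ⧸ commutator G) :=
    Nat.card_le_card_of_surjective ConjClasses.mk ConjClasses.mk_surjective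
  rw [h2] at h1
  exact h1.trans h3

end linchar

end Cfsg.Agent.Lib.helper23
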