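import Mathlib
import Cfsg.Agent.Lib.helper23.BPDefect2

set_option autoImplicit false

/-!
# Fully centralized and centric subgroups in the fusion system of a block
-/

namespace Cfsg.Agent.Lib.helper23

open Cfsg Cfsg.Agent.Lib.helper24 Cfsg.Agent.Lib.helper5
open scoped ComplexConjugate

universe u

section fully

variable {G : Type u} [Group G] [Fintype G]
variable {M : Ideal AlgInt} {p : ℕ} [Fact p.Prime]

omit [Fintype G] in
theorem range_eq_map_conj (Q : Subgroup G) (φ : Q →* G) (g : G)
    (hg : ∀ u : Q, φ u = g * (u : G) * g⁻¹) : φ.range = Q.map (MulAut.conj g).toMonoidHom := by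
  ext y
  rw [MonoidHom.mem_range, mem_map_conj]
  constructor
  · rintro ⟨u, rfl⟩
    rw [hg]
    have : g⁻¹ * (g * (u : G) * g⁻¹) * g = (u : G) := by group
    rw [this]
    exact u.2
  · intro h
    refine ⟨⟨_, h⟩, ?_⟩
    rw [hg]
    group

/-- conjugacy in the fusion system of a block, for a subgroup with a pair below `(P, e)` -/
theorem isConj_iff_of_blockFusion (hM : IsPModular p M) (B : Set (IrrCharacter G))
    (P : Subgroup G) (e : Set (IrrCharacter (Subgroup.centralizer (P : Set G))))
    (F : FusionSystem P) (hF : IsBlockFusionSystemOn p M B P e F) (Q : Subgroup G)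
    (f : Set (IrrCharacter (Subgroup.centralizer (Q : Set G))))
    (hle : SubpairLE p M Q f P e) (Q' : Subgroup G) :
    F.IsConj Q Q' ↔ ∃ g : G, Q' = Q.map (MulAut.conj g).toMonoidHom ∧
      SubpairLE p M (Q.map (MulAut.conj g).toMonoidHom) (conjBlock Q g f) P e := by
  have hPe : IsBrauerPair p M P e := hF.1.1.1
  constructor
  · rintro ⟨φ, hφ, hrange⟩
    obtain ⟨-, g, hg, -, f₁, hf₁, hf₁g⟩ := (hF.2 Q φ).mp hφ
    have hff : f₁ = f := subpairLE_unique hM hPe hf₁ hle
    rw [hff] at hf₁g
    exact ⟨g, by rw [← hrange, range_eq_map_conj Q φ g hg], hf₁g⟩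
  · rintro ⟨g, rfl, hg⟩
    exact ⟨conjHom Q g, (hF.2 Q _).mpr ⟨subpairLE_le hle, g, fun u => rfl, subpairLE_le hg, f,
      hle, hg⟩, range_eq_map_conj Q _ g (fun u => rfl)⟩

omit [Fintype G] in
theorem card_subgroupOf_inf (P H : Subgroup G) :
    Nat.card ((P ⊓ H).subgroupOf H) = Nat.card (P ⊓ H : Subgroup G) :=
  Nat.card_congr (Subgroup.subgroupOfEquivOfLe inf_le_right).toEquiv

/-- defect groups of a block of `C_G(Q)` and of its conjugate have the same order -/
theorem defectGroup_card_conj (hM : IsPModular p M) (Q : Subgroup G) (x : G)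
    (f : Set (IrrCharacter (Subgroup.centralizer (Q : Set G)))) (hf : IsPBlock M f)
    (D : Subgroup (Subgroup.centralizer (Q : Set G))) (hD : IsDefectGroup p M f D)
    (D₂ : Subgroup (Subgroup.centralizer ((Q.map (MulAut.conj x).toMonoidHom : Subgroup G) : Set G)))
    (hD₂ : IsDefectGroup p M (conjBlock Q x f) D₂) : Nat.card D₂ = Nat.card D := by
  classical
  have hD' : IsDefectGroup p M (conjBlock Q x f) (D.comap (conjCentIso Q x).toMonoidHom) := by
    rw [conjBlock_eq_image]
    exact isDefectGroup_irrMap (conjCentIso Q x) f D hD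
  have hfx : IsPBlock M (conjBlock Q x f) := by
    obtain ⟨θ₀, rfl⟩ := hf
    rw [conjBlock_eq_image, irrMap_image_blockOf]
    exact ⟨_, rfl⟩
  rw [defectGroup_card_eq hM _ hfx _ _ hD₂ hD', Subgroup.comap_equiv_eq_map_symm',
    Subgroup.card_map_of_injective (conjCentIso Q x).symm.injective]

/-- `Q` is fully centralized in the fusion system of `B` iff `C_P(Q)` is a defect group of the
block of `C_G(Q)` below `(P, e)` -/
theorem fullyCentralized_iff (hM : IsPModular p M) (B : Set (IrrCharacter G))
    (P : Subgroup G) (e : Set (IrrCharacter (Subgroup.centralizer (P : Set G))))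
    (hmax : IsMaximalBrauerPair p M B P e)
    (F : FusionSystem P) (hF : IsBlockFusionSystemOn p M B P e F) (Q : Subgroup G)
    (f : Set (IrrCharacter (Subgroup.centralizer (Q : Set G)))) (hQP : Q ≤ P)
    (hf : IsPBlock M f) (hle : SubpairLE p M Q f P e) :
    F.IsFullyCentralized Q ↔ IsDefectGroup p M f
      ((P ⊓ Subgroup.centralizer (Q : Set G)).subgroupOf (Subgroup.centralizer (Q : Set G))) := by
  classical
  have hPe : IsBrauerPair p M P e := hmax.1.1
  have hQp : IsPGroup p Q := hPe.1.to_le hQP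
  constructor
  · intro hfc
    obtain ⟨x, hx, hAx⟩ := exists_conj_centralizer_defectGroup hM B P Q e f hmax hf hle
    have hconj : F.IsConj Q (Q.map (MulAut.conj x).toMonoidHom) :=
      (isConj_iff_of_blockFusion hM B P e F hF Q f hle _).mpr ⟨x, rfl, hx⟩
    have h1 := hfc.2 _ hconj
    obtain ⟨D, hD, hAD⟩ := centralizer_le_defectGroup hM P Q e f hPe hf hle
    have h2 := defectGroup_card_conj hM Q x f hf D hD _ hAx
    have hcard : Nat.card D ≤ Nat.card ((P ⊓ Subgroup.centralizer (Q : Set G)).subgroupOf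
        (Subgroup.centralizer (Q : Set G))) := by
      rw [← h2, card_subgroupOf_inf, card_subgroupOf_inf]
      exact h1
    rw [Subgroup.eq_of_le_of_card_ge hAD hcard]
    exact hD
  · intro hA
    refine ⟨hQP, ?_⟩
    intro Q' hconj
    obtain ⟨g, rfl, hg⟩ := (isConj_iff_of_blockFusion hM B P e F hF Q f hle _).mp hconj
    have hfg : IsPBlock M (conjBlock Q g f) := (brauerPair_conj Q g f ⟨hQp, hf⟩).2
    obtain ⟨D₂, hD₂, hA₂⟩ := centralizer_le_defectGroup hM P _ e (conjBlock Q g f) hPe hfg hg
    have h2 := defectGroup_card_conj hM Q g f hf _ hA D₂ hD₂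
    show Nat.card (P ⊓ Subgroup.centralizer ((Q.map (MulAut.conj g).toMonoidHom : Subgroup G)
      : Set G) : Subgroup G) ≤ Nat.card (P ⊓ Subgroup.centralizer (Q : Set G) : Subgroup G)
    rw [← card_subgroupOf_inf, ← card_subgroupOf_inf, ← h2]
    exact Subgroup.card_le_of_le hA₂

omit [Fintype G] in
theorem center_map_conj (Q : Subgroup G) (g : G) :
    (Q ⊓ Subgroup.centralizer (Q : Set G)).map (MulAut.conj g).toMonoidHom
      = Q.map (MulAut.conj g).toMonoidHom
        ⊓ Subgroup.centralizer ((Q.map (MulAut.conj g).toMonoidHom : Subgroup G) : Set G) := by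
  ext a
  rw [mem_map_conj, Subgroup.mem_inf, Subgroup.mem_inf, mem_map_conj,
    mem_centralizer_map_conj_iff]

/-- `Q` is centric in the fusion system of `B` iff `Z(Q)` is a defect group of the block of
`C_G(Q)` below `(P, e)` -/
theorem centric_iff (hM : IsPModular p M) (B : Set (IrrCharacter G))
    (P : Subgroup G) (e : Set (IrrCharacter (Subgroup.centralizer (P : Set G))))
    (hmax : IsMaximalBrauerPair p M B P e)
    (F : FusionSystem P) (hF : IsBlockFusionSystemOn p M B P e F) (Q : Subgroup G)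
    (f : Set (IrrCharacter (Subgroup.centralizer (Q : Set G)))) (hQP : Q ≤ P)
    (hf : IsPBlock M f) (hle : SubpairLE p M Q f P e) :
    F.IsCentric Q ↔ IsDefectGroup p M f
      ((Q ⊓ Subgroup.centralizer (Q : Set G)).subgroupOf (Subgroup.centralizer (Q : Set G))) := by
  classical
  have hPe : IsBrauerPair p M P e := hmax.1.1
  have hQp : IsPGroup p Q := hPe.1.to_le hQP
  have hZA : (Q ⊓ Subgroup.centralizer (Q : Set G)).subgroupOf (Subgroup.centralizer (Q : Set G))
      ≤ (P ⊓ Subgroup.centralizer (Q : Set G)).subgroupOf (Subgroup.centralizer (Q : Set G)) := by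
    intro a ha
    rw [Subgroup.mem_subgroupOf] at ha ⊢
    exact ⟨hQP ha.1, ha.2⟩
  constructor
  · intro hc
    obtain ⟨x, hx, hAx⟩ := exists_conj_centralizer_defectGroup hM B P Q e f hmax hf hle
    have hconj : F.IsConj Q (Q.map (MulAut.conj x).toMonoidHom) :=
      (isConj_iff_of_blockFusion hM B P e F hF Q f hle _).mpr ⟨x, rfl, hx⟩
    have h1 : P ⊓ Subgroup.centralizer ((Q.map (MulAut.conj x).toMonoidHom : Subgroup G) : Set G)
        ≤ Q.map (MulAut.conj x).toMonoidHom := hc.2 _ hconj
    obtain ⟨D, hD, hAD⟩ := centralizer_le_defectGroup hM P Q e f hPe hf hle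
    have h2 := defectGroup_card_conj hM Q x f hf D hD _ hAx
    have hcard : Nat.card D ≤ Nat.card ((Q ⊓ Subgroup.centralizer (Q : Set G)).subgroupOf
        (Subgroup.centralizer (Q : Set G))) := by
      rw [← h2, card_subgroupOf_inf, card_subgroupOf_inf, ← card_map_conj x
        (Q ⊓ Subgroup.centralizer (Q : Set G)), center_map_conj]
      exact Subgroup.card_le_of_le (le_inf h1 inf_le_right)
    rw [Subgroup.eq_of_le_of_card_ge (hZA.trans hAD) hcard]
    exact hD
  · intro hZ
    refine ⟨hQP, ?_⟩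
    intro Q' hconj
    obtain ⟨g, rfl, hg⟩ := (isConj_iff_of_blockFusion hM B P e F hF Q f hle _).mp hconj
    have hfg : IsPBlock M (conjBlock Q g f) := (brauerPair_conj Q g f ⟨hQp, hf⟩).2
    obtain ⟨D₂, hD₂, hA₂⟩ := centralizer_le_defectGroup hM P _ e (conjBlock Q g f) hPe hfg hg
    have h2 := defectGroup_card_conj hM Q g f hf _ hZ D₂ hD₂
    have hQgP : Q.map (MulAut.conj g).toMonoidHom ≤ P := subpairLE_le hg
    have hZg : (Q.map (MulAut.conj g).toMonoidHom ⊓ Subgroup.centralizer
        ((Q.map (MulAut.conj g).toMonoidHom : Subgroup G) : Set G)).subgroupOf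
        (Subgroup.centralizer ((Q.map (MulAut.conj g).toMonoidHom : Subgroup G) : Set G))
        ≤ D₂ := by
      refine le_trans ?_ hA₂
      intro a ha
      rw [Subgroup.mem_subgroupOf] at ha ⊢
      exact ⟨hQgP ha.1, ha.2⟩
    have hcard : Nat.card D₂ ≤ Nat.card ((Q.map (MulAut.conj g).toMonoidHom ⊓
        Subgroup.centralizer ((Q.map (MulAut.conj g).toMonoidHom : Subgroup G) : Set G)).subgroupOf
        (Subgroup.centralizer ((Q.map (MulAut.conj g).toMonoidHom : Subgroup G) : Set G))) := by
      rw [h2, card_subgroupOf_inf, card_subgroupOf_inf, ← center_map_conj, card_map_conj]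
    have hEq := Subgroup.eq_of_le_of_card_ge hZg hcard
    intro y hy
    have hy' : (⟨y, hy.2⟩ : Subgroup.centralizer
        ((Q.map (MulAut.conj g).toMonoidHom : Subgroup G) : Set G)) ∈ D₂ := by
      apply hA₂
      rw [Subgroup.mem_subgroupOf]
      exact hy
    rw [← hEq, Subgroup.mem_subgroupOf] at hy'
    exact hy'.1

end fully

end Cfsg.Agent.Lib.helper23
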