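import Mathlib
import Cfsg.Agent.Lib.helper23.BPFully
import Cfsg.Agent.Lib.helper23.BlockCentralizer

set_option autoImplicit false

/-!
# The stable block lemma: a block of `C_G(Q)` as a block of its stabilizer
-/

namespace Cfsg.Agent.Lib.helper23

open Cfsg Cfsg.Agent.Lib.helper24 Cfsg.Agent.Lib.helper5
open scoped ComplexConjugate

universe u

section extz

variable {G : Type u} [Group G]

/-- extension by zero of a function on the subgroup `C` to the subgroup `T` -/
noncomputable def extZ (C T : Subgroup G) (β : C → ℂ) : T → ℂ :=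
  fun t => by classical exact if h : (t : G) ∈ C then β ⟨t, h⟩ else 0

theorem extZ_of_mem (C T : Subgroup G) (β : C → ℂ) {t : T} (h : (t : G) ∈ C) :
    extZ C T β t = β ⟨t, h⟩ := by
  unfold extZ
  exact dif_pos h

theorem extZ_of_not_mem (C T : Subgroup G) (β : C → ℂ) {t : T} (h : (t : G) ∉ C) :
    extZ C T β t = 0 := by
  unfold extZ
  exact dif_neg h

theorem subgroupBlockCoeff_eq_extZ (C T : Subgroup G) (f : Set (IrrCharacter C)) (t : T) :
    subgroupBlockCoeff C f (t : G) = extZ C T (blockCoeff f) t := by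
  by_cases h : (t : G) ∈ C
  · rw [extZ_of_mem C T _ h]
    unfold subgroupBlockCoeff
    exact dif_pos h
  · rw [extZ_of_not_mem C T _ h]
    unfold subgroupBlockCoeff
    exact dif_neg h

theorem sum_extZ_mul (C T : Subgroup G) [Fintype C] [Fintype T] (hCT : C ≤ T) (β : C → ℂ)
    (F : T → ℂ) : ∑ t : T, extZ C T β t * F t = ∑ c : C, β c * F ⟨c, hCT c.2⟩ := by
  classical
  have hinj : Function.Injective (fun c : C => (⟨c, hCT c.2⟩ : T)) := by
    intro a b hab
    apply Subtype.ext
    exact congrArg (fun t : T => (t : G)) hab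
  rw [← Finset.sum_subset (Finset.subset_univ (Finset.univ.map ⟨_, hinj⟩))]
  · rw [Finset.sum_map]
    apply Finset.sum_congr rfl
    intro c _
    simp only [Function.Embedding.coeFn_mk]
    rw [extZ_of_mem C T β c.2]
  · intro t _ ht
    rw [extZ_of_not_mem, zero_mul]
    intro hmem
    apply ht
    rw [Finset.mem_map]
    exact ⟨⟨t, hmem⟩, Finset.mem_univ _, rfl⟩

theorem extZ_conv (C T : Subgroup G) [Fintype C] [Fintype T] (hCT : C ≤ T) (β β' : C → ℂ) :
    conv (extZ C T β) (extZ C T β') = extZ C T (conv β β') := by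
  funext t
  unfold conv
  rw [sum_extZ_mul C T hCT]
  by_cases h : (t : G) ∈ C
  · rw [extZ_of_mem C T _ h]
    apply Finset.sum_congr rfl
    intro c _
    rw [extZ_of_mem C T β' (show (((⟨c, hCT c.2⟩ : T)⁻¹ * t : T) : G) ∈ C from
      C.mul_mem (C.inv_mem c.2) h)]
    rfl
  · rw [extZ_of_not_mem C T _ h]
    apply Finset.sum_eq_zero
    intro c _
    rw [extZ_of_not_mem, mul_zero]
    intro hmem
    apply h
    have e : (t : G) = (c : G) * ((((⟨c, hCT c.2⟩ : T)⁻¹ * t : T) : G)) := by
      push_cast
      group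
    rw [e]
    exact C.mul_mem c.2 hmem

theorem extZ_injective (C T : Subgroup G) (hCT : C ≤ T) {β β' : C → ℂ}
    (h : extZ C T β = extZ C T β') : β = β' := by
  funext c
  have h1 := congrFun h ⟨c, hCT c.2⟩
  rw [extZ_of_mem C T β c.2, extZ_of_mem C T β' c.2] at h1
  exact h1

theorem eq_extZ_of_support (C T : Subgroup G) (hCT : C ≤ T) (b : T → ℂ)
    (hb : ∀ t : T, (t : G) ∉ C → b t = 0) :
    b = extZ C T (fun c => b ⟨c, hCT c.2⟩) := by
  funext t
  by_cases h : (t : G) ∈ C
  · rw [extZ_of_mem C T _ h]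
  · rw [extZ_of_not_mem C T _ h, hb t h]

end extz

section gen

variable {K : Type u} [Group K] [Fintype K] [Fintype (IrrCharacter K)]
variable {M : Ideal AlgInt}

/-- a nonzero class function, idempotent for convolution, has a coordinate equal to `1` -/
theorem exists_coord_eq_one {a : K → ℂ} (ha : IsClassFunction K a) (hidem : conv a a = a)
    (hne : a ≠ 0) : ∃ χ : IrrCharacter K, coord a χ = 1 := by
  by_contra hcon
  push Not at hcon
  apply hne
  have h0 : coord a = 0 := by
    funext χ
    rcases coord_zero_or_one ha hidem χ with h | h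
    · exact h
    · exact absurd h (hcon χ)
  funext g
  rw [← coef_coord a ha g, h0, coef_zero]
  rfl

theorem blockCoeff_ne_zero (S : Set (IrrCharacter K)) (hS : S.Nonempty) : blockCoeff S ≠ 0 := by
  intro h0
  obtain ⟨θ, hθ⟩ := hS
  have h1 : S.indicator (fun _ => (1 : ℂ)) = 0 := by
    apply coef_injective
    funext g
    rw [coef_indicator, h0, coef_zero]
    rfl
  have h2 := congrFun h1 θ
  rw [Set.indicator_of_mem hθ] at h2
  exact one_ne_zero h2

theorem eq_of_blockCoeff_eq (S S' : Set (IrrCharacter K)) (h : blockCoeff S = blockCoeff S') :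
    S = S' := by
  have h1 : S.indicator (fun _ => (1 : ℂ)) = S'.indicator (fun _ => (1 : ℂ)) := by
    apply coef_injective
    funext g
    rw [coef_indicator, coef_indicator, h]
  ext θ
  have h2 := congrFun h1 θ
  by_cases hθ : θ ∈ S
  · rw [Set.indicator_of_mem hθ] at h2
    constructor
    · intro _
      by_contra hn
      rw [Set.indicator_of_notMem hn] at h2
      exact one_ne_zero h2
    · intro _
      exact hθ
  · rw [Set.indicator_of_notMem hθ] at h2
    constructor
    · intro h'
      exact absurd h' hθ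
    · intro h'
      rw [Set.indicator_of_mem h'] at h2
      exact absurd h2.symm one_ne_zero

theorem coord_blockCoeff (S : Set (IrrCharacter K)) :
    coord (blockCoeff S) = S.indicator (fun _ => (1 : ℂ)) := by
  rw [← coord_coef (S.indicator (fun _ => (1 : ℂ)))]
  congr 1
  funext g
  rw [coef_indicator]

end gen

section sbl

variable {G : Type u} [Group G] [Fintype G]
variable {M : Ideal AlgInt} {p : ℕ} [Fact p.Prime]

/-- **Stable block lemma**: a block `f` of `C_G(Q)` stabilized by a subgroup `T` with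
`Q C_G(Q) ≤ T ≤ N_G(Q)` is (the idempotent of) a block of `T`. -/
theorem exists_block_of_stable (hM : IsPModular p M) (Q T : Subgroup G) (hQ : IsPGroup p Q)
    (hQT : Q ≤ T) (hCT : Subgroup.centralizer (Q : Set G) ≤ T)
    (hTN : T ≤ Subgroup.normalizer (Q : Set G))
    (f : Set (IrrCharacter (Subgroup.centralizer (Q : Set G)))) (hf : IsPBlock M f)
    (hst : ∀ t ∈ T, StabilizesBlock (Subgroup.centralizer (Q : Set G)) f t) :
    ∃ F : Set (IrrCharacter T), IsPBlock M F ∧
      ∀ t : T, blockCoeff F t = subgroupBlockCoeff (Subgroup.centralizer (Q : Set G)) f (t : G) := by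
  classical
  have : Fintype (Subgroup.centralizer (Q : Set G)) := Fintype.ofFinite _
  have : Fintype (IrrCharacter (Subgroup.centralizer (Q : Set G))) := Fintype.ofFinite _
  have : Fintype T := Fintype.ofFinite _
  have : Fintype (IrrCharacter T) := Fintype.ofFinite _
  have hMp := isPModular_isPrime hM
  obtain ⟨a, ha⟩ : ∃ a : T → ℂ, a = extZ (Subgroup.centralizer (Q : Set G)) T (blockCoeff f) :=
    ⟨_, rfl⟩
  have hfne : f.Nonempty := by
    obtain ⟨θ₀, rfl⟩ := hf
    exact ⟨θ₀, mem_blockOf_self hMp.ne_top θ₀⟩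
  -- `a` is a class function
  have haC : IsClassFunction T a := by
    intro t h
    rw [ha]
    have hhN : (h : G) ∈ Subgroup.normalizer
        ((Subgroup.centralizer (Q : Set G) : Subgroup G) : Set G) :=
      normalizer_le_normalizer_centralizer Q (hTN h.2)
    by_cases ht : (t : G) ∈ Subgroup.centralizer (Q : Set G)
    · have ht' : ((h * t * h⁻¹ : T) : G) ∈ Subgroup.centralizer (Q : Set G) := by
        have := (Subgroup.mem_normalizer_iff.mp hhN (t : G)).mp ht
        simpa using this
      rw [extZ_of_mem _ T _ ht, extZ_of_mem _ T _ ht']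
      have h1 := blockCoeff_conjAut_of_stable hMp (Subgroup.centralizer (Q : Set G)) (h : G)⁻¹
        (inv_mem hhN) f hf (hst _ (inv_mem h.2)) ⟨t, ht⟩
      have e1 : (⟨((h * t * h⁻¹ : T) : G), ht'⟩ : Subgroup.centralizer (Q : Set G))
          = conjAut (Subgroup.centralizer (Q : Set G)) (h : G)⁻¹ (inv_mem hhN) ⟨t, ht⟩ := by
        apply Subtype.ext
        rw [conjAut_coe]
        push_cast
        group
      rw [e1]
      exact h1
    · have ht' : ((h * t * h⁻¹ : T) : G) ∉ Subgroup.centralizer (Q : Set G) := by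
        intro hmem
        apply ht
        have := (Subgroup.mem_normalizer_iff.mp hhN (t : G)).mpr (by simpa using hmem)
        exact this
      rw [extZ_of_not_mem _ T _ ht, extZ_of_not_mem _ T _ ht']
  have haR : ∀ t, MemLocalRing M (a t) := by
    intro t
    rw [ha]
    by_cases ht : (t : G) ∈ Subgroup.centralizer (Q : Set G)
    · rw [extZ_of_mem _ T _ ht]
      exact memLocalRing_blockCoeff' hM hf _
    · rw [extZ_of_not_mem _ T _ ht]
      exact memLocalRing_zero hMp.ne_top
  have haI : conv a a = a := by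
    rw [ha, extZ_conv _ T hCT, conv_blockCoeff_self]
  have hane : a ≠ 0 := by
    intro h0
    apply blockCoeff_ne_zero f hfne
    funext c
    have h1 := congrFun h0 ⟨c, hCT c.2⟩
    rw [ha, extZ_of_mem _ T _ c.2] at h1
    exact h1
  obtain ⟨χ₁, hχ₁⟩ := exists_coord_eq_one haC haI hane
  -- the product of the idempotent of the block of `χ₁` with `a`
  have hconv : conv (blockCoeff (blockOf M χ₁.1)) a = blockCoeff (blockOf M χ₁.1) := by
    funext t
    have hc := coord_conv (blockCoeff_isClassFunction (blockOf M χ₁.1)) haC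
    rw [← coef_coord _ (conv_isClassFunction (blockCoeff_isClassFunction _) haC) t, hc,
      coord_blockCoeff]
    have hprod : (blockOf M χ₁.1).indicator (fun _ => (1 : ℂ)) * coord a
        = (blockOf M χ₁.1).indicator (fun _ => (1 : ℂ)) := by
      funext ψ
      rw [Pi.mul_apply]
      by_cases hψ : ψ ∈ blockOf M χ₁.1
      · rw [Set.indicator_of_mem hψ, one_mul, ← coord_eq_of_sameBlock hMp haC haR haI hψ, hχ₁]
      · rw [Set.indicator_of_notMem hψ, zero_mul]
    rw [hprod, coef_indicator]
  -- support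
  have hsupp : ∀ t : T, (t : G) ∉ Subgroup.centralizer (Q : Set G) →
      blockCoeff (blockOf M χ₁.1) t = 0 := by
    intro t ht
    haveI : (Q.subgroupOf T).Normal := (Subgroup.normal_subgroupOf_iff_le_normalizer hQT).mpr hTN
    apply blockCoeff_eq_zero_of_not_mem_centralizer hM (Q.subgroupOf T) hQ.comap_subtype _
      ⟨χ₁, rfl⟩ t
    intro hmem
    apply ht
    rw [Subgroup.mem_centralizer_iff]
    intro q hq
    have h1 := Subgroup.mem_centralizer_iff.mp hmem ⟨q, hQT hq⟩
      (by rw [SetLike.mem_coe, Subgroup.mem_subgroupOf]; exact hq)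
    exact congrArg (fun t : T => (t : G)) h1
  obtain ⟨α, hα⟩ : ∃ α : Subgroup.centralizer (Q : Set G) → ℂ,
      α = fun c : Subgroup.centralizer (Q : Set G) =>
        blockCoeff (blockOf M χ₁.1) (⟨c, hCT c.2⟩ : T) := ⟨_, rfl⟩
  have hext : blockCoeff (blockOf M χ₁.1) = extZ (Subgroup.centralizer (Q : Set G)) T α := by
    rw [hα]
    exact eq_extZ_of_support _ T hCT _ hsupp
  have hαC : IsClassFunction (Subgroup.centralizer (Q : Set G)) α := by
    intro c h
    rw [hα]
    exact blockCoeff_isClassFunction (blockOf M χ₁.1) ⟨c, hCT c.2⟩ ⟨h, hCT h.2⟩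
  have hαR : ∀ c, MemLocalRing M (α c) := by
    intro c
    rw [hα]
    exact memLocalRing_blockCoeff hM χ₁ _
  have hαI : conv α α = α := by
    apply extZ_injective _ T hCT
    rw [← extZ_conv _ T hCT, ← hext, conv_blockCoeff_self]
  have hαf : conv α (blockCoeff f) = α := by
    apply extZ_injective _ T hCT
    rw [← extZ_conv _ T hCT, ← hext, ← ha, hconv]
  have hαne : α ≠ 0 := by
    intro h0
    apply blockCoeff_ne_zero (blockOf M χ₁.1) ⟨χ₁, mem_blockOf_self hMp.ne_top χ₁⟩
    rw [hext, h0]
    funext t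
    by_cases ht : (t : G) ∈ Subgroup.centralizer (Q : Set G)
    · rw [extZ_of_mem _ T _ ht]
      rfl
    · rw [extZ_of_not_mem _ T _ ht]
      rfl
  obtain ⟨θ, hθ⟩ := exists_coord_eq_one hαC hαI hαne
  have hmul : coord α * f.indicator (fun _ => (1 : ℂ)) = coord α := by
    rw [← coord_blockCoeff, ← coord_conv hαC (blockCoeff_isClassFunction f), hαf]
  have hθf : θ ∈ f := by
    by_contra hn
    have h1 := congrFun hmul θ
    rw [Pi.mul_apply, Set.indicator_of_notMem hn, mul_zero, hθ] at h1
    exact zero_ne_one h1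
  have hcoord : coord α = f.indicator (fun _ => (1 : ℂ)) := by
    funext ξ
    by_cases hξ : ξ ∈ f
    · rw [Set.indicator_of_mem hξ]
      obtain ⟨θ₀, rfl⟩ := hf
      have h1 : SameBlock M θ.1 ξ.1 := by
        have h2 : ξ ∈ blockOf M θ.1 := by
          rw [blockOf_eq_of_mem hMp hθf]
          exact hξ
        exact h2
      rw [← coord_eq_of_sameBlock hMp hαC hαR hαI h1, hθ]
    · rw [Set.indicator_of_notMem hξ]
      have h1 := congrFun hmul ξ
      rw [Pi.mul_apply, Set.indicator_of_notMem hξ, mul_zero] at h1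
      exact h1.symm
  have hαeq : α = blockCoeff f := by
    funext c
    rw [← coef_coord α hαC c, hcoord, coef_indicator]
  refine ⟨blockOf M χ₁.1, ⟨χ₁, rfl⟩, fun t => ?_⟩
  rw [subgroupBlockCoeff_eq_extZ _ T f t, hext, hαeq]

end sbl

end Cfsg.Agent.Lib.helper23
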