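import Mathlib
import Cfsg.Agent.Lib.helper23.BPStable

set_option autoImplicit false

/-!
# The normalizer `N_P(Q)` and the defect groups of the block of the stabilizer of `(Q, f)`
-/

namespace Cfsg.Agent.Lib.helper23

open Cfsg Cfsg.Agent.Lib.helper24 Cfsg.Agent.Lib.helper5
open scoped ComplexConjugate

universe u

section iso

variable {G : Type u} [Group G]

/-- conjugation by `x⁻¹` as an isomorphism between subgroups -/
def conjSubIso (x : G) (T T' : Subgroup G) (h : ∀ y, y ∈ T' ↔ x⁻¹ * y * x ∈ T) : T' ≃* T where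
  toFun t := ⟨x⁻¹ * (t : G) * x, (h t).mp t.2⟩
  invFun t := ⟨x * (t : G) * x⁻¹, (h _).mpr (by
    have e : x⁻¹ * (x * (t : G) * x⁻¹) * x = t := by group
    rw [e]
    exact t.2)⟩
  left_inv t := by
    apply Subtype.ext
    show x * (x⁻¹ * (t : G) * x) * x⁻¹ = t
    group
  right_inv t := by
    apply Subtype.ext
    show x⁻¹ * (x * (t : G) * x⁻¹) * x = t
    group
  map_mul' a b := by
    apply Subtype.ext
    show x⁻¹ * ((a : G) * (b : G)) * x = x⁻¹ * (a : G) * x * (x⁻¹ * (b : G) * x)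
    group

theorem conjSubIso_coe (x : G) (T T' : Subgroup G) (h : ∀ y, y ∈ T' ↔ x⁻¹ * y * x ∈ T)
    (t : T') : ((conjSubIso x T T' h t : T) : G) = x⁻¹ * (t : G) * x := rfl

/-- the stabilizer condition for an index of a Brauer pair -/
def StabIdx (a : BrauerPairIdx G) (y : G) : Prop :=
  y ∈ Subgroup.normalizer (a.1 : Set G) ∧ StabilizesBlock (Subgroup.centralizer (a.1 : Set G)) a.2 y

theorem stabIdx_conj (a : BrauerPairIdx G) (x y : G) (h : StabIdx a y) :
    StabIdx (conjIdx x a) (x * y * x⁻¹) :=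
  ⟨mem_normalizer_map_conj a.1 x y h.1, stabilizesBlock_conjBlock a.1 x y a.2 h.1 h.2⟩

theorem stabIdx_conj_iff (a : BrauerPairIdx G) (x y : G) :
    StabIdx (conjIdx x a) y ↔ StabIdx a (x⁻¹ * y * x) := by
  constructor
  · intro h
    have h1 := stabIdx_conj (conjIdx x a) x⁻¹ y h
    rw [conjIdx_mul, inv_mul_cancel, conjIdx_one, inv_inv] at h1
    exact h1
  · intro h
    have h1 := stabIdx_conj a x _ h
    have e : x * (x⁻¹ * y * x) * x⁻¹ = y := by group
    rw [e] at h1
    exact h1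

end iso

section norm

variable {G : Type u} [Group G] [Fintype G]
variable {M : Ideal AlgInt} {p : ℕ} [Fact p.Prime]

/-- for `(Q, f) ≤ (P, e)`, the pair `(Q, f)` is normal in a pair on `N_P(Q)` -/
theorem exists_normalSubpair_normalizer (hM : IsPModular p M) (P Q : Subgroup G)
    (e : Set (IrrCharacter (Subgroup.centralizer (P : Set G))))
    (f : Set (IrrCharacter (Subgroup.centralizer (Q : Set G))))
    (hPe : IsBrauerPair p M P e) (hle : SubpairLE p M Q f P e) :
    ∃ g : Set (IrrCharacter (Subgroup.centralizer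
        ((P ⊓ Subgroup.normalizer (Q : Set G) : Subgroup G) : Set G))),
      IsNormalSubpair p M Q f (P ⊓ Subgroup.normalizer (Q : Set G)) g ∧
        SubpairLE p M (P ⊓ Subgroup.normalizer (Q : Set G)) g P e := by
  classical
  have hQP : Q ≤ P := subpairLE_le hle
  have hQR : Q ≤ P ⊓ Subgroup.normalizer (Q : Set G) := le_inf hQP Subgroup.le_normalizer
  obtain ⟨g, hg, hgle⟩ := exists_subpairLE hM _ P (P ⊓ Subgroup.normalizer (Q : Set G)) e hPe
    inf_le_left rfl
  have hRg : IsBrauerPair p M (P ⊓ Subgroup.normalizer (Q : Set G)) g :=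
    ⟨hPe.1.to_le inf_le_left, hg⟩
  obtain ⟨f', hf', -⟩ := unique_normal_subpair p M hM (P ⊓ Subgroup.normalizer (Q : Set G)) Q g
    hRg hQR inf_le_right
  have hff : f' = f := subpairLE_unique hM hPe
    (Relation.ReflTransGen.head
      (show NormalSubpairRel p M ⟨Q, f'⟩ ⟨P ⊓ Subgroup.normalizer (Q : Set G), g⟩ from hf') hgle)
    hle
  rw [hff] at hf'
  exact ⟨g, hf', hgle⟩

/-- for `(Q, f) ≤ (P, e)`, every element of `N_P(Q)` stabilizes `f` -/
theorem stabilizes_of_mem_normalizer (hM : IsPModular p M) (P Q : Subgroup G)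
    (e : Set (IrrCharacter (Subgroup.centralizer (P : Set G))))
    (f : Set (IrrCharacter (Subgroup.centralizer (Q : Set G))))
    (hPe : IsBrauerPair p M P e) (hle : SubpairLE p M Q f P e) (u : G)
    (hu : u ∈ P ⊓ Subgroup.normalizer (Q : Set G)) :
    StabilizesBlock (Subgroup.centralizer (Q : Set G)) f u := by
  obtain ⟨g, hg, -⟩ := exists_normalSubpair_normalizer hM P Q e f hPe hle
  exact hg.2.2.2.2.1 u hu

/-- a normal subpair `(Q, f) ⊴ (R, g)` has an element of `C_G(R)` at which the idempotent of `f`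
is not in the ideal -/
theorem exists_coef_of_normalSubpair (hM : IsPModular p M) (Q R : Subgroup G)
    (f : Set (IrrCharacter (Subgroup.centralizer (Q : Set G))))
    (g : Set (IrrCharacter (Subgroup.centralizer (R : Set G))))
    (h : IsNormalSubpair p M Q f R g) :
    ∃ c : G, c ∈ Subgroup.centralizer (R : Set G) ∧
      ¬ MemLocalIdeal M (subgroupBlockCoeff (Subgroup.centralizer (Q : Set G)) f c) := by
  classical
  have : Fintype (Subgroup.centralizer (Q : Set G)) := Fintype.ofFinite _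
  have : Fintype (IrrCharacter (Subgroup.centralizer (Q : Set G))) := Fintype.ofFinite _
  have : Fintype (Subgroup.centralizer (R : Set G)) := Fintype.ofFinite _
  have : Fintype (IrrCharacter (Subgroup.centralizer (R : Set G))) := Fintype.ofFinite _
  have hMp := isPModular_isPrime hM
  have hQR : Q ≤ R := h.2.2.1
  have hRN : R ≤ Subgroup.normalizer (Q : Set G) := h.2.2.2.1
  have hg : IsPBlock M g := h.2.1.2
  obtain ⟨ζ₀, hζ₀⟩ : ∃ ζ₀ : IrrCharacter (Subgroup.centralizer (R : Set G)), ζ₀ ∈ g := by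
    obtain ⟨χ, rfl⟩ := hg
    exact ⟨χ, mem_blockOf_self hMp.ne_top χ⟩
  obtain ⟨-, hst, hlam⟩ := (isNormalSubpair_iff Q R hM h.2.1.1 hQR hRN g hg ζ₀ hζ₀ f).mp h
  have hex : ∃ c : Subgroup.centralizer (R : Set G),
      ¬ MemLocalIdeal M (blockCoeff f ⟨c, centralizer_le_of_le hQR c.2⟩) := by
    by_contra hcon
    push Not at hcon
    have h2 : MemLocalIdeal M (lamB Q R hQR f ζ₀) := by
      unfold lamB
      exact memLocalIdeal_coord_of_classFunction hMp
        (truncC_isClassFunction _ R _ (blockCoeff_isClassFunction f)) (fun c => hcon c) ζ₀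
    have := memLocalIdeal_sub hMp h2 hlam
    rw [sub_sub_cancel] at this
    exact not_memLocalIdeal_one hMp this
  obtain ⟨c, hc⟩ := hex
  refine ⟨c, c.2, ?_⟩
  unfold subgroupBlockCoeff
  rw [dif_pos (centralizer_le_of_le hQR c.2)]
  exact hc

/-- for `(Q, f) ≤ (P, e)` and a block `F` of a subgroup `T ≥ C_G(Q)` with the idempotent of `f`,
the normalizer `N_P(Q)` lies in a defect group of `F` -/
theorem normalizer_le_defectGroup (hM : IsPModular p M) (P Q : Subgroup G)
    (e : Set (IrrCharacter (Subgroup.centralizer (P : Set G))))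
    (f : Set (IrrCharacter (Subgroup.centralizer (Q : Set G))))
    (hPe : IsBrauerPair p M P e) (hle : SubpairLE p M Q f P e) (T : Subgroup G)
    (hCT : Subgroup.centralizer (Q : Set G) ≤ T) (F : Set (IrrCharacter T)) (hF : IsPBlock M F)
    (hFf : ∀ t : T, blockCoeff F t = subgroupBlockCoeff (Subgroup.centralizer (Q : Set G)) f (t : G)) :
    ∃ D : Subgroup T, IsDefectGroup p M F D ∧
      (P ⊓ Subgroup.normalizer (Q : Set G)).subgroupOf T ≤ D := by
  classical
  have : Fintype T := Fintype.ofFinite _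
  have : Fintype (IrrCharacter T) := Fintype.ofFinite _
  have hMp := isPModular_isPrime hM
  have hQP : Q ≤ P := subpairLE_le hle
  have hQR : Q ≤ P ⊓ Subgroup.normalizer (Q : Set G) := le_inf hQP Subgroup.le_normalizer
  obtain ⟨g, hg, -⟩ := exists_normalSubpair_normalizer hM P Q e f hPe hle
  obtain ⟨c, hcR, hc⟩ := exists_coef_of_normalSubpair hM Q _ f g hg
  have hcT : c ∈ T := hCT (centralizer_le_of_le hQR hcR)
  obtain ⟨χ₁, rfl⟩ := hF
  obtain ⟨g₁, hg₁⟩ := exists_defectClass hMp χ₁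
  obtain ⟨D₁⟩ : Nonempty (Sylow p (Subgroup.centralizer ({g₁} : Set T))) := inferInstance
  have hA : IsPGroup p ((P ⊓ Subgroup.normalizer (Q : Set G)).subgroupOf T) :=
    (hPe.1.to_le inf_le_left).comap_subtype
  have hAc : (P ⊓ Subgroup.normalizer (Q : Set G)).subgroupOf T
      ≤ Subgroup.centralizer ({(⟨c, hcT⟩ : T)} : Set T) := by
    intro a ha
    rw [Subgroup.mem_subgroupOf] at ha
    rw [mem_centralizer_singleton_comm]
    apply Subtype.ext
    exact (Subgroup.mem_centralizer_iff.mp hcR (a : G) ha).symm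
  have hv : ¬ MemLocalIdeal M (blockCoeff (blockOf M χ₁.1) (⟨c, hcT⟩ : T)) := by
    rw [hFf]
    exact hc
  obtain ⟨h, hh⟩ := key_conj hM χ₁ g₁ ⟨c, hcT⟩
    (hg₁.2.2 χ₁ (mem_blockOf_self hMp.ne_top χ₁)) hv D₁ _ hA hAc
  exact ⟨_, isDefectGroup_conj ⟨g₁, hg₁, D₁, rfl⟩ h⁻¹, map_conj_le_iff.mp hh⟩

end norm

end Cfsg.Agent.Lib.helper23
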