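import Mathlib
import Cfsg.Agent.Lib.helper23.BPStable2

set_option autoImplicit false

/-!
# Fully normalized subgroups of the fusion system of a block
-/

namespace Cfsg.Agent.Lib.helper23

open Cfsg Cfsg.Agent.Lib.helper24 Cfsg.Agent.Lib.helper5
open scoped ComplexConjugate

universe u

section grp

variable {G : Type u} [Group G]

theorem card_subgroupOf_of_le {H K : Subgroup G} (h : H ≤ K) :
    Nat.card (H.subgroupOf K) = Nat.card H :=
  Nat.card_congr (Subgroup.subgroupOfEquivOfLe h).toEquiv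

/-- basic facts on the stabilizer `T` of `(Q, f)` -/
theorem stab_facts (Q : Subgroup G) (f : Set (IrrCharacter (Subgroup.centralizer (Q : Set G))))
    (T : Subgroup G)
    (hT : ∀ y : G, y ∈ T ↔ y ∈ Subgroup.normalizer (Q : Set G) ∧
      StabilizesBlock (Subgroup.centralizer (Q : Set G)) f y) :
    Q ≤ T ∧ Subgroup.centralizer (Q : Set G) ≤ T ∧ T ≤ Subgroup.normalizer (Q : Set G) ∧
      ∀ t ∈ T, StabilizesBlock (Subgroup.centralizer (Q : Set G)) f t := by
  refine ⟨?_, ?_, ?_, ?_⟩
  · intro q hq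
    rw [hT]
    exact ⟨Subgroup.le_normalizer hq, stabilizesBlock_of_mem_sup Q f q (Subgroup.mem_sup_left hq)⟩
  · intro c hc
    rw [hT]
    exact ⟨Subgroup.centralizer_le_normalizer _ hc,
      stabilizesBlock_of_mem_sup Q f c (Subgroup.mem_sup_right hc)⟩
  · intro t ht
    exact ((hT t).mp ht).1
  · intro t ht
    exact ((hT t).mp ht).2

/-- the stabilizer of the conjugate pair is the conjugate of the stabilizer -/
theorem stab_conj_iff (Q : Subgroup G) (f : Set (IrrCharacter (Subgroup.centralizer (Q : Set G))))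
    (x : G) (T T' : Subgroup G)
    (hT : ∀ y : G, y ∈ T ↔ y ∈ Subgroup.normalizer (Q : Set G) ∧
      StabilizesBlock (Subgroup.centralizer (Q : Set G)) f y)
    (hT' : ∀ y : G, y ∈ T' ↔
      y ∈ Subgroup.normalizer ((Q.map (MulAut.conj x).toMonoidHom : Subgroup G) : Set G) ∧
      StabilizesBlock (Subgroup.centralizer ((Q.map (MulAut.conj x).toMonoidHom : Subgroup G) : Set G))
        (conjBlock Q x f) y) :
    ∀ y, y ∈ T' ↔ x⁻¹ * y * x ∈ T := by
  intro y
  rw [hT', hT]
  exact stabIdx_conj_iff ⟨Q, f⟩ x y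

theorem stab_map_conj (Q : Subgroup G) (f : Set (IrrCharacter (Subgroup.centralizer (Q : Set G))))
    (x : G) (T : Subgroup G)
    (hT : ∀ y : G, y ∈ T ↔ y ∈ Subgroup.normalizer (Q : Set G) ∧
      StabilizesBlock (Subgroup.centralizer (Q : Set G)) f y) :
    ∀ y : G, y ∈ T.map (MulAut.conj x).toMonoidHom ↔
      y ∈ Subgroup.normalizer ((Q.map (MulAut.conj x).toMonoidHom : Subgroup G) : Set G) ∧
      StabilizesBlock (Subgroup.centralizer ((Q.map (MulAut.conj x).toMonoidHom : Subgroup G) : Set G))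
        (conjBlock Q x f) y := by
  intro y
  rw [mem_map_conj, hT]
  exact (stabIdx_conj_iff ⟨Q, f⟩ x y).symm

end grp

section fn

variable {G : Type u} [Group G] [Fintype G]
variable {M : Ideal AlgInt} {p : ℕ} [Fact p.Prime]

/-- transport of a block of the stabilizer along conjugation -/
theorem exists_block_transport (Q : Subgroup G) (x : G)
    (f : Set (IrrCharacter (Subgroup.centralizer (Q : Set G)))) (T T' : Subgroup G)
    (hT : ∀ y : G, y ∈ T ↔ y ∈ Subgroup.normalizer (Q : Set G) ∧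
      StabilizesBlock (Subgroup.centralizer (Q : Set G)) f y)
    (hT' : ∀ y : G, y ∈ T' ↔
      y ∈ Subgroup.normalizer ((Q.map (MulAut.conj x).toMonoidHom : Subgroup G) : Set G) ∧
      StabilizesBlock (Subgroup.centralizer ((Q.map (MulAut.conj x).toMonoidHom : Subgroup G) : Set G))
        (conjBlock Q x f) y)
    (F : Set (IrrCharacter T)) (hF : IsPBlock M F)
    (hFf : ∀ t : T, blockCoeff F t = subgroupBlockCoeff (Subgroup.centralizer (Q : Set G)) f (t : G)) :
    ∃ F' : Set (IrrCharacter T'), IsPBlock M F' ∧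
      (∀ t : T', blockCoeff F' t = subgroupBlockCoeff
        (Subgroup.centralizer ((Q.map (MulAut.conj x).toMonoidHom : Subgroup G) : Set G))
        (conjBlock Q x f) (t : G)) ∧
      ∀ D : Subgroup T, IsDefectGroup p M F D →
        ∃ D' : Subgroup T', IsDefectGroup p M F' D' ∧ Nat.card D' = Nat.card D := by
  classical
  have hiso := stab_conj_iff Q f x T T' hT hT'
  refine ⟨irrMap (conjSubIso x T T' hiso) '' F, ?_, ?_, ?_⟩
  · obtain ⟨χ₁, rfl⟩ := hF
    rw [irrMap_image_blockOf]
    exact ⟨_, rfl⟩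
  · intro t
    rw [blockCoeff_image_irrMap, hFf, subgroupBlockCoeff_conjBlock]
    rfl
  · intro D hD
    refine ⟨D.comap (conjSubIso x T T' hiso).toMonoidHom,
      isDefectGroup_irrMap (conjSubIso x T T' hiso) F D hD, ?_⟩
    rw [Subgroup.comap_equiv_eq_map_symm',
      Subgroup.card_map_of_injective (conjSubIso x T T' hiso).symm.injective]

/-- `N_P(Q)` lies in the stabilizer of `(Q, f)` when `(Q, f) ≤ (P, e)` -/
theorem normalizer_le_stab (hM : IsPModular p M) (P Q : Subgroup G)
    (e : Set (IrrCharacter (Subgroup.centralizer (P : Set G))))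
    (f : Set (IrrCharacter (Subgroup.centralizer (Q : Set G))))
    (hPe : IsBrauerPair p M P e) (hle : SubpairLE p M Q f P e) (T : Subgroup G)
    (hT : ∀ y : G, y ∈ T ↔ y ∈ Subgroup.normalizer (Q : Set G) ∧
      StabilizesBlock (Subgroup.centralizer (Q : Set G)) f y) :
    P ⊓ Subgroup.normalizer (Q : Set G) ≤ T := by
  intro u hu
  rw [hT]
  exact ⟨hu.2, stabilizes_of_mem_normalizer hM P Q e f hPe hle u hu⟩

/-- some conjugate `(Q, f)^x ≤ (P, e)` has `|N_P(Q^x)|` at least the order of the defect groups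
of the block `F` of the stabilizer -/
theorem exists_conj_normalizer_card (hM : IsPModular p M) (B : Set (IrrCharacter G))
    (P Q : Subgroup G) (e : Set (IrrCharacter (Subgroup.centralizer (P : Set G))))
    (f : Set (IrrCharacter (Subgroup.centralizer (Q : Set G))))
    (hmax : IsMaximalBrauerPair p M B P e) (hf : IsPBlock M f) (hle : SubpairLE p M Q f P e)
    (T : Subgroup G) (hQT : Q ≤ T) (hTN : T ≤ Subgroup.normalizer (Q : Set G))
    (hTst : ∀ t ∈ T, StabilizesBlock (Subgroup.centralizer (Q : Set G)) f t)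
    (F : Set (IrrCharacter T)) (hF : IsPBlock M F)
    (hFf : ∀ t : T, blockCoeff F t = subgroupBlockCoeff (Subgroup.centralizer (Q : Set G)) f (t : G)) :
    ∃ x : G, SubpairLE p M (Q.map (MulAut.conj x).toMonoidHom) (conjBlock Q x f) P e ∧
      ∀ D : Subgroup T, IsDefectGroup p M F D →
        Nat.card D ≤ Nat.card (P ⊓ Subgroup.normalizer
          ((Q.map (MulAut.conj x).toMonoidHom : Subgroup G) : Set G) : Subgroup G) := by
  classical
  have : Fintype T := Fintype.ofFinite _
  have : Fintype (IrrCharacter T) := Fintype.ofFinite _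
  have : Fintype (Subgroup.centralizer (Q : Set G)) := Fintype.ofFinite _
  have : Fintype (IrrCharacter (Subgroup.centralizer (Q : Set G))) := Fintype.ofFinite _
  have hMp := isPModular_isPrime hM
  have hPe : IsBrauerPair p M P e := hmax.1.1
  have hQP : Q ≤ P := subpairLE_le hle
  have hQ : IsPGroup p Q := hPe.1.to_le hQP
  have hF' := hF
  obtain ⟨χ₁, rfl⟩ := hF
  obtain ⟨g₁, hg₁⟩ := exists_defectClass hMp χ₁
  obtain ⟨D₁⟩ : Nonempty (Sylow p (Subgroup.centralizer ({g₁} : Set T))) := inferInstance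
  haveI : (Q.subgroupOf T).Normal := (Subgroup.normal_subgroupOf_iff_le_normalizer hQT).mpr hTN
  have hQD := normal_pgroup_le_sylow_centralizer hM χ₁ g₁
    (hg₁.2.2 χ₁ (mem_blockOf_self hMp.ne_top χ₁)) (Q.subgroupOf T) hQ.comap_subtype D₁
  obtain ⟨D₂, hD₂⟩ : ∃ D₂ : Subgroup T, D₂ = (D₁ : Subgroup _).map
    (Subgroup.centralizer ({g₁} : Set T)).subtype := ⟨_, rfl⟩
  obtain ⟨R', hR'⟩ : ∃ R' : Subgroup G, R' = D₂.map T.subtype := ⟨_, rfl⟩
  have hD₂def : IsDefectGroup p M (blockOf M χ₁.1) D₂ := ⟨g₁, hg₁, D₁, hD₂⟩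
  have hQR' : Q ≤ R' := by
    intro q hq
    rw [hR', Subgroup.mem_map]
    refine ⟨⟨q, hQT hq⟩, ?_, rfl⟩
    rw [hD₂]
    exact hQD (Subgroup.mem_subgroupOf.mpr hq)
  have hR'T : R' ≤ T := by
    rw [hR']
    rintro _ ⟨d, -, rfl⟩
    exact d.2
  have hR'N : R' ≤ Subgroup.normalizer (Q : Set G) := hR'T.trans hTN
  have hD₂p : IsPGroup p D₂ := by
    rw [hD₂]
    exact sylow_map_isPGroup _ D₁
  have hR'p : IsPGroup p R' := by
    rw [hR']
    exact hD₂p.map _
  have hst : PStable R' (Subgroup.centralizer (Q : Set G)) f := fun u hu => hTst u (hR'T hu)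
  have hcR : (g₁ : G) ∈ Subgroup.centralizer (R' : Set G) := by
    rw [Subgroup.mem_centralizer_iff]
    intro r hr
    rw [SetLike.mem_coe, hR', Subgroup.mem_map] at hr
    obtain ⟨d, hd, rfl⟩ := hr
    have hd' : d ∈ Subgroup.centralizer ({g₁} : Set T) := by
      rw [hD₂] at hd
      exact sylow_map_le _ D₁ hd
    have h1 := Subgroup.mem_centralizer_iff.mp hd' g₁ rfl
    exact (congrArg (fun t : T => (t : G)) h1).symm
  have hcQ : (g₁ : G) ∈ Subgroup.centralizer (Q : Set G) := centralizer_le_of_le hQR' hcR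
  have hcoef : ¬ MemLocalIdeal M (blockCoeff f ⟨(g₁ : G), hcQ⟩) := by
    have h1 := hg₁.2.1
    rw [hFf] at h1
    unfold subgroupBlockCoeff at h1
    rw [dif_pos hcQ] at h1
    exact h1
  have : Fintype (Subgroup.centralizer (R' : Set G)) := Fintype.ofFinite _
  have : Fintype (IrrCharacter (Subgroup.centralizer (R' : Set G))) := Fintype.ofFinite _
  obtain ⟨g', hg'⟩ := exists_normalSubpair_of_coef Q R' hM hR'p hQR' hR'N hf hst
    ⟨(g₁ : G), hcQ⟩ hcR hcoef
  have hBQ : IsBrauerPairOf p M B Q f :=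
    (brauerPairOf_iff_of_subpairLE hM P Q e f hle B).mp hmax.1
  have hBR' : IsBrauerPairOf p M B R' g' := brauerPairOf_of_normalSubpair hM Q R' f g' hg' B hBQ
  obtain ⟨x, hx⟩ := maximal_conj hM B P R' e g' hmax hBR'
  have hn := normalSubpair_conj p M Q R' f g' x hg'
  refine ⟨x, Relation.ReflTransGen.head
    (show NormalSubpairRel p M ⟨Q.map (MulAut.conj x).toMonoidHom, conjBlock Q x f⟩
      ⟨R'.map (MulAut.conj x).toMonoidHom, conjBlock R' x g'⟩ from hn) hx, ?_⟩
  intro D hD
  have h1 : R'.map (MulAut.conj x).toMonoidHom ≤ P ⊓ Subgroup.normalizer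
      ((Q.map (MulAut.conj x).toMonoidHom : Subgroup G) : Set G) := by
    refine le_inf (subpairLE_le hx) ?_
    rintro _ ⟨r, hr, rfl⟩
    exact mem_normalizer_map_conj Q x r (hR'N hr)
  calc Nat.card D = Nat.card D₂ := defectGroup_card_eq hM _ hF' D D₂ hD hD₂def
    _ = Nat.card R' := by
        rw [hR', Subgroup.card_map_of_injective T.subtype_injective]
    _ = Nat.card (R'.map (MulAut.conj x).toMonoidHom) := (card_map_conj x R').symm
    _ ≤ _ := Subgroup.card_le_of_le h1

/-- for a suitable conjugate `(Q, f)^x ≤ (P, e)`, the normalizer `N_P(Q^x)` is a defect group of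
every block of the stabilizer of `(Q, f)^x` with the idempotent of `f^x` -/
theorem exists_conj_normalizer_defectGroup (hM : IsPModular p M) (B : Set (IrrCharacter G))
    (P Q : Subgroup G) (e : Set (IrrCharacter (Subgroup.centralizer (P : Set G))))
    (f : Set (IrrCharacter (Subgroup.centralizer (Q : Set G))))
    (hmax : IsMaximalBrauerPair p M B P e) (hf : IsPBlock M f) (hle : SubpairLE p M Q f P e)
    (T : Subgroup G)
    (hT : ∀ y : G, y ∈ T ↔ y ∈ Subgroup.normalizer (Q : Set G) ∧
      StabilizesBlock (Subgroup.centralizer (Q : Set G)) f y)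
    (F : Set (IrrCharacter T)) (hF : IsPBlock M F)
    (hFf : ∀ t : T, blockCoeff F t = subgroupBlockCoeff (Subgroup.centralizer (Q : Set G)) f (t : G)) :
    ∃ x : G, SubpairLE p M (Q.map (MulAut.conj x).toMonoidHom) (conjBlock Q x f) P e ∧
      ∀ (T' : Subgroup G), (∀ y : G, y ∈ T' ↔
        y ∈ Subgroup.normalizer ((Q.map (MulAut.conj x).toMonoidHom : Subgroup G) : Set G) ∧
        StabilizesBlock
          (Subgroup.centralizer ((Q.map (MulAut.conj x).toMonoidHom : Subgroup G) : Set G))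
          (conjBlock Q x f) y) →
        ∀ F' : Set (IrrCharacter T'), IsPBlock M F' →
          (∀ t : T', blockCoeff F' t = subgroupBlockCoeff
            (Subgroup.centralizer ((Q.map (MulAut.conj x).toMonoidHom : Subgroup G) : Set G))
            (conjBlock Q x f) (t : G)) →
          IsDefectGroup p M F' ((P ⊓ Subgroup.normalizer
            ((Q.map (MulAut.conj x).toMonoidHom : Subgroup G) : Set G)).subgroupOf T') := by
  classical
  have hMp := isPModular_isPrime hM
  have hPe : IsBrauerPair p M P e := hmax.1.1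
  obtain ⟨hQT, hCT, hTN, hTst⟩ := stab_facts Q f T hT
  obtain ⟨x, hx, hcard⟩ := exists_conj_normalizer_card hM B P Q e f hmax hf hle T hQT hTN hTst F
    hF hFf
  refine ⟨x, hx, ?_⟩
  intro T' hT' F' hF' hF'f
  have : Fintype T' := Fintype.ofFinite _
  have : Fintype (IrrCharacter T') := Fintype.ofFinite _
  have : Fintype T := Fintype.ofFinite _
  have : Fintype (IrrCharacter T) := Fintype.ofFinite _
  obtain ⟨hQT', hCT', hTN', hTst'⟩ := stab_facts _ (conjBlock Q x f) T' hT'
  obtain ⟨D', hD', hle'⟩ := normalizer_le_defectGroup hM P _ e (conjBlock Q x f) hPe hx T' hCT' F'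
    hF' hF'f
  obtain ⟨F'', hF'', hF''f, htr⟩ := exists_block_transport (p := p) Q x f T T' hT hT' F hF hFf
  have hFF : F'' = F' := by
    apply eq_of_blockCoeff_eq
    funext t
    rw [hF''f, hF'f]
  rw [hFF] at htr
  obtain ⟨D₂, hD₂⟩ : ∃ D₂ : Subgroup T, IsDefectGroup p M F D₂ := by
    obtain ⟨χ₁, rfl⟩ := hF
    exact exists_defectGroup hMp χ₁
  obtain ⟨D'', hD'', hcard''⟩ := htr D₂ hD₂
  have hRT' := normalizer_le_stab hM P _ e (conjBlock Q x f) hPe hx T' hT'
  have hge : Nat.card D' ≤ Nat.card ((P ⊓ Subgroup.normalizer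
      ((Q.map (MulAut.conj x).toMonoidHom : Subgroup G) : Set G)).subgroupOf T') := by
    rw [card_subgroupOf_of_le hRT', defectGroup_card_eq hM F' hF' D' D'' hD' hD'', hcard'']
    exact hcard D₂ hD₂
  have heq := Subgroup.eq_of_le_of_card_ge hle' hge
  rw [heq]
  exact hD'

end fn

end Cfsg.Agent.Lib.helper23
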