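import Mathlib
import Cfsg.Agent.Lib.helper23.BPStable3

set_option autoImplicit false

/-!
# Statements on `N_P(Q)` and the stabilizer block; fully normalized subgroups
-/

namespace Cfsg.Agent.Lib.helper23

open Cfsg Cfsg.Agent.Lib.helper24 Cfsg.Agent.Lib.helper5
open scoped ComplexConjugate

universe u

section fin

variable {G : Type u} [Group G] [Fintype G]
variable {M : Ideal AlgInt} {p : ℕ} [Fact p.Prime]

theorem stabilizer_block_defect (hM : IsPModular p M) (B : Set (IrrCharacter G))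
    (P Q : Subgroup G) (e : Set (IrrCharacter (Subgroup.centralizer (P : Set G))))
    (f : Set (IrrCharacter (Subgroup.centralizer (Q : Set G))))
    (hmax : IsMaximalBrauerPair p M B P e) (hQP : Q ≤ P) (hf : IsPBlock M f)
    (hle : SubpairLE p M Q f P e) (T : Subgroup G)
    (hT : ∀ y : G, y ∈ T ↔ y ∈ Subgroup.normalizer (Q : Set G) ∧
      StabilizesBlock (Subgroup.centralizer (Q : Set G)) f y) :
    (∃ F : Set (IrrCharacter T), IsPBlock M F ∧
      (∀ t : T, blockCoeff F t = subgroupBlockCoeff (Subgroup.centralizer (Q : Set G)) f (t : G)) ∧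
      ∃ D : Subgroup T, IsDefectGroup p M F D ∧
        (P ⊓ Subgroup.normalizer (Q : Set G)).subgroupOf T ≤ D) ∧
    ∃ x : G, SubpairLE p M (Q.map (MulAut.conj x).toMonoidHom) (conjBlock Q x f) P e ∧
      ∀ (T' : Subgroup G), (∀ y : G, y ∈ T' ↔
        y ∈ Subgroup.normalizer ((Q.map (MulAut.conj x).toMonoidHom) : Set G) ∧
        StabilizesBlock (Subgroup.centralizer ((Q.map (MulAut.conj x).toMonoidHom) : Set G))
          (conjBlock Q x f) y) →
        ∃ F' : Set (IrrCharacter T'), IsPBlock M F' ∧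
          (∀ t : T', blockCoeff F' t = subgroupBlockCoeff
            (Subgroup.centralizer ((Q.map (MulAut.conj x).toMonoidHom) : Set G))
            (conjBlock Q x f) (t : G)) ∧
          IsDefectGroup p M F' ((P ⊓ Subgroup.normalizer
            ((Q.map (MulAut.conj x).toMonoidHom) : Set G)).subgroupOf T') := by
  classical
  have hPe : IsBrauerPair p M P e := hmax.1.1
  have hQ : IsPGroup p Q := hPe.1.to_le hQP
  obtain ⟨hQT, hCT, hTN, hTst⟩ := stab_facts Q f T hT
  obtain ⟨F, hF, hFf⟩ := exists_block_of_stable hM Q T hQ hQT hCT hTN f hf hTst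
  obtain ⟨D, hD, hDle⟩ := normalizer_le_defectGroup hM P Q e f hPe hle T hCT F hF hFf
  refine ⟨⟨F, hF, hFf, D, hD, hDle⟩, ?_⟩
  obtain ⟨x, hx, hall⟩ := exists_conj_normalizer_defectGroup hM B P Q e f hmax hf hle T hT F hF hFf
  refine ⟨x, hx, ?_⟩
  intro T' hT'
  obtain ⟨F', hF', hF'f, -⟩ := exists_block_transport (p := p) Q x f T T' hT hT' F hF hFf
  exact ⟨F', hF', hF'f, hall T' hT' F' hF' hF'f⟩

theorem fullyNormalized_iff (hM : IsPModular p M) (B : Set (IrrCharacter G))
    (P : Subgroup G) (e : Set (IrrCharacter (Subgroup.centralizer (P : Set G))))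
    (hmax : IsMaximalBrauerPair p M B P e) (F : FusionSystem P)
    (hF : IsBlockFusionSystemOn p M B P e F) (Q : Subgroup G)
    (f : Set (IrrCharacter (Subgroup.centralizer (Q : Set G)))) (hQP : Q ≤ P)
    (hf : IsPBlock M f) (hle : SubpairLE p M Q f P e) (T : Subgroup G)
    (hT : ∀ y : G, y ∈ T ↔ y ∈ Subgroup.normalizer (Q : Set G) ∧
      StabilizesBlock (Subgroup.centralizer (Q : Set G)) f y) :
    F.IsFullyNormalized Q ↔ ∃ F' : Set (IrrCharacter T), IsPBlock M F' ∧
      (∀ t : T, blockCoeff F' t = subgroupBlockCoeff (Subgroup.centralizer (Q : Set G)) f (t : G)) ∧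
      IsDefectGroup p M F' ((P ⊓ Subgroup.normalizer (Q : Set G)).subgroupOf T) := by
  classical
  have : Fintype T := Fintype.ofFinite _
  have : Fintype (IrrCharacter T) := Fintype.ofFinite _
  have hMp := isPModular_isPrime hM
  have hPe : IsBrauerPair p M P e := hmax.1.1
  have hQ : IsPGroup p Q := hPe.1.to_le hQP
  obtain ⟨hQT, hCT, hTN, hTst⟩ := stab_facts Q f T hT
  have hRT := normalizer_le_stab hM P Q e f hPe hle T hT
  constructor
  · intro hfn
    obtain ⟨F₀, hF₀, hF₀f⟩ := exists_block_of_stable hM Q T hQ hQT hCT hTN f hf hTst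
    refine ⟨F₀, hF₀, hF₀f, ?_⟩
    obtain ⟨D₀, hD₀, hD₀le⟩ := normalizer_le_defectGroup hM P Q e f hPe hle T hCT F₀ hF₀ hF₀f
    obtain ⟨x, hx, hall⟩ := exists_conj_normalizer_defectGroup hM B P Q e f hmax hf hle T hT F₀
      hF₀ hF₀f
    have hT' := stab_map_conj Q f x T hT
    have : Fintype (T.map (MulAut.conj x).toMonoidHom) := Fintype.ofFinite _
    have : Fintype (IrrCharacter (T.map (MulAut.conj x).toMonoidHom)) := Fintype.ofFinite _
    obtain ⟨F', hF', hF'f, htr⟩ := exists_block_transport (p := p) Q x f T _ hT hT' F₀ hF₀ hF₀f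
    have hdef := hall _ hT' F' hF' hF'f
    obtain ⟨D'', hD'', hcard''⟩ := htr D₀ hD₀
    have hRT' := normalizer_le_stab hM P _ e (conjBlock Q x f) hPe hx _ hT'
    have hconj : F.IsConj Q (Q.map (MulAut.conj x).toMonoidHom) :=
      (isConj_iff_of_blockFusion hM B P e F hF Q f hle _).mpr ⟨x, rfl, hx⟩
    have h1 := hfn.2 _ hconj
    have hge : Nat.card D₀ ≤ Nat.card ((P ⊓ Subgroup.normalizer (Q : Set G)).subgroupOf T) := by
      rw [card_subgroupOf_of_le hRT, ← hcard'',
        defectGroup_card_eq hM F' hF' D'' _ hD'' hdef, card_subgroupOf_of_le hRT']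
      exact h1
    have heq := Subgroup.eq_of_le_of_card_ge hD₀le hge
    rw [heq]
    exact hD₀
  · rintro ⟨F', hF', hF'f, hdef⟩
    refine ⟨hQP, ?_⟩
    intro Q' hconj
    obtain ⟨g, rfl, hg⟩ := (isConj_iff_of_blockFusion hM B P e F hF Q f hle Q').mp hconj
    have hT' := stab_map_conj Q f g T hT
    have : Fintype (T.map (MulAut.conj g).toMonoidHom) := Fintype.ofFinite _
    have : Fintype (IrrCharacter (T.map (MulAut.conj g).toMonoidHom)) := Fintype.ofFinite _
    obtain ⟨Fg, hFg, hFgf, htr⟩ := exists_block_transport (p := p) Q g f T _ hT hT' F' hF' hF'f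
    obtain ⟨D'', hD'', hcard''⟩ := htr _ hdef
    obtain ⟨hQTg, hCTg, hTNg, hTstg⟩ := stab_facts _ (conjBlock Q g f) _ hT'
    obtain ⟨Dg, hDg, hDgle⟩ := normalizer_le_defectGroup hM P _ e (conjBlock Q g f) hPe hg _ hCTg
      Fg hFg hFgf
    have hRT' := normalizer_le_stab hM P _ e (conjBlock Q g f) hPe hg _ hT'
    have h1 := Subgroup.card_le_of_le hDgle
    rw [card_subgroupOf_of_le hRT', defectGroup_card_eq hM Fg hFg Dg D'' hDg hD'', hcard'',
      card_subgroupOf_of_le hRT] at h1
    exact h1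

end fin

end Cfsg.Agent.Lib.helper23
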