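import Mathlib
import Cfsg.Agent.Lib.helper23.BPStable4

set_option autoImplicit false

/-!
# Nilpotent blocks: the block of `Q C_G(Q)` for a centric normal pair
-/

namespace Cfsg.Agent.Lib.helper23

open Cfsg Cfsg.Agent.Lib.helper24 Cfsg.Agent.Lib.helper5
open scoped ComplexConjugate

universe u

section grp

variable {G : Type u} [Group G]

/-- an element acting on `Q` as an inner automorphism of coprime order centralizes `Q` -/
theorem centralizes_of_inner_coprime (Q : Subgroup G) (x q : G) (hq : q ∈ Q)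
    (h : ∀ y ∈ Q, x * y * x⁻¹ = q * y * q⁻¹) (hcop : (orderOf x).Coprime (orderOf q)) :
    x ∈ Subgroup.centralizer (Q : Set G) := by
  have hpow : ∀ n : ℕ, ∀ y ∈ Q, x ^ n * y * (x ^ n)⁻¹ = q ^ n * y * (q ^ n)⁻¹ := by
    intro n
    induction n with
    | zero =>
      intro y _
      simp
    | succ n ih =>
      intro y hy
      have hy' : q * y * q⁻¹ ∈ Q := Q.mul_mem (Q.mul_mem hq hy) (Q.inv_mem hq)
      have e1 : x ^ (n + 1) * y * (x ^ (n + 1))⁻¹ = x ^ n * (x * y * x⁻¹) * (x ^ n)⁻¹ := by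
        rw [pow_succ]
        group
      have e2 : q ^ (n + 1) * y * (q ^ (n + 1))⁻¹ = q ^ n * (q * y * q⁻¹) * (q ^ n)⁻¹ := by
        rw [pow_succ]
        group
      rw [e1, e2, h y hy, ih _ hy']
  obtain ⟨k, hk1, hk2⟩ := Nat.chineseRemainder hcop 1 0
  have hx : x ^ k = x := by
    have := (pow_eq_pow_iff_modEq (x := x) (n := k) (m := 1)).mpr hk1
    rwa [pow_one] at this
  have hqk : q ^ k = 1 := by
    have := (pow_eq_pow_iff_modEq (x := q) (n := k) (m := 0)).mpr hk2
    rwa [pow_zero] at this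
  rw [Subgroup.mem_centralizer_iff]
  intro y hy
  have h1 := hpow k y hy
  rw [hx, hqk] at h1
  have h2 : x * y * x⁻¹ = y := by
    rw [h1]
    group
  calc y * x = (x * y * x⁻¹) * x := by rw [h2]
    _ = x * y := by group

theorem exists_mul_of_mem_sup_centralizer (Q : Subgroup G) (x : G)
    (hx : x ∈ Q ⊔ Subgroup.centralizer (Q : Set G)) :
    ∃ q ∈ Q, ∃ c ∈ Subgroup.centralizer (Q : Set G), x = q * c := by
  let S : Subgroup G :=
    { carrier := {x | ∃ q ∈ Q, ∃ c ∈ Subgroup.centralizer (Q : Set G), x = q * c}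
      mul_mem' := by
        rintro _ _ ⟨q₁, hq₁, c₁, hc₁, rfl⟩ ⟨q₂, hq₂, c₂, hc₂, rfl⟩
        refine ⟨q₁ * q₂, mul_mem hq₁ hq₂, c₁ * c₂, mul_mem hc₁ hc₂, ?_⟩
        have hcomm : q₂ * c₁ = c₁ * q₂ := Subgroup.mem_centralizer_iff.mp hc₁ q₂ hq₂
        calc q₁ * c₁ * (q₂ * c₂) = q₁ * (c₁ * q₂) * c₂ := by group
          _ = q₁ * (q₂ * c₁) * c₂ := by rw [hcomm]
          _ = q₁ * q₂ * (c₁ * c₂) := by group
      one_mem' := ⟨1, one_mem _, 1, one_mem _, by simp⟩
      inv_mem' := by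
        rintro _ ⟨q, hq, c, hc, rfl⟩
        refine ⟨q⁻¹, inv_mem hq, c⁻¹, inv_mem hc, ?_⟩
        have hcomm : q * c = c * q := Subgroup.mem_centralizer_iff.mp hc q hq
        rw [hcomm]
        group }
  have h1 : Q ≤ S := fun q hq => ⟨q, hq, 1, one_mem _, by simp⟩
  have h2 : Subgroup.centralizer (Q : Set G) ≤ S := fun c hc => ⟨1, one_mem _, c, hc, by simp⟩
  exact sup_le h1 h2 hx

/-- `p`-regular elements of `Q C_G(Q)` centralize the `p`-group `Q` -/
theorem mem_centralizer_of_regular {p : ℕ} [Fact p.Prime] (Q : Subgroup G) (hQ : IsPGroup p Q)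
    (x : G) (hx : x ∈ Q ⊔ Subgroup.centralizer (Q : Set G)) (hreg : ¬ p ∣ orderOf x) :
    x ∈ Subgroup.centralizer (Q : Set G) := by
  have hp : p.Prime := Fact.out
  obtain ⟨q, hq, c, hc, rfl⟩ := exists_mul_of_mem_sup_centralizer Q x hx
  obtain ⟨k, hk⟩ := (IsPGroup.iff_orderOf.mp hQ) ⟨q, hq⟩
  have hoq : orderOf q = p ^ k := by
    rw [← hk]
    exact (Subgroup.orderOf_mk q hq).symm
  apply centralizes_of_inner_coprime Q (q * c) q hq
  · intro y hy
    have hcomm : y * c = c * y := Subgroup.mem_centralizer_iff.mp hc y hy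
    calc q * c * y * (q * c)⁻¹ = q * (c * y) * c⁻¹ * q⁻¹ := by group
      _ = q * (y * c) * c⁻¹ * q⁻¹ := by rw [hcomm]
      _ = q * y * q⁻¹ := by group
  · rw [hoq]
    exact Nat.Coprime.pow_right k ((Nat.Prime.coprime_iff_not_dvd hp).mpr hreg).symm

end grp

section nil

variable {M : Ideal AlgInt} {p : ℕ} [Fact p.Prime]

/-- a block all of whose defect groups equal a subgroup centralized by the `p`-regular elements
is nilpotent -/
theorem isNilpotentBlock_of_normal_defect {H : Type u} [Group H] [Fintype H]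
    (hM : IsPModular p M) (F' : Set (IrrCharacter H)) (hF' : IsPBlock M F') (QH : Subgroup H)
    (hD : ∀ D : Subgroup H, IsDefectGroup p M F' D → D = QH)
    (hreg : ∀ x : H, IsPRegular p x → x ∈ Subgroup.centralizer (QH : Set H)) :
    IsNilpotentBlock p M F' := by
  refine ⟨hF', ?_⟩
  intro R g hRg x _ _ hx
  obtain ⟨b, hb, hchain⟩ := exists_maximal_above F' _ ⟨R, g⟩ hRg rfl
  have h1 : IsDefectGroup p M F' b.1 := maximal_isDefectGroup hM F' b.1 b.2 hb
  have h2 : b.1 = QH := hD _ h1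
  have h3 : R ≤ b.1 := subpairLE_le (show SubpairLE p M R g b.1 b.2 from hchain)
  rw [h2] at h3
  exact Subgroup.centralizer_le h3 (hreg x hx)

variable {G : Type u} [Group G] [Fintype G]

/-- if `Z(Q)` is a defect group of `f`, the defect groups of the block of `Q C_G(Q)` with the
idempotent of `f` are equal to `Q` -/
theorem defectGroup_eq_of_center (hM : IsPModular p M) (Q : Subgroup G) (hQ : IsPGroup p Q)
    (f : Set (IrrCharacter (Subgroup.centralizer (Q : Set G)))) (hf : IsPBlock M f)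
    (hZ : IsDefectGroup p M f ((Q ⊓ Subgroup.centralizer (Q : Set G)).subgroupOf
      (Subgroup.centralizer (Q : Set G))))
    (F' : Set (IrrCharacter ↥(Q ⊔ Subgroup.centralizer (Q : Set G)))) (hF' : IsPBlock M F')
    (hF'f : ∀ t : ↥(Q ⊔ Subgroup.centralizer (Q : Set G)),
      blockCoeff F' t = subgroupBlockCoeff (Subgroup.centralizer (Q : Set G)) f (t : G))
    (D : Subgroup ↥(Q ⊔ Subgroup.centralizer (Q : Set G))) (hD : IsDefectGroup p M F' D) :
    D = Q.subgroupOf (Q ⊔ Subgroup.centralizer (Q : Set G)) := by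
  classical
  have : Fintype ↥(Q ⊔ Subgroup.centralizer (Q : Set G)) := Fintype.ofFinite _
  have : Fintype (IrrCharacter ↥(Q ⊔ Subgroup.centralizer (Q : Set G))) := Fintype.ofFinite _
  have : Fintype (Subgroup.centralizer (Q : Set G)) := Fintype.ofFinite _
  have : Fintype (IrrCharacter (Subgroup.centralizer (Q : Set G))) := Fintype.ofFinite _
  have hMp := isPModular_isPrime hM
  have hHN : Q ⊔ Subgroup.centralizer (Q : Set G) ≤ Subgroup.normalizer (Q : Set G) :=
    sup_le Subgroup.le_normalizer (Subgroup.centralizer_le_normalizer _)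
  haveI : (Q.subgroupOf (Q ⊔ Subgroup.centralizer (Q : Set G))).Normal :=
    (Subgroup.normal_subgroupOf_iff_le_normalizer le_sup_left).mpr hHN
  obtain ⟨t₀, ht₀, S, rfl⟩ := hD
  obtain ⟨χ₁, rfl⟩ := hF'
  have hQD := normal_pgroup_le_sylow_centralizer hM χ₁ t₀
    (ht₀.2.2 χ₁ (mem_blockOf_self hMp.ne_top χ₁))
    (Q.subgroupOf (Q ⊔ Subgroup.centralizer (Q : Set G))) hQ.comap_subtype S
  refine le_antisymm ?_ hQD
  -- the defect class lies in `C_G(Q)`
  have ht₀C : (t₀ : G) ∈ Subgroup.centralizer (Q : Set G) := by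
    by_contra hn
    apply ht₀.2.1
    rw [hF'f]
    unfold subgroupBlockCoeff
    rw [dif_neg hn]
    exact memLocalIdeal_zero hMp.ne_top
  have hv : ¬ MemLocalIdeal M (blockCoeff f ⟨(t₀ : G), ht₀C⟩) := by
    have h1 := ht₀.2.1
    rw [hF'f] at h1
    unfold subgroupBlockCoeff at h1
    rw [dif_pos ht₀C] at h1
    exact h1
  obtain ⟨A, hA⟩ : ∃ A : Subgroup G, A = (((S : Subgroup _).map
      (Subgroup.centralizer ({t₀} : Set ↥(Q ⊔ Subgroup.centralizer (Q : Set G)))).subtype).map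
      (Q ⊔ Subgroup.centralizer (Q : Set G)).subtype) ⊓ Subgroup.centralizer (Q : Set G) :=
    ⟨_, rfl⟩
  have hAp : IsPGroup p A := by
    rw [hA]
    exact ((sylow_map_isPGroup _ S).map _).to_le inf_le_left
  have hAC : A ≤ Subgroup.centralizer (Q : Set G) := by
    rw [hA]
    exact inf_le_right
  have hZA : Q ⊓ Subgroup.centralizer (Q : Set G) ≤ A := by
    intro q hq
    rw [hA]
    exact Subgroup.mem_inf.mpr ⟨Subgroup.mem_map.mpr
      ⟨⟨q, le_sup_left (a := Q) hq.1⟩, hQD (Subgroup.mem_subgroupOf.mpr hq.1), rfl⟩, hq.2⟩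
  have hAcent : A.subgroupOf (Subgroup.centralizer (Q : Set G))
      ≤ Subgroup.centralizer ({(⟨(t₀ : G), ht₀C⟩ : Subgroup.centralizer (Q : Set G))} :
        Set (Subgroup.centralizer (Q : Set G))) := by
    intro a ha
    rw [Subgroup.mem_subgroupOf, hA] at ha
    obtain ⟨d, hd, hda⟩ := Subgroup.mem_map.mp ha.1
    have hd' : d ∈ Subgroup.centralizer ({t₀} : Set ↥(Q ⊔ Subgroup.centralizer (Q : Set G))) :=
      sylow_map_le _ S hd
    have h1 := Subgroup.mem_centralizer_iff.mp hd' t₀ rfl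
    rw [mem_centralizer_singleton_comm]
    apply Subtype.ext
    have h2 := congrArg (fun t : ↥(Q ⊔ Subgroup.centralizer (Q : Set G)) => (t : G)) h1
    simp only [Subgroup.coe_mul] at h2
    show (t₀ : G) * (a : G) = (a : G) * (t₀ : G)
    rw [← hda]
    exact h2
  obtain ⟨θ₀, rfl⟩ := hf
  obtain ⟨g₁, hg₁, D₁, hD₁⟩ := hZ
  obtain ⟨h, hh⟩ := key_conj hM θ₀ g₁ ⟨(t₀ : G), ht₀C⟩
    (hg₁.2.2 θ₀ (mem_blockOf_self hMp.ne_top θ₀)) hv D₁ _ hAp.comap_subtype hAcent
  rw [← hD₁] at hh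
  have hcard : Nat.card (A.subgroupOf (Subgroup.centralizer (Q : Set G)))
      ≤ Nat.card ((Q ⊓ Subgroup.centralizer (Q : Set G)).subgroupOf
        (Subgroup.centralizer (Q : Set G))) := by
    rw [← card_map_conj h (A.subgroupOf (Subgroup.centralizer (Q : Set G)))]
    exact Subgroup.card_le_of_le hh
  have hle : (Q ⊓ Subgroup.centralizer (Q : Set G)).subgroupOf (Subgroup.centralizer (Q : Set G))
      ≤ A.subgroupOf (Subgroup.centralizer (Q : Set G)) := by
    intro a ha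
    rw [Subgroup.mem_subgroupOf] at ha ⊢
    exact hZA ha
  have heq := Subgroup.eq_of_le_of_card_ge hle hcard
  have hAQ : A ≤ Q := by
    intro a ha
    have h1 : (⟨a, hAC ha⟩ : Subgroup.centralizer (Q : Set G))
        ∈ A.subgroupOf (Subgroup.centralizer (Q : Set G)) := Subgroup.mem_subgroupOf.mpr ha
    rw [← heq, Subgroup.mem_subgroupOf] at h1
    exact h1.1
  -- now every element of the defect group lies in `Q`
  intro d hd
  rw [Subgroup.mem_subgroupOf]
  obtain ⟨q, hq, c, hc, hdqc⟩ := exists_mul_of_mem_sup_centralizer Q (d : G) d.2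
  have hqD : (⟨q, le_sup_left (a := Q) hq⟩ : ↥(Q ⊔ Subgroup.centralizer (Q : Set G)))
      ∈ (S : Subgroup _).map
        (Subgroup.centralizer ({t₀} : Set ↥(Q ⊔ Subgroup.centralizer (Q : Set G)))).subtype :=
    hQD (Subgroup.mem_subgroupOf.mpr hq)
  have hcA : c ∈ A := by
    rw [hA]
    refine Subgroup.mem_inf.mpr ⟨Subgroup.mem_map.mpr
      ⟨(⟨q, le_sup_left (a := Q) hq⟩ : ↥(Q ⊔ Subgroup.centralizer (Q : Set G)))⁻¹ * d,
      mul_mem (inv_mem hqD) hd, ?_⟩, hc⟩
    show q⁻¹ * (d : G) = c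
    rw [hdqc]
    group
  rw [hdqc]
  exact Q.mul_mem hq (hAQ hcA)

end nil

end Cfsg.Agent.Lib.helper23
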