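import Mathlib
import Cfsg.Agent.Lib.helper23.BPNilp

set_option autoImplicit false

/-!
# A centric pair that is normal in `G`
-/

namespace Cfsg.Agent.Lib.helper23

open Cfsg Cfsg.Agent.Lib.helper24 Cfsg.Agent.Lib.helper5
open scoped ComplexConjugate

universe u

section nil

variable {G : Type u} [Group G] [Fintype G]
variable {M : Ideal AlgInt} {p : ℕ} [Fact p.Prime]

theorem centric_normal_pair (hM : IsPModular p M) (B : Set (IrrCharacter G))
    (P : Subgroup G) (e : Set (IrrCharacter (Subgroup.centralizer (P : Set G))))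
    (hmax : IsMaximalBrauerPair p M B P e) (F : FusionSystem P)
    (hF : IsBlockFusionSystemOn p M B P e F) (Q : Subgroup G)
    (f : Set (IrrCharacter (Subgroup.centralizer (Q : Set G)))) (hQP : Q ≤ P)
    (hf : IsPBlock M f) (hle : SubpairLE p M Q f P e) (hcen : F.IsCentric Q)
    (hG : ∀ x : G, x ∈ Subgroup.normalizer (Q : Set G) ∧
      StabilizesBlock (Subgroup.centralizer (Q : Set G)) f x) :
    (∀ g : G, MemLocalIdeal M
      (blockCoeff B g - subgroupBlockCoeff (Subgroup.centralizer (Q : Set G)) f g)) ∧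
    ∃ F' : Set (IrrCharacter ↥(Q ⊔ Subgroup.centralizer (Q : Set G))), IsPBlock M F' ∧
      (∀ t : ↥(Q ⊔ Subgroup.centralizer (Q : Set G)),
        blockCoeff F' t = subgroupBlockCoeff (Subgroup.centralizer (Q : Set G)) f (t : G)) ∧
      IsNilpotentBlock p M F' := by
  classical
  have : Fintype (Subgroup.centralizer (Q : Set G)) := Fintype.ofFinite _
  have : Fintype (IrrCharacter (Subgroup.centralizer (Q : Set G))) := Fintype.ofFinite _
  have hMp := isPModular_isPrime hM
  have hPe : IsBrauerPair p M P e := hmax.1.1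
  have hQ : IsPGroup p Q := hPe.1.to_le hQP
  constructor
  · obtain ⟨F₀, hF₀, hF₀f⟩ := exists_block_of_stable hM Q ⊤ hQ le_top le_top
      (fun x _ => (hG x).1) f hf (fun t _ => (hG t).2)
    obtain ⟨B₀, hB₀⟩ : ∃ B₀ : Set (IrrCharacter G),
        B₀ = irrMap (Subgroup.topEquiv (G := G)).symm '' F₀ := ⟨_, rfl⟩
    have hB₀b : IsPBlock M B₀ := by
      obtain ⟨χ₁, rfl⟩ := hF₀
      rw [hB₀, irrMap_image_blockOf]
      exact ⟨_, rfl⟩
    have hB₀f : ∀ g : G, blockCoeff B₀ g
        = subgroupBlockCoeff (Subgroup.centralizer (Q : Set G)) f g := by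
      intro g
      rw [hB₀, blockCoeff_image_irrMap, hF₀f]
      rfl
    have hpair₀ : IsBrauerPairOf p M B₀ Q f := by
      refine ⟨⟨hQ, hf⟩, hB₀b, fun ξ hξ => ?_⟩
      have e1 : blockCoeff B₀ = subgroupBlockCoeff (Subgroup.centralizer (Q : Set G)) f :=
        funext hB₀f
      have e2 : brauerOmega Q (blockCoeff B₀) ξ.1 = 1 := by
        rw [e1, brauerOmega_subgroupBlockCoeff Q Q le_rfl f ξ]
        unfold lamB
        have e3 : truncC (Subgroup.centralizer (Q : Set G)) Q (centralizer_le_of_le le_rfl)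
            (blockCoeff f) = blockCoeff f := by
          funext c
          rfl
        rw [e3, coord_blockCoeff, Set.indicator_of_mem hξ]
      rw [e2, sub_self]
      exact memLocalIdeal_zero hMp.ne_top
    have hpair : IsBrauerPairOf p M B Q f :=
      (brauerPairOf_iff_of_subpairLE hM P Q e f hle B).mp hmax.1
    have hBB : B = B₀ := (brauerPair_unique_block' p M hM Q f ⟨hQ, hf⟩).unique hpair hpair₀
    intro g
    rw [hBB, hB₀f, sub_self]
    exact memLocalIdeal_zero hMp.ne_top
  · have hHN : Q ⊔ Subgroup.centralizer (Q : Set G) ≤ Subgroup.normalizer (Q : Set G) :=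
      sup_le Subgroup.le_normalizer (Subgroup.centralizer_le_normalizer _)
    obtain ⟨F', hF', hF'f⟩ := exists_block_of_stable hM Q (Q ⊔ Subgroup.centralizer (Q : Set G))
      hQ le_sup_left le_sup_right hHN f hf (fun t ht => stabilizesBlock_of_mem_sup Q f t ht)
    refine ⟨F', hF', hF'f, ?_⟩
    have hZ := (centric_iff hM B P e hmax F hF Q f hQP hf hle).mp hcen
    have : Fintype ↥(Q ⊔ Subgroup.centralizer (Q : Set G)) := Fintype.ofFinite _
    apply isNilpotentBlock_of_normal_defect hM F' hF'
      (Q.subgroupOf (Q ⊔ Subgroup.centralizer (Q : Set G)))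
    · intro D hD
      exact defectGroup_eq_of_center hM Q hQ f hf hZ F' hF' hF'f D hD
    · intro x hx
      have hx' : ¬ p ∣ orderOf (x : G) := by
        rw [Subgroup.orderOf_coe]
        exact hx
      have h1 := mem_centralizer_of_regular Q hQ (x : G) x.2 hx'
      rw [Subgroup.mem_centralizer_iff]
      intro r hr
      rw [SetLike.mem_coe, Subgroup.mem_subgroupOf] at hr
      apply Subtype.ext
      exact Subgroup.mem_centralizer_iff.mp h1 (r : G) hr

end nil

end Cfsg.Agent.Lib.helper23
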