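import Mathlib
import Cfsg.Agent.Lib.helper23.BPNilp2

set_option autoImplicit false

/-!
# Brauer pairs of a subgroup `H` with `C_G(Q) ≤ H` and Brauer pairs of `G` above `(Q, f)`
-/

namespace Cfsg.Agent.Lib.helper23

open Cfsg Cfsg.Agent.Lib.helper24 Cfsg.Agent.Lib.helper5
open scoped ComplexConjugate

universe u

section dict

variable {G : Type u} [Group G]

/-- the centralizer in `G` of a subgroup `S'` containing `Q` is the centralizer in `H` of the
corresponding subgroup of `H`, when `C_G(Q) ≤ H` -/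
def centIsoH (Q H : Subgroup G) (hCH : Subgroup.centralizer (Q : Set G) ≤ H)
    (S : Subgroup H) (S' : Subgroup G) (hSS' : S' = S.map H.subtype) (hQS' : Q ≤ S') :
    Subgroup.centralizer (S' : Set G) ≃* Subgroup.centralizer (S : Set H) where
  toFun c := ⟨⟨c, hCH (centralizer_le_of_le hQS' c.2)⟩, by
      rw [Subgroup.mem_centralizer_iff]
      intro s hs
      apply Subtype.ext
      refine Subgroup.mem_centralizer_iff.mp c.2 (s : G) ?_
      rw [hSS']
      exact Subgroup.mem_map.mpr ⟨s, hs, rfl⟩⟩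
  invFun d := ⟨((d : H) : G), by
      rw [Subgroup.mem_centralizer_iff]
      intro y hy
      rw [hSS'] at hy
      obtain ⟨s, hs, rfl⟩ := Subgroup.mem_map.mp hy
      have := Subgroup.mem_centralizer_iff.mp d.2 s hs
      exact congrArg (fun t : H => (t : G)) this⟩
  left_inv c := rfl
  right_inv d := rfl
  map_mul' a b := rfl

theorem centIsoH_coe (Q H : Subgroup G) (hCH : Subgroup.centralizer (Q : Set G) ≤ H)
    (S : Subgroup H) (S' : Subgroup G) (hSS' : S' = S.map H.subtype) (hQS' : Q ≤ S')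
    (c : Subgroup.centralizer (S' : Set G)) :
    (((centIsoH Q H hCH S S' hSS' hQS' c : Subgroup.centralizer (S : Set H)) : H) : G) = c := rfl

theorem le_map_of_subgroupOf_le (Q H : Subgroup G) (hQH : Q ≤ H) (S : Subgroup H)
    (hQS : Q.subgroupOf H ≤ S) : Q ≤ S.map H.subtype := by
  intro q hq
  exact Subgroup.mem_map.mpr ⟨⟨q, hQH hq⟩, hQS (Subgroup.mem_subgroupOf.mpr hq), rfl⟩

/-- the pair of `G` corresponding to a pair of `H` whose subgroup contains `Q` -/
def upIdx (Q H : Subgroup G) (hQH : Q ≤ H) (hCH : Subgroup.centralizer (Q : Set G) ≤ H)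
    (a : BrauerPairIdx H) (h : Q.subgroupOf H ≤ a.1) : BrauerPairIdx G :=
  ⟨a.1.map H.subtype,
    irrMap (centIsoH Q H hCH a.1 (a.1.map H.subtype) rfl (le_map_of_subgroupOf_le Q H hQH a.1 h))
      '' a.2⟩

theorem mem_normalizer_map_subtype (H : Subgroup G) (S : Subgroup H) (s : H)
    (hs : s ∈ Subgroup.normalizer (S : Set H)) :
    (s : G) ∈ Subgroup.normalizer ((S.map H.subtype : Subgroup G) : Set G) := by
  rw [Subgroup.mem_normalizer_iff]
  intro y
  constructor
  · intro hy
    obtain ⟨h, hh, rfl⟩ := Subgroup.mem_map.mp hy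
    exact Subgroup.mem_map.mpr ⟨s * h * s⁻¹, (Subgroup.mem_normalizer_iff.mp hs h).mp hh, rfl⟩
  · intro hy
    obtain ⟨h', hh', he⟩ := Subgroup.mem_map.mp hy
    have hs' : s⁻¹ ∈ Subgroup.normalizer (S : Set H) := inv_mem hs
    refine Subgroup.mem_map.mpr ⟨s⁻¹ * h' * s⁻¹⁻¹, (Subgroup.mem_normalizer_iff.mp hs' h').mp hh', ?_⟩
    show (s : G)⁻¹ * (h' : G) * ((s : G)⁻¹)⁻¹ = y
    have he' : (h' : G) = (s : G) * y * (s : G)⁻¹ := he
    rw [he']
    group

section transport

variable {H : Subgroup G} {S : Subgroup H} {S' : Subgroup G}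
  (ψ : Subgroup.centralizer (S' : Set G) ≃* Subgroup.centralizer (S : Set H))
  (hψ : ∀ c : Subgroup.centralizer (S' : Set G), (((ψ c : Subgroup.centralizer (S : Set H)) : H) : G) = c)

include hψ

theorem brauerOmega_up (βH : H → ℂ) (βG : G → ℂ) (hβ : ∀ h : H, βH h = βG (h : G))
    (ξ : IrrCharacter (Subgroup.centralizer (S : Set H))) :
    brauerOmega S' βG (irrMap ψ ξ).1 = brauerOmega S βH ξ.1 := by
  unfold brauerOmega
  have h1 := finsum_comp_equiv ψ.toEquiv
    (f := fun d : Subgroup.centralizer (S : Set H) => βH (d : H) * ξ.1 d / ξ.1 1)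
  rw [← h1]
  apply finsum_congr
  intro c
  rw [irrMap_apply, irrMap_apply, map_one]
  show βG (c : G) * ξ.1 (ψ c) / ξ.1 1 = βH ((ψ c : Subgroup.centralizer (S : Set H)) : H) * ξ.1 (ψ c) / ξ.1 1
  rw [hβ, hψ]

theorem mem_centralizer_up (hSS' : S' = S.map H.subtype) (h : H) :
    h ∈ Subgroup.centralizer (S : Set H) ↔ (h : G) ∈ Subgroup.centralizer (S' : Set G) := by
  constructor
  · intro hh
    rw [Subgroup.mem_centralizer_iff]
    intro y hy
    rw [hSS'] at hy
    obtain ⟨s, hs, rfl⟩ := Subgroup.mem_map.mp hy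
    have := Subgroup.mem_centralizer_iff.mp hh s hs
    exact congrArg (fun t : H => (t : G)) this
  · intro hh
    rw [Subgroup.mem_centralizer_iff]
    intro s hs
    apply Subtype.ext
    refine Subgroup.mem_centralizer_iff.mp hh (s : G) ?_
    rw [hSS']
    exact Subgroup.mem_map.mpr ⟨s, hs, rfl⟩

theorem subgroupBlockCoeff_up (hSS' : S' = S.map H.subtype)
    (e : Set (IrrCharacter (Subgroup.centralizer (S : Set H)))) (h : H) :
    subgroupBlockCoeff (Subgroup.centralizer (S : Set H)) e h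
      = subgroupBlockCoeff (Subgroup.centralizer (S' : Set G)) (irrMap ψ '' e) (h : G) := by
  by_cases hh : h ∈ Subgroup.centralizer (S : Set H)
  · have hh' : (h : G) ∈ Subgroup.centralizer (S' : Set G) :=
      (mem_centralizer_up ψ hψ hSS' h).mp hh
    unfold subgroupBlockCoeff
    rw [dif_pos hh, dif_pos hh', blockCoeff_image_irrMap]
    congr 1
    apply Subtype.ext
    apply Subtype.ext
    exact (hψ ⟨(h : G), hh'⟩).symm
  · have hh' : (h : G) ∉ Subgroup.centralizer (S' : Set G) :=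
      fun hc => hh ((mem_centralizer_up ψ hψ hSS' h).mpr hc)
    unfold subgroupBlockCoeff
    rw [dif_neg hh, dif_neg hh']

theorem stabilizesBlock_up (x : H)
    (hxN : (x : G) ∈ Subgroup.normalizer
      ((Subgroup.centralizer (S' : Set G) : Subgroup G) : Set G))
    (e : Set (IrrCharacter (Subgroup.centralizer (S : Set H))))
    (h : StabilizesBlock (Subgroup.centralizer (S : Set H)) e x) :
    StabilizesBlock (Subgroup.centralizer (S' : Set G)) (irrMap ψ '' e) (x : G) := by
  refine ⟨hxN, ?_⟩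
  rintro _ ⟨χ, hχ, rfl⟩
  obtain ⟨χ', hχ', hc⟩ := h.2 χ hχ
  refine ⟨irrMap ψ χ', ⟨χ', hχ', rfl⟩, ?_⟩
  intro k k' hk
  rw [irrMap_apply, irrMap_apply]
  apply hc (ψ k) (ψ k')
  apply Subtype.ext
  show (((ψ k' : Subgroup.centralizer (S : Set H)) : H) : G)
    = (x : G) * (((ψ k : Subgroup.centralizer (S : Set H)) : H) : G) * (x : G)⁻¹
  rw [hψ, hψ]
  exact hk

end transport

end dict

end Cfsg.Agent.Lib.helper23
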