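import Mathlib
import Cfsg.Agent.Lib.helper23.BPDict

set_option autoImplicit false

/-!
# The dictionary between Brauer pairs of `H` and pairs of `G` above `(Q, f)`
-/

namespace Cfsg.Agent.Lib.helper23

open Cfsg Cfsg.Agent.Lib.helper24 Cfsg.Agent.Lib.helper5
open scoped ComplexConjugate

universe u

section dict

variable {G : Type u} [Group G]

theorem upIdx_mk (Q H : Subgroup G) (hQH : Q ≤ H) (hCH : Subgroup.centralizer (Q : Set G) ≤ H)
    (S : Subgroup H) (e : Set (IrrCharacter (Subgroup.centralizer (S : Set H))))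
    (h : Q.subgroupOf H ≤ S) :
    upIdx Q H hQH hCH ⟨S, e⟩ h = ⟨S.map H.subtype,
      irrMap (centIsoH Q H hCH S (S.map H.subtype) rfl (le_map_of_subgroupOf_le Q H hQH S h))
        '' e⟩ := rfl

theorem up_normalSubpair (p : ℕ) (M : Ideal AlgInt) (Q H : Subgroup G) (hQH : Q ≤ H)
    (hCH : Subgroup.centralizer (Q : Set G) ≤ H) (a a' : BrauerPairIdx H)
    (h : Q.subgroupOf H ≤ a.1) (h' : Q.subgroupOf H ≤ a'.1)
    (hn : IsNormalSubpair p M a.1 a.2 a'.1 a'.2) :
    NormalSubpairRel p M (upIdx Q H hQH hCH a h) (upIdx Q H hQH hCH a' h') := by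
  obtain ⟨S, e⟩ := a
  obtain ⟨S₂, e₂⟩ := a'
  obtain ⟨hab, hab', hle, hN, hst, hω⟩ := hn
  show IsNormalSubpair p M (S.map H.subtype)
    (irrMap (centIsoH Q H hCH S (S.map H.subtype) rfl (le_map_of_subgroupOf_le Q H hQH S h)) '' e)
    (S₂.map H.subtype)
    (irrMap (centIsoH Q H hCH S₂ (S₂.map H.subtype) rfl (le_map_of_subgroupOf_le Q H hQH S₂ h'))
      '' e₂)
  refine ⟨⟨hab.1.map _, ?_⟩, ⟨hab'.1.map _, ?_⟩, Subgroup.map_mono hle, ?_, ?_, ?_⟩
  · obtain ⟨θ, hθ⟩ := hab.2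
    have hθ' : e = blockOf M θ.1 := hθ
    rw [hθ', irrMap_image_blockOf]
    exact ⟨_, rfl⟩
  · obtain ⟨θ, hθ⟩ := hab'.2
    have hθ' : e₂ = blockOf M θ.1 := hθ
    rw [hθ', irrMap_image_blockOf]
    exact ⟨_, rfl⟩
  · rintro _ ⟨s, hs, rfl⟩
    exact mem_normalizer_map_subtype H S s (hN hs)
  · rintro _ ⟨s, hs, rfl⟩
    exact stabilizesBlock_up _ (fun c => rfl) s
      (normalizer_le_normalizer_centralizer _ (mem_normalizer_map_subtype H S s (hN hs))) e
      (hst s hs)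
  · rintro _ ⟨ξ, hξ, rfl⟩
    rw [brauerOmega_up _ (fun c => rfl)
      (subgroupBlockCoeff (Subgroup.centralizer (S : Set H)) e) _
      (fun t => subgroupBlockCoeff_up
        (centIsoH Q H hCH S (S.map H.subtype) rfl (le_map_of_subgroupOf_le Q H hQH S h))
        (fun c => rfl) rfl e t) ξ]
    exact hω ξ hξ

/-- chains of normal inclusions in `H` give chains in `G` -/
theorem up_chain (p : ℕ) (M : Ideal AlgInt) (Q H : Subgroup G) (hQH : Q ≤ H)
    (hCH : Subgroup.centralizer (Q : Set G) ≤ H) (a a' : BrauerPairIdx H)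
    (hchain : Relation.ReflTransGen (NormalSubpairRel p M) a a') :
    ∀ (h : Q.subgroupOf H ≤ a.1) (h' : Q.subgroupOf H ≤ a'.1),
      Relation.ReflTransGen (NormalSubpairRel p M) (upIdx Q H hQH hCH a h)
        (upIdx Q H hQH hCH a' h') := by
  induction hchain using Relation.ReflTransGen.head_induction_on with
  | refl =>
    intro h h'
    exact Relation.ReflTransGen.refl
  | @head a₁ c hab _ ih =>
    intro h h'
    have hc : Q.subgroupOf H ≤ c.1 := h.trans hab.2.2.1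
    exact Relation.ReflTransGen.head (up_normalSubpair p M Q H hQH hCH a₁ c h hc hab) (ih hc h')

/-- a pair of the block `F` of `H` (with the idempotent of `f`) gives a pair of `G` normally
containing `(Q, f)` -/
theorem up_of_brauerPairOf (p : ℕ) (M : Ideal AlgInt) (Q H : Subgroup G) (hQH : Q ≤ H)
    (hCH : Subgroup.centralizer (Q : Set G) ≤ H) (hQ : IsPGroup p Q)
    (f : Set (IrrCharacter (Subgroup.centralizer (Q : Set G)))) (hf : IsPBlock M f)
    (hHN : H ≤ Subgroup.normalizer (Q : Set G))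
    (hHst : ∀ t ∈ H, StabilizesBlock (Subgroup.centralizer (Q : Set G)) f t)
    (F : Set (IrrCharacter H))
    (hFf : ∀ t : H, blockCoeff F t = subgroupBlockCoeff (Subgroup.centralizer (Q : Set G)) f (t : G))
    (a : BrauerPairIdx H) (h : Q.subgroupOf H ≤ a.1) (hp : IsBrauerPairOf p M F a.1 a.2) :
    IsNormalSubpair p M Q f (upIdx Q H hQH hCH a h).1 (upIdx Q H hQH hCH a h).2 := by
  obtain ⟨S, e⟩ := a
  obtain ⟨⟨hap, hab⟩, hFb, hω⟩ := hp
  show IsNormalSubpair p M Q f (S.map H.subtype)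
    (irrMap (centIsoH Q H hCH S (S.map H.subtype) rfl (le_map_of_subgroupOf_le Q H hQH S h)) '' e)
  refine ⟨⟨hQ, hf⟩, ⟨hap.map _, ?_⟩, le_map_of_subgroupOf_le Q H hQH S h, ?_, ?_, ?_⟩
  · obtain ⟨θ, hθ⟩ := hab
    have hθ' : e = blockOf M θ.1 := hθ
    rw [hθ', irrMap_image_blockOf]
    exact ⟨_, rfl⟩
  · rintro _ ⟨s, -, rfl⟩
    exact hHN s.2
  · rintro _ ⟨s, -, rfl⟩
    exact hHst s s.2
  · rintro _ ⟨ξ, hξ, rfl⟩
    rw [brauerOmega_up _ (fun c => rfl) (blockCoeff F) _ hFf ξ]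
    exact hω ξ hξ

/-- a pair of `G` normally containing `(Q, f)`, with subgroup in `H`, comes from a pair of the
block `F` of `H` -/
theorem exists_down (p : ℕ) (M : Ideal AlgInt) (Q H : Subgroup G) (hQH : Q ≤ H)
    (hCH : Subgroup.centralizer (Q : Set G) ≤ H)
    (f : Set (IrrCharacter (Subgroup.centralizer (Q : Set G))))
    (F : Set (IrrCharacter H)) (hF : IsPBlock M F)
    (hFf : ∀ t : H, blockCoeff F t = subgroupBlockCoeff (Subgroup.centralizer (Q : Set G)) f (t : G))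
    (S' : Subgroup G) (hS'H : S' ≤ H) (g : Set (IrrCharacter (Subgroup.centralizer (S' : Set G))))
    (hn : IsNormalSubpair p M Q f S' g) :
    ∃ (a : BrauerPairIdx H) (h : Q.subgroupOf H ≤ a.1),
      upIdx Q H hQH hCH a h = ⟨S', g⟩ ∧ IsBrauerPairOf p M F a.1 a.2 ∧
        a.1 = S'.subgroupOf H := by
  have hQS' : Q ≤ S' := hn.2.2.1
  have hSS' : S' = (S'.subgroupOf H).map H.subtype := by
    rw [Subgroup.subgroupOf_map_subtype, inf_of_le_left hS'H]
  have hQS : Q.subgroupOf H ≤ S'.subgroupOf H := by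
    intro x hx
    rw [Subgroup.mem_subgroupOf] at hx ⊢
    exact hQS' hx
  refine ⟨⟨S'.subgroupOf H,
    irrMap (centIsoH Q H hCH (S'.subgroupOf H) S' hSS' hQS').symm '' g⟩, hQS, ?_, ?_, rfl⟩
  · rw [upIdx_mk]
    apply idx_ext hSS'.symm
    intro ξ ξ' hag
    constructor
    · rintro ⟨η, ⟨ζ, hζ, rfl⟩, rfl⟩
      have e1 : ξ' = ζ := by
        apply Subtype.ext
        funext c'
        have hc : (c' : G) ∈ Subgroup.centralizer
            (((S'.subgroupOf H).map H.subtype : Subgroup G) : Set G) := by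
          rw [← hSS']
          exact c'.2
        rw [← hag ⟨c', hc⟩ c' rfl]
        rfl
      rw [e1]
      exact hζ
    · intro hξ'
      refine ⟨irrMap (centIsoH Q H hCH (S'.subgroupOf H) S' hSS' hQS').symm ξ', ⟨ξ', hξ', rfl⟩, ?_⟩
      apply Subtype.ext
      funext c
      obtain ⟨cv, hcv⟩ := c
      have hc : cv ∈ Subgroup.centralizer (S' : Set G) := by
        rw [hSS']
        exact hcv
      rw [hag ⟨cv, hcv⟩ ⟨cv, hc⟩ rfl]
      rfl
  · refine ⟨⟨hn.2.1.1.comap_subtype, ?_⟩, hF, ?_⟩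
    · obtain ⟨θ, hθ⟩ := hn.2.1.2
      have hθ' : g = blockOf M θ.1 := hθ
      show IsPBlock M (irrMap (centIsoH Q H hCH (S'.subgroupOf H) S' hSS' hQS').symm '' g)
      rw [hθ', irrMap_image_blockOf]
      exact ⟨_, rfl⟩
    · rintro _ ⟨ζ, hζ, rfl⟩
      have h1 := brauerOmega_up (centIsoH Q H hCH (S'.subgroupOf H) S' hSS' hQS') (fun c => rfl)
        (blockCoeff F) _ hFf (irrMap (centIsoH Q H hCH (S'.subgroupOf H) S' hSS' hQS').symm ζ)
      rw [irrMap_irrMap_symm] at h1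
      rw [← h1]
      exact hn.2.2.2.2.2 ζ hζ

/-- conjugation by an element of `H` commutes with the dictionary -/
theorem up_conj (Q H : Subgroup G) (hQH : Q ≤ H) (hCH : Subgroup.centralizer (Q : Set G) ≤ H)
    (t : H) (a : BrauerPairIdx H) (h : Q.subgroupOf H ≤ a.1)
    (ht : Q.subgroupOf H ≤ (conjIdx t a).1) :
    upIdx Q H hQH hCH (conjIdx t a) ht = conjIdx (t : G) (upIdx Q H hQH hCH a h) := by
  obtain ⟨S, e⟩ := a
  have h1 : (S.map (MulAut.conj t).toMonoidHom).map H.subtype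
      = (S.map H.subtype).map (MulAut.conj (t : G)).toMonoidHom := by
    ext y
    constructor
    · rintro ⟨_, ⟨s, hs, rfl⟩, rfl⟩
      exact ⟨(s : G), ⟨s, hs, rfl⟩, rfl⟩
    · rintro ⟨_, ⟨s, hs, rfl⟩, rfl⟩
      exact ⟨_, ⟨s, hs, rfl⟩, rfl⟩
  show (⟨(S.map (MulAut.conj t).toMonoidHom).map H.subtype,
      irrMap (centIsoH Q H hCH (S.map (MulAut.conj t).toMonoidHom)
        ((S.map (MulAut.conj t).toMonoidHom).map H.subtype) rfl
        (le_map_of_subgroupOf_le Q H hQH _ ht)) '' conjBlock S t e⟩ : BrauerPairIdx G)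
    = ⟨(S.map H.subtype).map (MulAut.conj (t : G)).toMonoidHom,
      conjBlock (S.map H.subtype) (t : G)
        (irrMap (centIsoH Q H hCH S (S.map H.subtype) rfl
          (le_map_of_subgroupOf_le Q H hQH S h)) '' e)⟩
  apply idx_ext h1
  intro ξ ξ' hag
  rw [conjBlock_eq_image, conjBlock_eq_image]
  constructor
  · rintro ⟨_, ⟨ζ, hζ, rfl⟩, rfl⟩
    refine ⟨irrMap _ ζ, ⟨ζ, hζ, rfl⟩, ?_⟩
    apply Subtype.ext
    funext c'
    have hc : (c' : G) ∈ Subgroup.centralizer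
        (((S.map (MulAut.conj t).toMonoidHom).map H.subtype : Subgroup G) : Set G) := by
      rw [h1]
      exact c'.2
    rw [← hag ⟨c', hc⟩ c' rfl]
    rfl
  · rintro ⟨_, ⟨ζ, hζ, rfl⟩, rfl⟩
    refine ⟨irrMap _ ζ, ⟨ζ, hζ, rfl⟩, ?_⟩
    apply Subtype.ext
    funext c
    obtain ⟨cv, hcv⟩ := c
    have hc : cv ∈ Subgroup.centralizer
        (((S.map H.subtype).map (MulAut.conj (t : G)).toMonoidHom : Subgroup G) : Set G) := by
      rw [← h1]
      exact hcv
    rw [hag ⟨cv, hcv⟩ ⟨cv, hc⟩ rfl]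
    rfl

end dict

end Cfsg.Agent.Lib.helper23
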