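import Mathlib
import Cfsg.Agent.Lib.helper23.BPDict2

set_option autoImplicit false

/-!
# Conjugacy, inside `H`, of the pairs of `G` normally containing `(Q, f)`
-/

namespace Cfsg.Agent.Lib.helper23

open Cfsg Cfsg.Agent.Lib.helper24 Cfsg.Agent.Lib.helper5
open scoped ComplexConjugate

universe u

section gen

variable {K : Type u} [Group K] [Fintype K]
variable {M : Ideal AlgInt} {p : ℕ} [Fact p.Prime]

/-- a Brauer pair of `B` whose subgroup is a defect group of `B` is maximal -/
theorem maximal_of_defectGroup (hM : IsPModular p M) (B : Set (IrrCharacter K)) (P : Subgroup K)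
    (e : Set (IrrCharacter (Subgroup.centralizer (P : Set K))))
    (hpair : IsBrauerPairOf p M B P e) (hD : IsDefectGroup p M B P) :
    IsMaximalBrauerPair p M B P e := by
  refine ⟨hpair, ?_⟩
  intro R g hRg hle
  have hPR : P ≤ R := subpairLE_le hle
  obtain ⟨b, hb, hchain⟩ := exists_maximal_above B _ ⟨R, g⟩ hRg rfl
  have hdef := maximal_isDefectGroup hM B b.1 b.2 hb
  have hRb : R ≤ b.1 := subpairLE_le (show SubpairLE p M R g b.1 b.2 from hchain)
  have hcard := defectGroup_card_eq hM B hpair.2.1 b.1 P hdef hD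
  have h1 : Nat.card R ≤ Nat.card P := by
    rw [← hcard]
    exact Subgroup.card_le_of_le hRb
  exact (Subgroup.eq_of_le_of_card_ge hPR h1).symm

end gen

section hconj

variable {G : Type u} [Group G] [Fintype G]
variable {M : Ideal AlgInt} {p : ℕ} [Fact p.Prime]

theorem subgroupOf_le_map_conj (Q H : Subgroup G) (hHN : H ≤ Subgroup.normalizer (Q : Set G))
    (t : H) (S : Subgroup H) (h : Q.subgroupOf H ≤ S) :
    Q.subgroupOf H ≤ S.map (MulAut.conj t).toMonoidHom := by
  intro x hx
  rw [mem_map_conj]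
  apply h
  rw [Subgroup.mem_subgroupOf] at hx ⊢
  have ht : (t : G)⁻¹ ∈ Subgroup.normalizer (Q : Set G) := inv_mem (hHN t.2)
  have := (Subgroup.mem_normalizer_iff.mp ht (x : G)).mp hx
  simpa using this

/-- **conjugacy inside `H`**: a pair normally containing `(Q, f)` is `H`-conjugate into any
pair normally containing `(Q, f)` whose subgroup is a defect group of the block of `H` -/
theorem exists_conj_le_of_defect (hM : IsPModular p M) (Q H : Subgroup G) (hQH : Q ≤ H)
    (hCH : Subgroup.centralizer (Q : Set G) ≤ H) (hHN : H ≤ Subgroup.normalizer (Q : Set G))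
    (f : Set (IrrCharacter (Subgroup.centralizer (Q : Set G))))
    (F : Set (IrrCharacter H)) (hF : IsPBlock M F)
    (hFf : ∀ t : H, blockCoeff F t = subgroupBlockCoeff (Subgroup.centralizer (Q : Set G)) f (t : G))
    (S : Subgroup G) (hSH : S ≤ H) (fS : Set (IrrCharacter (Subgroup.centralizer (S : Set G))))
    (hnS : IsNormalSubpair p M Q f S fS) (hSD : IsDefectGroup p M F (S.subgroupOf H))
    (R : Subgroup G) (hRH : R ≤ H) (g : Set (IrrCharacter (Subgroup.centralizer (R : Set G))))
    (hnR : IsNormalSubpair p M Q f R g) :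
    ∃ t ∈ H, SubpairLE p M (R.map (MulAut.conj t).toMonoidHom) (conjBlock R t g) S fS := by
  classical
  have : Fintype H := Fintype.ofFinite _
  obtain ⟨aS, hS1, hS2, hS3, hS4⟩ := exists_down p M Q H hQH hCH f F hF hFf S hSH fS hnS
  obtain ⟨aR, hR1, hR2, hR3, hR4⟩ := exists_down p M Q H hQH hCH f F hF hFf R hRH g hnR
  have hmaxS : IsMaximalBrauerPair p M F aS.1 aS.2 :=
    maximal_of_defectGroup hM F aS.1 aS.2 hS3 (by rw [hS4]; exact hSD)
  obtain ⟨t, ht⟩ := maximal_conj hM F aS.1 aR.1 aS.2 aR.2 hmaxS hR3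
  have hQt : Q.subgroupOf H ≤ (conjIdx t aR).1 := subgroupOf_le_map_conj Q H hHN t aR.1 hR1
  have hch := up_chain p M Q H hQH hCH (conjIdx t aR) aS ht hQt hS1
  rw [up_conj Q H hQH hCH t aR hR1 hQt, hR2, hS2] at hch
  exact ⟨t, t.2, hch⟩

/-- every pair normally containing `(Q, f)` with subgroup in `H` lies in such a pair whose
subgroup is a defect group of the block of `H` -/
theorem exists_defect_above (hM : IsPModular p M) (Q H : Subgroup G) (hQH : Q ≤ H)
    (hCH : Subgroup.centralizer (Q : Set G) ≤ H) (hHN : H ≤ Subgroup.normalizer (Q : Set G))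
    (hQ : IsPGroup p Q)
    (f : Set (IrrCharacter (Subgroup.centralizer (Q : Set G)))) (hf : IsPBlock M f)
    (hHst : ∀ t ∈ H, StabilizesBlock (Subgroup.centralizer (Q : Set G)) f t)
    (F : Set (IrrCharacter H)) (hF : IsPBlock M F)
    (hFf : ∀ t : H, blockCoeff F t = subgroupBlockCoeff (Subgroup.centralizer (Q : Set G)) f (t : G))
    (R : Subgroup G) (hRH : R ≤ H) (g : Set (IrrCharacter (Subgroup.centralizer (R : Set G))))
    (hnR : IsNormalSubpair p M Q f R g) :
    ∃ (S : Subgroup G) (fS : Set (IrrCharacter (Subgroup.centralizer (S : Set G)))),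
      S ≤ H ∧ IsNormalSubpair p M Q f S fS ∧ IsDefectGroup p M F (S.subgroupOf H) ∧
        SubpairLE p M R g S fS := by
  classical
  have : Fintype H := Fintype.ofFinite _
  obtain ⟨aR, hR1, hR2, hR3, hR4⟩ := exists_down p M Q H hQH hCH f F hF hFf R hRH g hnR
  obtain ⟨b, hb, hchain⟩ := exists_maximal_above F _ aR hR3 rfl
  have hQb : Q.subgroupOf H ≤ b.1 :=
    hR1.trans (subpairLE_le (show SubpairLE p M aR.1 aR.2 b.1 b.2 from hchain))
  have hdef := maximal_isDefectGroup hM F b.1 b.2 hb
  have hup := up_of_brauerPairOf p M Q H hQH hCH hQ f hf hHN hHst F hFf b hQb hb.1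
  have hch := up_chain p M Q H hQH hCH aR b hchain hR1 hQb
  rw [hR2] at hch
  refine ⟨(upIdx Q H hQH hCH b hQb).1, (upIdx Q H hQH hCH b hQb).2, ?_, hup, ?_, hch⟩
  · rintro _ ⟨s, -, rfl⟩
    exact s.2
  · have e1 : (upIdx Q H hQH hCH b hQb).1.subgroupOf H = b.1 :=
      Subgroup.comap_map_eq_self_of_injective H.subtype_injective b.1
    rw [e1]
    exact hdef

end hconj

end Cfsg.Agent.Lib.helper23
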