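import Mathlib
import Cfsg.Agent.Lib.helper23.BPDict3

set_option autoImplicit false

/-!
# Blocks with abelian defect groups: the stabilizers of the pairs below a maximal pair
-/

namespace Cfsg.Agent.Lib.helper23

open Cfsg Cfsg.Agent.Lib.helper24 Cfsg.Agent.Lib.helper5
open scoped ComplexConjugate

universe u

section stab

variable {G : Type u} [Group G]
variable {M : Ideal AlgInt} {p : ℕ}

theorem conjIrr_image_eq_of_stable (hMp : M.IsPrime) (H : Subgroup G) (u : G)
    (hu : u ∈ Subgroup.normalizer (H : Set G)) (f : Set (IrrCharacter H)) (hf : IsPBlock M f)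
    (hst : StabilizesBlock H f u) : conjIrr H u hu '' f = f := by
  obtain ⟨θ₀, rfl⟩ := hf
  have h1 := (stabilizesBlock_iff H u hu _).mp hst θ₀ (mem_blockOf_self hMp.ne_top θ₀)
  rw [conjIrr_image_blockOf, blockOf_eq_of_mem hMp h1]

theorem conjIdx_eq_of_stab (hMp : M.IsPrime) (Q : Subgroup G)
    (f : Set (IrrCharacter (Subgroup.centralizer (Q : Set G)))) (hf : IsPBlock M f) (y : G)
    (hyN : y ∈ Subgroup.normalizer (Q : Set G))
    (hst : StabilizesBlock (Subgroup.centralizer (Q : Set G)) f y) :
    conjIdx y ⟨Q, f⟩ = ⟨Q, f⟩ := by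
  rw [conjIdx_of_normalizer Q y hyN f, conjIrr_image_eq_of_stable hMp _ y _ f hf hst]

end stab

section fin

variable {G : Type u} [Group G] [Fintype G]
variable {M : Ideal AlgInt} {p : ℕ} [Fact p.Prime]

/-- an element conjugating `(P, e)` below itself normalizes `P` and stabilizes `e` -/
theorem stab_of_subpairLE_conj (hM : IsPModular p M) (P : Subgroup G)
    (e : Set (IrrCharacter (Subgroup.centralizer (P : Set G)))) (hPe : IsBrauerPair p M P e)
    (y : G)
    (h : Relation.ReflTransGen (NormalSubpairRel p M) (conjIdx y ⟨P, e⟩) ⟨P, e⟩) :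
    y ∈ Subgroup.normalizer (P : Set G) ∧
      StabilizesBlock (Subgroup.centralizer (P : Set G)) e y := by
  have hle : P.map (MulAut.conj y).toMonoidHom ≤ P :=
    subpairLE_le (show SubpairLE p M (P.map (MulAut.conj y).toMonoidHom) (conjBlock P y e) P e
      from h)
  have heq : P.map (MulAut.conj y).toMonoidHom = P :=
    Subgroup.eq_of_le_of_card_ge hle (by rw [card_map_conj])
  have hyN : y ∈ Subgroup.normalizer (P : Set G) := by
    rw [Subgroup.mem_normalizer_iff]
    intro a
    constructor
    · intro ha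
      rw [← heq, mem_map_conj]
      have e1 : y⁻¹ * (y * a * y⁻¹) * y = a := by group
      rw [e1]
      exact ha
    · intro ha
      rw [← heq, mem_map_conj] at ha
      have e1 : y⁻¹ * (y * a * y⁻¹) * y = a := by group
      rw [e1] at ha
      exact ha
  rw [conjIdx_of_normalizer P y hyN e] at h
  have h2 : conjIrr (Subgroup.centralizer (P : Set G)) y
      (normalizer_le_normalizer_centralizer P hyN) '' e = e :=
    subpairLE_unique hM hPe h Relation.ReflTransGen.refl
  refine ⟨hyN, (stabilizesBlock_iff _ y (normalizer_le_normalizer_centralizer P hyN) e).mpr ?_⟩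
  intro θ hθ
  have h3 : conjIrr (Subgroup.centralizer (P : Set G)) y
      (normalizer_le_normalizer_centralizer P hyN) θ ∈ conjIrr (Subgroup.centralizer (P : Set G)) y
      (normalizer_le_normalizer_centralizer P hyN) '' e := ⟨θ, hθ, rfl⟩
  rw [h2] at h3
  exact h3

/-- an inclusion `(Q, f) ≤ (P, e)` with `P ≤ N_G(Q)` is a normal inclusion -/
theorem normalSubpair_of_le_normalizer (hM : IsPModular p M) (P Q : Subgroup G)
    (e : Set (IrrCharacter (Subgroup.centralizer (P : Set G))))
    (f : Set (IrrCharacter (Subgroup.centralizer (Q : Set G))))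
    (hPe : IsBrauerPair p M P e) (hle : SubpairLE p M Q f P e)
    (hPN : P ≤ Subgroup.normalizer (Q : Set G)) : IsNormalSubpair p M Q f P e := by
  obtain ⟨f', hf', -⟩ := unique_normal_subpair p M hM P Q e hPe (subpairLE_le hle) hPN
  have hff : f' = f := subpairLE_unique hM hPe (Relation.ReflTransGen.single hf') hle
  rw [← hff]
  exact hf'

/-- if the maximal subgroup `P` centralizes `Q`, then `P` is a defect group of `f` -/
theorem defectGroup_of_le_centralizer (hM : IsPModular p M) (B : Set (IrrCharacter G))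
    (P Q : Subgroup G) (e : Set (IrrCharacter (Subgroup.centralizer (P : Set G))))
    (f : Set (IrrCharacter (Subgroup.centralizer (Q : Set G))))
    (hmax : IsMaximalBrauerPair p M B P e) (hf : IsPBlock M f)
    (hle : SubpairLE p M Q f P e) (hPC : P ≤ Subgroup.centralizer (Q : Set G)) :
    IsDefectGroup p M f (P.subgroupOf (Subgroup.centralizer (Q : Set G))) := by
  have hPe : IsBrauerPair p M P e := hmax.1.1
  obtain ⟨x, hx, hAx⟩ := exists_conj_centralizer_defectGroup hM B P Q e f hmax hf hle
  obtain ⟨D, hD, hAD⟩ := centralizer_le_defectGroup hM P Q e f hPe hf hle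
  have h2 := defectGroup_card_conj hM Q x f hf D hD _ hAx
  have hcard : Nat.card D ≤ Nat.card ((P ⊓ Subgroup.centralizer (Q : Set G)).subgroupOf
      (Subgroup.centralizer (Q : Set G))) := by
    rw [← h2, card_subgroupOf_inf, card_subgroupOf_inf, inf_of_le_left hPC]
    exact Subgroup.card_le_of_le inf_le_left
  have heq := Subgroup.eq_of_le_of_card_ge hAD hcard
  rw [← Subgroup.inf_subgroupOf_right, heq]
  exact hD

/-- an element stabilizing `(P, e)` and normalizing `Q` stabilizes the pair `(Q, f) ≤ (P, e)` -/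
theorem stab_of_stab_above (hM : IsPModular p M) (P Q : Subgroup G)
    (e : Set (IrrCharacter (Subgroup.centralizer (P : Set G))))
    (f : Set (IrrCharacter (Subgroup.centralizer (Q : Set G))))
    (hPe : IsBrauerPair p M P e) (hle : SubpairLE p M Q f P e) (y : G)
    (hyP : y ∈ Subgroup.normalizer (P : Set G))
    (hyst : StabilizesBlock (Subgroup.centralizer (P : Set G)) e y)
    (hyN : y ∈ Subgroup.normalizer (Q : Set G)) :
    StabilizesBlock (Subgroup.centralizer (Q : Set G)) f y := by
  have hMp := isPModular_isPrime hM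
  have hch := conjIdx_chain p M y hle
  rw [conjIdx_eq_of_stab hMp P e hPe.2 y hyP hyst, conjIdx_of_normalizer Q y hyN f] at hch
  have h2 : conjIrr (Subgroup.centralizer (Q : Set G)) y
      (normalizer_le_normalizer_centralizer Q hyN) '' f = f := subpairLE_unique hM hPe hch hle
  refine (stabilizesBlock_iff _ y (normalizer_le_normalizer_centralizer Q hyN) f).mpr ?_
  intro θ hθ
  have h3 : conjIrr (Subgroup.centralizer (Q : Set G)) y
      (normalizer_le_normalizer_centralizer Q hyN) θ ∈ conjIrr (Subgroup.centralizer (Q : Set G)) y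
      (normalizer_le_normalizer_centralizer Q hyN) '' f := ⟨θ, hθ, rfl⟩
  rw [h2] at h3
  exact h3

/-- abelian defect groups: the stabilizer of `(Q, f)` is the product of the stabilizer of
`(P, e)` and `C_G(Q)` -/
theorem abelian_stab_factor (hM : IsPModular p M) (B : Set (IrrCharacter G)) (P : Subgroup G)
    (e : Set (IrrCharacter (Subgroup.centralizer (P : Set G))))
    (hmax : IsMaximalBrauerPair p M B P e) (hab : ∀ x ∈ P, ∀ y ∈ P, x * y = y * x)
    (Q : Subgroup G) (f : Set (IrrCharacter (Subgroup.centralizer (Q : Set G)))) (hQP : Q ≤ P)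
    (hf : IsPBlock M f) (hle : SubpairLE p M Q f P e) (x : G)
    (hxN : x ∈ Subgroup.normalizer (Q : Set G))
    (hxst : StabilizesBlock (Subgroup.centralizer (Q : Set G)) f x) :
    ∃ y : G, (y ∈ Subgroup.normalizer (P : Set G) ∧
      StabilizesBlock (Subgroup.centralizer (P : Set G)) e y) ∧
      ∃ c ∈ Subgroup.centralizer (Q : Set G), x = y * c := by
  classical
  have hMp := isPModular_isPrime hM
  have hPe : IsBrauerPair p M P e := hmax.1.1
  have hPC : P ≤ Subgroup.centralizer (Q : Set G) := by
    intro u hu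
    rw [Subgroup.mem_centralizer_iff]
    intro q hq
    exact hab q (hQP hq) u hu
  have hQC : Q ≤ Subgroup.centralizer (Q : Set G) := hQP.trans hPC
  have hnP : IsNormalSubpair p M Q f P e := normalSubpair_of_le_normalizer hM P Q e f hPe hle
    (hPC.trans (Subgroup.centralizer_le_normalizer _))
  have hdefP := defectGroup_of_le_centralizer hM B P Q e f hmax hf hle hPC
  have hFf : ∀ t : Subgroup.centralizer (Q : Set G),
      blockCoeff f t = subgroupBlockCoeff (Subgroup.centralizer (Q : Set G)) f (t : G) := by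
    intro t
    unfold subgroupBlockCoeff
    rw [dif_pos t.2]
  have hidx : conjIdx x ⟨Q, f⟩ = ⟨Q, f⟩ := conjIdx_eq_of_stab hMp Q f hf x hxN hxst
  have hrel : NormalSubpairRel p M (conjIdx x ⟨Q, f⟩) (conjIdx x ⟨P, e⟩) :=
    conjIdx_rel p M x (show NormalSubpairRel p M ⟨Q, f⟩ ⟨P, e⟩ from hnP)
  rw [hidx] at hrel
  have hrel' : IsNormalSubpair p M Q f (P.map (MulAut.conj x).toMonoidHom) (conjBlock P x e) :=
    hrel
  have hRC : P.map (MulAut.conj x).toMonoidHom ≤ Subgroup.centralizer (Q : Set G) := by
    rintro _ ⟨u, hu, rfl⟩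
    rw [Subgroup.mem_centralizer_iff]
    intro q hq
    obtain ⟨v, hv, hvq⟩ := hrel'.2.2.1 hq
    have hvq' : x * v * x⁻¹ = q := hvq
    show q * (x * u * x⁻¹) = x * u * x⁻¹ * q
    rw [← hvq']
    have huv : v * u = u * v := hab v hv u hu
    calc x * v * x⁻¹ * (x * u * x⁻¹) = x * (v * u) * x⁻¹ := by group
      _ = x * (u * v) * x⁻¹ := by rw [huv]
      _ = x * u * x⁻¹ * (x * v * x⁻¹) := by group
  obtain ⟨t, htC, hch⟩ := exists_conj_le_of_defect hM Q (Subgroup.centralizer (Q : Set G)) hQC
    le_rfl (Subgroup.centralizer_le_normalizer _) f f hf hFf P hPC e hnP hdefP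
    (P.map (MulAut.conj x).toMonoidHom) hRC (conjBlock P x e) hrel'
  have hch' : Relation.ReflTransGen (NormalSubpairRel p M) (conjIdx (t * x) ⟨P, e⟩) ⟨P, e⟩ := by
    rw [← conjIdx_mul]
    exact hch
  have hstab := stab_of_subpairLE_conj hM P e hPe (t * x) hch'
  refine ⟨t * x, hstab, x⁻¹ * t⁻¹ * x, ?_, by group⟩
  have h1 := (Subgroup.mem_normalizer_iff.mp
    (normalizer_le_normalizer_centralizer Q (inv_mem hxN)) t⁻¹).mp (inv_mem htC)
  rw [inv_inv] at h1
  exact h1

end fin

end Cfsg.Agent.Lib.helper23
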