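import Mathlib
import Cfsg.Agent.Lib.helper23.BPAbel

set_option autoImplicit false

/-!
# Abelian defect groups: the factorization of the stabilizer of a subpair
-/

namespace Cfsg.Agent.Lib.helper23

open Cfsg Cfsg.Agent.Lib.helper24 Cfsg.Agent.Lib.helper5
open scoped ComplexConjugate

universe u

section fin

variable {G : Type u} [Group G] [Fintype G]
variable {M : Ideal AlgInt} {p : ℕ} [Fact p.Prime]

theorem abelian_subpair_stabilizer (hM : IsPModular p M) (B : Set (IrrCharacter G))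
    (P : Subgroup G) (e : Set (IrrCharacter (Subgroup.centralizer (P : Set G))))
    (hmax : IsMaximalBrauerPair p M B P e) (hab : ∀ x ∈ P, ∀ y ∈ P, x * y = y * x)
    (Q : Subgroup G) (f : Set (IrrCharacter (Subgroup.centralizer (Q : Set G)))) (hQP : Q ≤ P)
    (hf : IsPBlock M f) (hle : SubpairLE p M Q f P e) (TQ : Subgroup G)
    (hTQ : ∀ y : G, y ∈ TQ ↔ y ∈ Subgroup.normalizer (Q : Set G) ∧
      StabilizesBlock (Subgroup.centralizer (Q : Set G)) f y) (TP : Subgroup G)
    (hTP : ∀ y : G, y ∈ TP ↔ y ∈ Subgroup.normalizer (P : Set G) ∧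
      StabilizesBlock (Subgroup.centralizer (P : Set G)) e y) :
    (∀ x ∈ TQ, ∃ y ∈ TP, ∃ c ∈ Subgroup.centralizer (Q : Set G), x = y * c) ∧
    ((Subgroup.centralizer (Q : Set G)).subgroupOf TQ).index
      = ((TP ⊓ Subgroup.centralizer (Q : Set G)).subgroupOf
        (TP ⊓ Subgroup.normalizer (Q : Set G))).index := by
  classical
  have hPe : IsBrauerPair p M P e := hmax.1.1
  have h1 : ∀ x ∈ TQ, ∃ y ∈ TP, ∃ c ∈ Subgroup.centralizer (Q : Set G), x = y * c := by
    intro x hx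
    obtain ⟨hxN, hxst⟩ := (hTQ x).mp hx
    obtain ⟨y, hy, c, hc, hxy⟩ := abelian_stab_factor hM B P e hmax hab Q f hQP hf hle x hxN hxst
    exact ⟨y, (hTP y).mpr hy, c, hc, hxy⟩
  refine ⟨h1, ?_⟩
  obtain ⟨hQT, hCT, hTN, hTst⟩ := stab_facts Q f TQ hTQ
  have hA : TP ⊓ Subgroup.normalizer (Q : Set G) ≤ TQ := by
    intro y hy
    obtain ⟨hyP, hyst⟩ := (hTP y).mp hy.1
    rw [hTQ]
    exact ⟨hy.2, stab_of_stab_above hM P Q e f hPe hle y hyP hyst hy.2⟩
  haveI : ((Subgroup.centralizer (Q : Set G)).subgroupOf TQ).Normal :=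
    (Subgroup.normal_subgroupOf_iff_le_normalizer hCT).mpr
      (hTN.trans (normalizer_le_normalizer_centralizer Q))
  have hsup : (TP ⊓ Subgroup.normalizer (Q : Set G)).subgroupOf TQ
      ⊔ (Subgroup.centralizer (Q : Set G)).subgroupOf TQ = ⊤ := by
    rw [eq_top_iff]
    intro x _
    obtain ⟨y, hy, c, hc, hxy⟩ := h1 (x : G) x.2
    have hyN : y ∈ Subgroup.normalizer (Q : Set G) := by
      have e1 : y = (x : G) * c⁻¹ := by rw [hxy]; group
      rw [e1]
      exact mul_mem (hTN x.2) (inv_mem (Subgroup.centralizer_le_normalizer _ hc))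
    have hyA : y ∈ TP ⊓ Subgroup.normalizer (Q : Set G) := ⟨hy, hyN⟩
    have e2 : x = (⟨y, hA hyA⟩ : TQ) * (⟨c, hCT hc⟩ : TQ) := Subtype.ext hxy
    rw [e2]
    exact Subgroup.mul_mem_sup (Subgroup.mem_subgroupOf.mpr hyA) (Subgroup.mem_subgroupOf.mpr hc)
  have e3 : Subgroup.centralizer (Q : Set G) ⊓ (TP ⊓ Subgroup.normalizer (Q : Set G))
      = TP ⊓ Subgroup.centralizer (Q : Set G) := by
    ext z
    simp only [Subgroup.mem_inf]
    constructor
    · rintro ⟨hz, hzT, -⟩
      exact ⟨hzT, hz⟩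
    · rintro ⟨hzT, hz⟩
      exact ⟨hz, hzT, Subgroup.centralizer_le_normalizer _ hz⟩
  calc ((Subgroup.centralizer (Q : Set G)).subgroupOf TQ).index
      = ((Subgroup.centralizer (Q : Set G)).subgroupOf TQ).relIndex ⊤ :=
        (Subgroup.relIndex_top_right _).symm
    _ = ((Subgroup.centralizer (Q : Set G)).subgroupOf TQ).relIndex
          ((TP ⊓ Subgroup.normalizer (Q : Set G)).subgroupOf TQ
            ⊔ (Subgroup.centralizer (Q : Set G)).subgroupOf TQ) := by rw [hsup]
    _ = ((Subgroup.centralizer (Q : Set G)).subgroupOf TQ).relIndex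
          ((TP ⊓ Subgroup.normalizer (Q : Set G)).subgroupOf TQ) := Subgroup.relIndex_sup_right _ _
    _ = (Subgroup.centralizer (Q : Set G)).relIndex (TP ⊓ Subgroup.normalizer (Q : Set G)) :=
        Subgroup.relIndex_subgroupOf hA
    _ = (Subgroup.centralizer (Q : Set G) ⊓ (TP ⊓ Subgroup.normalizer (Q : Set G))).relIndex
          (TP ⊓ Subgroup.normalizer (Q : Set G)) := (Subgroup.inf_relIndex_right _ _).symm
    _ = (TP ⊓ Subgroup.centralizer (Q : Set G)).relIndex
          (TP ⊓ Subgroup.normalizer (Q : Set G)) := by rw [e3]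
    _ = ((TP ⊓ Subgroup.centralizer (Q : Set G)).subgroupOf
        (TP ⊓ Subgroup.normalizer (Q : Set G))).index := rfl

end fin

end Cfsg.Agent.Lib.helper23
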