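import Mathlib
import Cfsg.Agent.Lib.helper23.BPAbel2
import Cfsg.Agent.S0970

set_option autoImplicit false

/-!
# Fong's theorem for the block of the stabilizer of a pair
-/

namespace Cfsg.Agent.Lib.helper23

open Cfsg Cfsg.Agent.Lib.helper24 Cfsg.Agent.Lib.helper5
open scoped ComplexConjugate

universe u

section fong

variable {G : Type u} [Group G] [Fintype G]
variable {M : Ideal AlgInt} {p : ℕ} [Fact p.Prime]

/-- **Fong**: for a block `F` of `T` with the idempotent of the `T`-stable block `f` of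
`C = C_G(Q) ⊴ T`, the index of `D C` in `T` is prime to `p` for every defect group `D` of `F` -/
theorem index_defect_sup_centralizer (hM : IsPModular p M) (Q T : Subgroup G)
    (hCT : Subgroup.centralizer (Q : Set G) ≤ T) (hTN : T ≤ Subgroup.normalizer (Q : Set G))
    (f : Set (IrrCharacter (Subgroup.centralizer (Q : Set G)))) (hf : IsPBlock M f)
    (hTst : ∀ t ∈ T, StabilizesBlock (Subgroup.centralizer (Q : Set G)) f t)
    (F : Set (IrrCharacter T)) (hF : IsPBlock M F)
    (hFf : ∀ t : T, blockCoeff F t = subgroupBlockCoeff (Subgroup.centralizer (Q : Set G)) f (t : G))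
    (D : Subgroup T) (hD : IsDefectGroup p M F D) :
    ¬ p ∣ (D ⊔ (Subgroup.centralizer (Q : Set G)).subgroupOf T).index := by
  classical
  have : Fintype T := Fintype.ofFinite _
  have : Fintype (IrrCharacter T) := Fintype.ofFinite _
  have : Fintype (Subgroup.centralizer (Q : Set G)) := Fintype.ofFinite _
  have : Fintype (IrrCharacter (Subgroup.centralizer (Q : Set G))) := Fintype.ofFinite _
  have : Fintype ((Subgroup.centralizer (Q : Set G)).subgroupOf T) := Fintype.ofFinite _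
  have : Fintype (IrrCharacter ((Subgroup.centralizer (Q : Set G)).subgroupOf T)) :=
    Fintype.ofFinite _
  have hMp := isPModular_isPrime hM
  have hTNC : T ≤ Subgroup.normalizer
      ((Subgroup.centralizer (Q : Set G) : Subgroup G) : Set G) :=
    hTN.trans (normalizer_le_normalizer_centralizer Q)
  haveI hNn : ((Subgroup.centralizer (Q : Set G)).subgroupOf T).Normal :=
    (Subgroup.normal_subgroupOf_iff_le_normalizer hCT).mpr hTNC
  obtain ⟨ι, hι⟩ : ∃ ι : ((Subgroup.centralizer (Q : Set G)).subgroupOf T)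
      ≃* Subgroup.centralizer (Q : Set G), ι = Subgroup.subgroupOfEquivOfLe hCT := ⟨_, rfl⟩
  have hιc : ∀ n : (Subgroup.centralizer (Q : Set G)).subgroupOf T,
      ((ι n : Subgroup.centralizer (Q : Set G)) : G) = ((n : T) : G) := by
    intro n
    rw [hι]
    rfl
  obtain ⟨b, hb⟩ : ∃ b : Set (IrrCharacter ((Subgroup.centralizer (Q : Set G)).subgroupOf T)),
      b = irrMap ι '' f := ⟨_, rfl⟩
  have hbb : IsPBlock M b := by
    obtain ⟨θ₀, rfl⟩ := hf
    rw [hb, irrMap_image_blockOf]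
    exact ⟨_, rfl⟩
  -- invariance
  have hinv : ∀ g : T, ∀ θ ∈ b,
      ∀ θ' : IrrCharacter ((Subgroup.centralizer (Q : Set G)).subgroupOf T),
      (∀ n : (Subgroup.centralizer (Q : Set G)).subgroupOf T,
        θ'.1 n = θ.1 ⟨g * n * g⁻¹, hNn.conj_mem n n.2 g⟩) → θ' ∈ b := by
    intro g θ hθ θ' hθ'
    rw [hb] at hθ ⊢
    obtain ⟨θ₁, hθ₁, rfl⟩ := hθ
    have hu : (g : G)⁻¹ ∈ Subgroup.normalizer
        ((Subgroup.centralizer (Q : Set G) : Subgroup G) : Set G) := inv_mem (hTNC g.2)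
    refine ⟨conjIrr (Subgroup.centralizer (Q : Set G)) (g : G)⁻¹ hu θ₁,
      (stabilizesBlock_iff _ _ hu f).mp (hTst _ (inv_mem g.2)) θ₁ hθ₁, ?_⟩
    apply Subtype.ext
    funext n
    rw [hθ' n, irrMap_apply, irrMap_apply, conjIrr_apply]
    refine congrArg θ₁.1 (Subtype.ext ?_)
    rw [conjAut_coe, hιc, hιc]
    simp
  have hinv' : ∀ (g : T) (ψ : IrrCharacter ((Subgroup.centralizer (Q : Set G)).subgroupOf T)),
      Cfsg.Agent.Lib.helper5.conjIrr ((Subgroup.centralizer (Q : Set G)).subgroupOf T) g ψ ∈ b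
        ↔ ψ ∈ b := by
    intro g ψ
    constructor
    · intro h
      refine hinv g⁻¹ (Cfsg.Agent.Lib.helper5.conjIrr _ g ψ) h ψ (fun n => ?_)
      show ψ.1 n = ψ.1 ⟨g * ((⟨g⁻¹ * n * g⁻¹⁻¹, _⟩ :
        (Subgroup.centralizer (Q : Set G)).subgroupOf T) : T) * g⁻¹, _⟩
      exact congrArg ψ.1 (Subtype.ext (by simp [mul_assoc]))
    · intro h
      exact hinv g ψ h (Cfsg.Agent.Lib.helper5.conjIrr _ g ψ) (fun n => rfl)
  -- `F` is the set of characters covering `b`
  have hext : extendByZero ((Subgroup.centralizer (Q : Set G)).subgroupOf T)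
      (coef (b.indicator (fun _ => (1 : ℂ)))) = blockCoeff F := by
    funext t
    by_cases ht : t ∈ (Subgroup.centralizer (Q : Set G)).subgroupOf T
    · have ht' : (t : G) ∈ Subgroup.centralizer (Q : Set G) := Subgroup.mem_subgroupOf.mp ht
      rw [extendByZero_apply_mem _ _ ht, coef_indicator, hb, blockCoeff_image_irrMap, hFf]
      unfold subgroupBlockCoeff
      rw [dif_pos ht']
      exact congrArg (blockCoeff f) (Subtype.ext (hιc ⟨t, ht⟩))
    · have ht' : (t : G) ∉ Subgroup.centralizer (Q : Set G) :=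
        fun h => ht (Subgroup.mem_subgroupOf.mpr h)
      rw [extendByZero_apply_not_mem _ _ ht, hFf]
      unfold subgroupBlockCoeff
      rw [dif_neg ht']
  have hFcov : F = cov ((Subgroup.centralizer (Q : Set G)).subgroupOf T) b := by
    apply eq_of_blockCoeff_eq
    funext t
    rw [← coef_indicator (cov _ b), ← coord_extend_indicator _ b hinv', hext, coord_blockCoeff,
      coef_indicator]
  obtain ⟨χ₁, hχ₁⟩ := hF
  have hχ₁F : χ₁ ∈ F := by
    rw [hχ₁]
    exact mem_blockOf_self hMp.ne_top χ₁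
  have hcov : ∃ χ ∈ F, ∃ θ ∈ b, classInner
      (fun n : (Subgroup.centralizer (Q : Set G)).subgroupOf T => χ.1 n)
      θ.1 ≠ 0 := by
    have h1 : χ₁ ∈ cov ((Subgroup.centralizer (Q : Set G)).subgroupOf T) b := by
      rw [← hFcov]
      exact hχ₁F
    obtain ⟨θ, hθ, hne⟩ := h1
    exact ⟨χ₁, hχ₁F, θ, hθ, hne⟩
  have hmax : ∀ B' : Set (IrrCharacter T), IsPBlock M B' →
      (∃ χ ∈ B', ∃ θ ∈ b, classInner
        (fun n : (Subgroup.centralizer (Q : Set G)).subgroupOf T => χ.1 n)
        θ.1 ≠ 0) → blockDefect p B' ≤ blockDefect p F := by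
    intro B' hB' hc
    obtain ⟨χ, hχB', θ, hθ, hne⟩ := hc
    have hχF : χ ∈ F := by
      rw [hFcov]
      exact ⟨θ, hθ, hne⟩
    obtain ⟨χ', rfl⟩ := hB'
    rw [hχ₁] at hχF
    have e1 : blockOf M χ'.1 = F := by
      rw [hχ₁, ← blockOf_eq_of_mem hMp hχB', ← blockOf_eq_of_mem hMp hχF]
    rw [e1]
  exact (Cfsg.Agent.S0970.result p M hM ((Subgroup.centralizer (Q : Set G)).subgroupOf T) b hbb
    hinv F ⟨χ₁, hχ₁⟩ hcov hmax D hD).1

/-- if moreover the `p`-regular elements of `T` centralize `Q`, then `T = D C_G(Q)` -/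
theorem eq_defect_mul_centralizer (hM : IsPModular p M) (Q T : Subgroup G)
    (hCT : Subgroup.centralizer (Q : Set G) ≤ T) (hTN : T ≤ Subgroup.normalizer (Q : Set G))
    (f : Set (IrrCharacter (Subgroup.centralizer (Q : Set G)))) (hf : IsPBlock M f)
    (hTst : ∀ t ∈ T, StabilizesBlock (Subgroup.centralizer (Q : Set G)) f t)
    (F : Set (IrrCharacter T)) (hF : IsPBlock M F)
    (hFf : ∀ t : T, blockCoeff F t = subgroupBlockCoeff (Subgroup.centralizer (Q : Set G)) f (t : G))
    (D : Subgroup T) (hD : IsDefectGroup p M F D)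
    (hreg : ∀ t ∈ T, ¬ p ∣ orderOf t → t ∈ Subgroup.centralizer (Q : Set G)) (t : G)
    (ht : t ∈ T) :
    ∃ d : T, d ∈ D ∧ ∃ c ∈ Subgroup.centralizer (Q : Set G), t = (d : G) * c := by
  classical
  have hp : p.Prime := Fact.out
  have hTNC : T ≤ Subgroup.normalizer
      ((Subgroup.centralizer (Q : Set G) : Subgroup G) : Set G) :=
    hTN.trans (normalizer_le_normalizer_centralizer Q)
  haveI hNn : ((Subgroup.centralizer (Q : Set G)).subgroupOf T).Normal :=
    (Subgroup.normal_subgroupOf_iff_le_normalizer hCT).mpr hTNC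
  have hfong := index_defect_sup_centralizer hM Q T hCT hTN f hf hTst F hF hFf D hD
  -- the quotient is a `p`-group
  have hpg : IsPGroup p (T ⧸ (Subgroup.centralizer (Q : Set G)).subgroupOf T) := by
    intro g
    obtain ⟨s, rfl⟩ := QuotientGroup.mk_surjective g
    have hs0 : orderOf s ≠ 0 := (orderOf_pos s).ne'
    obtain ⟨a, m, hm, hsm⟩ := Nat.exists_eq_pow_mul_and_not_dvd hs0 p hp.ne_one
    refine ⟨a, ?_⟩
    rw [← QuotientGroup.mk_pow, QuotientGroup.eq_one_iff, Subgroup.mem_subgroupOf]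
    have hreg' : ¬ p ∣ orderOf ((s ^ p ^ a : T) : G) := by
      intro hdvd
      apply hm
      have h1 : ((s ^ p ^ a : T) : G) ^ m = 1 := by
        rw [Subgroup.coe_pow, ← pow_mul, ← hsm, ← Subgroup.coe_pow, pow_orderOf_eq_one,
          Subgroup.coe_one]
      exact hdvd.trans (orderOf_dvd_of_pow_eq_one h1)
    exact hreg _ (s ^ p ^ a).2 hreg'
  obtain ⟨k, hk⟩ := IsPGroup.iff_card.mp hpg
  have hidx : ((Subgroup.centralizer (Q : Set G)).subgroupOf T).index = p ^ k := by
    rw [Subgroup.index_eq_card, hk]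
  have hdvd : (D ⊔ (Subgroup.centralizer (Q : Set G)).subgroupOf T).index ∣ p ^ k := by
    rw [← hidx]
    exact Subgroup.index_dvd_of_le le_sup_right
  obtain ⟨j, -, hj⟩ := (Nat.dvd_prime_pow hp).mp hdvd
  have hj0 : j = 0 := by
    by_contra hne
    apply hfong
    rw [hj]
    exact dvd_pow_self p hne
  rw [hj0, pow_zero, Subgroup.index_eq_one] at hj
  have hmem : (⟨t, ht⟩ : T) ∈ D ⊔ (Subgroup.centralizer (Q : Set G)).subgroupOf T := by
    rw [hj]
    exact Subgroup.mem_top _
  rw [← SetLike.mem_coe, Subgroup.mul_normal] at hmem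
  obtain ⟨d, hd, n, hn, hdn⟩ := Set.mem_mul.mp hmem
  refine ⟨d, hd, (n : G), Subgroup.mem_subgroupOf.mp hn, ?_⟩
  have := congrArg (fun s : T => (s : G)) hdn
  exact this.symm

end fong

end Cfsg.Agent.Lib.helper23
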