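import Mathlib
import Cfsg.Agent.Lib.helper23.BPFong

set_option autoImplicit false

/-!
# Abelian defect groups: nilpotent iff the inertial quotient is trivial
-/

namespace Cfsg.Agent.Lib.helper23

open Cfsg Cfsg.Agent.Lib.helper24 Cfsg.Agent.Lib.helper5
open scoped ComplexConjugate

universe u

section stabsub

variable {G : Type u} [Group G]

/-- the stabilizer of a Brauer pair under conjugation -/
def stabSub (a : BrauerPairIdx G) : Subgroup G where
  carrier := {y | conjIdx y a = a}
  mul_mem' := by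
    intro x y hx hy
    show conjIdx (x * y) a = a
    have hx' : conjIdx x a = a := hx
    have hy' : conjIdx y a = a := hy
    rw [← conjIdx_mul, hy', hx']
  one_mem' := conjIdx_one a
  inv_mem' := by
    intro x hx
    show conjIdx x⁻¹ a = a
    have hx' : conjIdx x a = a := hx
    have h := conjIdx_mul x⁻¹ x a
    rw [hx', inv_mul_cancel, conjIdx_one] at h
    exact h

theorem mem_stabSub (a : BrauerPairIdx G) (y : G) : y ∈ stabSub a ↔ conjIdx y a = a := Iff.rfl

end stabsub

section fin

variable {G : Type u} [Group G] [Fintype G]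
variable {M : Ideal AlgInt} {p : ℕ} [Fact p.Prime]

theorem mem_stabSub_iff (hM : IsPModular p M) (Q : Subgroup G)
    (f : Set (IrrCharacter (Subgroup.centralizer (Q : Set G)))) (hQf : IsBrauerPair p M Q f)
    (y : G) :
    y ∈ stabSub ⟨Q, f⟩ ↔ y ∈ Subgroup.normalizer (Q : Set G) ∧
      StabilizesBlock (Subgroup.centralizer (Q : Set G)) f y := by
  have hMp := isPModular_isPrime hM
  rw [mem_stabSub]
  constructor
  · intro h
    apply stab_of_subpairLE_conj hM Q f hQf y
    rw [h]
  · rintro ⟨h1, h2⟩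
    exact conjIdx_eq_of_stab hMp Q f hQf.2 y h1 h2

/-- for a maximal pair `(P, e)`, the subgroup `P` is a defect group of the block of the
stabilizer of `(P, e)` with the idempotent of `e` -/
theorem maximal_stab_defectGroup (hM : IsPModular p M) (B : Set (IrrCharacter G))
    (P : Subgroup G) (e : Set (IrrCharacter (Subgroup.centralizer (P : Set G))))
    (hmax : IsMaximalBrauerPair p M B P e) (T : Subgroup G)
    (hT : ∀ y : G, y ∈ T ↔ y ∈ Subgroup.normalizer (P : Set G) ∧
      StabilizesBlock (Subgroup.centralizer (P : Set G)) e y)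
    (F : Set (IrrCharacter T)) (hF : IsPBlock M F)
    (hFf : ∀ t : T, blockCoeff F t = subgroupBlockCoeff (Subgroup.centralizer (P : Set G)) e (t : G)) :
    IsDefectGroup p M F (P.subgroupOf T) := by
  classical
  have hPe : IsBrauerPair p M P e := hmax.1.1
  obtain ⟨hQT, hCT, hTN, hTst⟩ := stab_facts P e T hT
  obtain ⟨D, hD, hDle⟩ := normalizer_le_defectGroup hM P P e e hPe Relation.ReflTransGen.refl T
    hCT F hF hFf
  obtain ⟨x', hx', hcard⟩ := exists_conj_normalizer_card hM B P P e e hmax hPe.2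
    Relation.ReflTransGen.refl T hQT hTN hTst F hF hFf
  have h1 := hcard D hD
  have e1 : P ⊓ Subgroup.normalizer (P : Set G) = P := inf_of_le_left Subgroup.le_normalizer
  rw [e1] at hDle
  have hge : Nat.card D ≤ Nat.card (P.subgroupOf T) := by
    rw [card_subgroupOf_of_le hQT]
    exact h1.trans (Subgroup.card_le_of_le inf_le_left)
  have heq := Subgroup.eq_of_le_of_card_ge hDle hge
  rw [heq]
  exact hD

theorem abelian_nilpotent_iff (hM : IsPModular p M) (B : Set (IrrCharacter G))
    (P : Subgroup G) (e : Set (IrrCharacter (Subgroup.centralizer (P : Set G))))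
    (hmax : IsMaximalBrauerPair p M B P e) (hab : ∀ x ∈ P, ∀ y ∈ P, x * y = y * x) :
    IsNilpotentBlock p M B ↔ ∀ x : G, x ∈ Subgroup.normalizer (P : Set G) →
      StabilizesBlock (Subgroup.centralizer (P : Set G)) e x →
      x ∈ Subgroup.centralizer (P : Set G) := by
  classical
  have hPe : IsBrauerPair p M P e := hmax.1.1
  have hPC : P ≤ Subgroup.centralizer (P : Set G) := by
    intro u hu
    rw [Subgroup.mem_centralizer_iff]
    intro q hq
    exact hab q hq u hu
  constructor
  · intro hnil x hxN hxst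
    have hT := fun y => mem_stabSub_iff hM P e hPe y
    obtain ⟨hQT, hCT, hTN, hTst⟩ := stab_facts P e (stabSub ⟨P, e⟩) hT
    obtain ⟨F, hF, hFf⟩ := exists_block_of_stable hM P (stabSub ⟨P, e⟩) hPe.1 hQT hCT hTN e hPe.2
      hTst
    have hdef := maximal_stab_defectGroup hM B P e hmax (stabSub ⟨P, e⟩) hT F hF hFf
    have hreg : ∀ t ∈ stabSub ⟨P, e⟩, ¬ p ∣ orderOf t → t ∈ Subgroup.centralizer (P : Set G) :=
      fun t ht hr => hnil.2 P e hmax.1 t (hTN ht) (hTst t ht) hr
    obtain ⟨d, hd, c, hc, hxdc⟩ := eq_defect_mul_centralizer hM P (stabSub ⟨P, e⟩) hCT hTN e hPe.2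
      hTst F hF hFf _ hdef hreg x ((hT x).mpr ⟨hxN, hxst⟩)
    rw [hxdc]
    exact mul_mem (hPC (Subgroup.mem_subgroupOf.mp hd)) hc
  · intro h
    refine ⟨hmax.1.2.1, ?_⟩
    intro Q₀ f₀ hQf x hxN hxst hreg
    obtain ⟨z, hz⟩ := maximal_conj hM B P Q₀ e f₀ hmax hQf
    have hQP := subpairLE_le hz
    have hf' : IsPBlock M (conjBlock Q₀ z f₀) := (subpairLE_brauerPair hz hPe).2
    have hst' := stabIdx_conj ⟨Q₀, f₀⟩ z x ⟨hxN, hxst⟩
    obtain ⟨y, hy, c, hc, hxy⟩ := abelian_stab_factor hM B P e hmax hab _ _ hQP hf' hz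
      (z * x * z⁻¹) hst'.1 hst'.2
    have hyC : y ∈ Subgroup.centralizer (P : Set G) := h y hy.1 hy.2
    have hx' : z * x * z⁻¹ ∈ Subgroup.centralizer
        ((Q₀.map (MulAut.conj z).toMonoidHom : Subgroup G) : Set G) := by
      rw [hxy]
      exact mul_mem (centralizer_le_of_le hQP hyC) hc
    have h3 := (mem_centralizer_map_conj_iff Q₀ z (z * x * z⁻¹)).mp hx'
    have e1 : z⁻¹ * (z * x * z⁻¹) * z = x := by group
    rw [e1] at h3
    exact h3

end fin

end Cfsg.Agent.Lib.helper23
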