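import Mathlib
import Cfsg.Agent.Lib.helper23.BPAbel3

set_option autoImplicit false

/-!
# Nilpotent blocks: fusion of Brauer pairs is controlled by the defect group
-/

namespace Cfsg.Agent.Lib.helper23

open Cfsg Cfsg.Agent.Lib.helper24 Cfsg.Agent.Lib.helper5
open scoped ComplexConjugate

universe u

section fin

variable {G : Type u} [Group G] [Fintype G]
variable {M : Ideal AlgInt} {p : ℕ} [Fact p.Prime]

theorem idx_eq_of_subpairLE_of_eq (hM : IsPModular p M) (P Q : Subgroup G)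
    (e : Set (IrrCharacter (Subgroup.centralizer (P : Set G))))
    (f : Set (IrrCharacter (Subgroup.centralizer (Q : Set G))))
    (hPe : IsBrauerPair p M P e) (hle : SubpairLE p M Q f P e) (h : Q = P) :
    (⟨Q, f⟩ : BrauerPairIdx G) = ⟨P, e⟩ := by
  subst h
  have hfe : f = e := subpairLE_unique hM hPe hle Relation.ReflTransGen.refl
  rw [hfe]

/-- in a nilpotent block, an element normalizing and stabilizing a maximal pair `(P, e)` acts on
`P` as an element of `P` -/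
theorem nilpotent_stab_maximal (hM : IsPModular p M) (B : Set (IrrCharacter G)) (P : Subgroup G)
    (e : Set (IrrCharacter (Subgroup.centralizer (P : Set G))))
    (hmax : IsMaximalBrauerPair p M B P e) (hnil : IsNilpotentBlock p M B) (g : G)
    (hgN : g ∈ Subgroup.normalizer (P : Set G))
    (hgst : StabilizesBlock (Subgroup.centralizer (P : Set G)) e g) :
    ∃ u ∈ P, ∀ q ∈ P, g * q * g⁻¹ = u * q * u⁻¹ := by
  classical
  have hPe : IsBrauerPair p M P e := hmax.1.1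
  have hT := fun y => mem_stabSub_iff hM P e hPe y
  obtain ⟨hQT, hCT, hTN, hTst⟩ := stab_facts P e (stabSub ⟨P, e⟩) hT
  obtain ⟨F, hF, hFf⟩ := exists_block_of_stable hM P (stabSub ⟨P, e⟩) hPe.1 hQT hCT hTN e hPe.2
    hTst
  have hdef := maximal_stab_defectGroup hM B P e hmax (stabSub ⟨P, e⟩) hT F hF hFf
  have hreg : ∀ t ∈ stabSub ⟨P, e⟩, ¬ p ∣ orderOf t → t ∈ Subgroup.centralizer (P : Set G) :=
    fun t ht hr => hnil.2 P e hmax.1 t (hTN ht) (hTst t ht) hr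
  obtain ⟨d, hd, c, hc, hgdc⟩ := eq_defect_mul_centralizer hM P (stabSub ⟨P, e⟩) hCT hTN e hPe.2
    hTst F hF hFf _ hdef hreg g ((hT g).mpr ⟨hgN, hgst⟩)
  refine ⟨(d : G), Subgroup.mem_subgroupOf.mp hd, ?_⟩
  intro q hq
  have hcq : q * c = c * q := Subgroup.mem_centralizer_iff.mp hc q hq
  rw [hgdc]
  calc (d : G) * c * q * ((d : G) * c)⁻¹ = (d : G) * (c * q) * c⁻¹ * (d : G)⁻¹ := by group
    _ = (d : G) * (q * c) * c⁻¹ * (d : G)⁻¹ := by rw [hcq]
    _ = (d : G) * q * (d : G)⁻¹ := by group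

/-- in a nilpotent block, every conjugation between pairs below `(P, e)` is induced by an
element of `P` -/
theorem nilpotent_conj_in_P (hM : IsPModular p M) (B : Set (IrrCharacter G)) (P : Subgroup G)
    (e : Set (IrrCharacter (Subgroup.centralizer (P : Set G))))
    (hmax : IsMaximalBrauerPair p M B P e) (hnil : IsNilpotentBlock p M B) :
    ∀ (n : ℕ) (Q : Subgroup G) (f : Set (IrrCharacter (Subgroup.centralizer (Q : Set G))))
      (g : G), Nat.card P - Nat.card Q = n → SubpairLE p M Q f P e →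
      SubpairLE p M (Q.map (MulAut.conj g).toMonoidHom) (conjBlock Q g f) P e →
      ∃ u ∈ P, ∀ q ∈ Q, g * q * g⁻¹ = u * q * u⁻¹ := by
  classical
  intro n
  induction n using Nat.strong_induction_on with
  | _ n ih =>
  intro Q f g hn hle hle'
  have hMp := isPModular_isPrime hM
  have hPe : IsBrauerPair p M P e := hmax.1.1
  have hP : IsPGroup p P := hPe.1
  have hQP : Q ≤ P := subpairLE_le hle
  by_cases hQeq : Q = P
  · have hidx := idx_eq_of_subpairLE_of_eq hM P Q e f hPe hle hQeq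
    have hle'' : Relation.ReflTransGen (NormalSubpairRel p M) (conjIdx g ⟨Q, f⟩) ⟨P, e⟩ := hle'
    rw [hidx] at hle''
    have hst := stab_of_subpairLE_conj hM P e hPe g hle''
    obtain ⟨u, hu, huq⟩ := nilpotent_stab_maximal hM B P e hmax hnil g hst.1 hst.2
    exact ⟨u, hu, fun q hq => huq q (hQP hq)⟩
  · have hQf : IsBrauerPair p M Q f := subpairLE_brauerPair hle hPe
    have hBQ : IsBrauerPairOf p M B Q f :=
      (brauerPairOf_iff_of_subpairLE hM P Q e f hle B).mp hmax.1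
    have hT := fun y => mem_stabSub_iff hM Q f hQf y
    obtain ⟨hQT, hCT, hTN, hTst⟩ := stab_facts Q f (stabSub ⟨Q, f⟩) hT
    obtain ⟨F, hF, hFf⟩ := exists_block_of_stable hM Q (stabSub ⟨Q, f⟩) hQf.1 hQT hCT hTN f hQf.2
      hTst
    have hreg : ∀ t ∈ stabSub ⟨Q, f⟩, ¬ p ∣ orderOf t → t ∈ Subgroup.centralizer (Q : Set G) :=
      fun t ht hr => hnil.2 Q f hBQ t (hTN ht) (hTst t ht) hr
    obtain ⟨R₀, hQR₀, hR₀P, hR₀N, hlt₀⟩ := exists_normalizer_step hP hQP hQeq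
    obtain ⟨gR, hnR, hRle⟩ := exists_normalSubpair_normalizer hM P Q e f hPe hle
    have hltR : Nat.card Q < Nat.card (P ⊓ Subgroup.normalizer (Q : Set G) : Subgroup G) :=
      lt_of_lt_of_le hlt₀ (Subgroup.card_le_of_le (le_inf hR₀P hR₀N))
    have hQ'P : Q.map (MulAut.conj g).toMonoidHom ≤ P := subpairLE_le hle'
    have hQ'ne : Q.map (MulAut.conj g).toMonoidHom ≠ P := by
      intro h
      apply hQeq
      exact Subgroup.eq_of_le_of_card_ge hQP (by rw [← h, card_map_conj])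
    obtain ⟨R₀', hQR₀', hR₀P', hR₀N', hlt₀'⟩ := exists_normalizer_step hP hQ'P hQ'ne
    obtain ⟨gR', hnR', hRle'⟩ := exists_normalSubpair_normalizer hM P _ e (conjBlock Q g f) hPe
      hle'
    have hltR' : Nat.card Q < Nat.card (P ⊓ Subgroup.normalizer
        ((Q.map (MulAut.conj g).toMonoidHom : Subgroup G) : Set G) : Subgroup G) := by
      have := lt_of_lt_of_le hlt₀' (Subgroup.card_le_of_le (le_inf hR₀P' hR₀N'))
      rwa [card_map_conj] at this
    have hback : conjIdx g⁻¹ (conjIdx g ⟨Q, f⟩) = ⟨Q, f⟩ := by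
      rw [conjIdx_mul, inv_mul_cancel, conjIdx_one]
    obtain ⟨a₂, ha₂⟩ : ∃ a₂ : BrauerPairIdx G, a₂ = conjIdx g⁻¹
        ⟨P ⊓ Subgroup.normalizer ((Q.map (MulAut.conj g).toMonoidHom : Subgroup G) : Set G),
          gR'⟩ := ⟨_, rfl⟩
    have hrel₂ : NormalSubpairRel p M ⟨Q, f⟩ a₂ := by
      have h1 := conjIdx_rel p M g⁻¹ (show NormalSubpairRel p M (conjIdx g ⟨Q, f⟩)
        ⟨P ⊓ Subgroup.normalizer ((Q.map (MulAut.conj g).toMonoidHom : Subgroup G) : Set G),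
          gR'⟩ from hnR')
      rw [hback, ← ha₂] at h1
      exact h1
    have hn₂ : IsNormalSubpair p M Q f a₂.1 a₂.2 := hrel₂
    have hRT : P ⊓ Subgroup.normalizer (Q : Set G) ≤ stabSub ⟨Q, f⟩ :=
      fun y hy => (hT y).mpr ⟨hnR.2.2.2.1 hy, hnR.2.2.2.2.1 y hy⟩
    have hR₂T : a₂.1 ≤ stabSub ⟨Q, f⟩ :=
      fun y hy => (hT y).mpr ⟨hn₂.2.2.2.1 hy, hn₂.2.2.2.2.1 y hy⟩
    obtain ⟨S, fS, hST, hnS, hSD, hRS⟩ := exists_defect_above hM Q (stabSub ⟨Q, f⟩) hQT hCT hTN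
      hQf.1 f hQf.2 hTst F hF hFf _ hRT gR hnR
    obtain ⟨t, htT, htS⟩ := exists_conj_le_of_defect hM Q (stabSub ⟨Q, f⟩) hQT hCT hTN f F hF hFf
      S hST fS hnS hSD a₂.1 hR₂T a₂.2 hn₂
    have hBS : IsBrauerPairOf p M B S fS := brauerPairOf_of_normalSubpair hM Q S f fS hnS B hBQ
    obtain ⟨z, hz⟩ := maximal_conj hM B P S e fS hmax hBS
    have hc1 : Relation.ReflTransGen (NormalSubpairRel p M)
        (conjIdx z ⟨P ⊓ Subgroup.normalizer (Q : Set G), gR⟩) ⟨P, e⟩ :=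
      (conjIdx_chain p M z hRS).trans hz
    have hRcard : Nat.card (P ⊓ Subgroup.normalizer (Q : Set G) : Subgroup G) ≤ Nat.card P :=
      Subgroup.card_le_of_le inf_le_left
    have hRcard' : Nat.card (P ⊓ Subgroup.normalizer
        ((Q.map (MulAut.conj g).toMonoidHom : Subgroup G) : Set G) : Subgroup G) ≤ Nat.card P :=
      Subgroup.card_le_of_le inf_le_left
    obtain ⟨u₁, hu₁P, hu₁⟩ := ih
      (Nat.card P - Nat.card (P ⊓ Subgroup.normalizer (Q : Set G) : Subgroup G)) (by omega)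
      (P ⊓ Subgroup.normalizer (Q : Set G)) gR z rfl hRle hc1
    have hc2 : Relation.ReflTransGen (NormalSubpairRel p M) (conjIdx (z * t * g⁻¹)
        ⟨P ⊓ Subgroup.normalizer ((Q.map (MulAut.conj g).toMonoidHom : Subgroup G) : Set G),
          gR'⟩) ⟨P, e⟩ := by
      rw [mul_assoc, ← conjIdx_mul, ← conjIdx_mul, ← ha₂]
      exact (conjIdx_chain p M z htS).trans hz
    obtain ⟨u₂, hu₂P, hu₂⟩ := ih
      (Nat.card P - Nat.card (P ⊓ Subgroup.normalizer
        ((Q.map (MulAut.conj g).toMonoidHom : Subgroup G) : Set G) : Subgroup G)) (by omega)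
      _ gR' (z * t * g⁻¹) rfl hRle' hc2
    obtain ⟨s, hsS, c₃, hc₃, htsc⟩ := eq_defect_mul_centralizer hM Q _ hCT hTN f hQf.2 hTst F hF
      hFf _ hSD hreg t htT
    have hsS' : (s : G) ∈ S := Subgroup.mem_subgroupOf.mp hsS
    have hzsP : z * (s : G) * z⁻¹ ∈ P := subpairLE_le hz ⟨(s : G), hsS', rfl⟩
    refine ⟨u₂⁻¹ * u₁ * (u₁⁻¹ * (z * (s : G) * z⁻¹) * u₁),
      mul_mem (mul_mem (inv_mem hu₂P) hu₁P) (mul_mem (mul_mem (inv_mem hu₁P) hzsP) hu₁P), ?_⟩
    intro q hq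
    have hqR : q ∈ P ⊓ Subgroup.normalizer (Q : Set G) := ⟨hQP hq, Subgroup.le_normalizer hq⟩
    have hsN : (s : G) ∈ Subgroup.normalizer (Q : Set G) := hTN s.2
    have hq₁ : (s : G) * q * (s : G)⁻¹ ∈ Q := (Subgroup.mem_normalizer_iff.mp hsN q).mp hq
    have hq₁R : (s : G) * q * (s : G)⁻¹ ∈ P ⊓ Subgroup.normalizer (Q : Set G) :=
      ⟨hQP hq₁, Subgroup.le_normalizer hq₁⟩
    have hq' : g * q * g⁻¹ ∈ Q.map (MulAut.conj g).toMonoidHom := ⟨q, hq, rfl⟩
    have hq'R : g * q * g⁻¹ ∈ P ⊓ Subgroup.normalizer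
        ((Q.map (MulAut.conj g).toMonoidHom : Subgroup G) : Set G) :=
      ⟨hQ'P hq', Subgroup.le_normalizer hq'⟩
    have e1 := hu₁ q hqR
    have e2 := hu₁ _ hq₁R
    have e3 := hu₂ _ hq'R
    have hc₃q : q * c₃ = c₃ * q := Subgroup.mem_centralizer_iff.mp hc₃ q hq
    have htq : t * q * t⁻¹ = (s : G) * q * (s : G)⁻¹ := by
      rw [htsc]
      calc (s : G) * c₃ * q * ((s : G) * c₃)⁻¹ = (s : G) * (c₃ * q) * c₃⁻¹ * (s : G)⁻¹ := by group
        _ = (s : G) * (q * c₃) * c₃⁻¹ * (s : G)⁻¹ := by rw [hc₃q]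
        _ = (s : G) * q * (s : G)⁻¹ := by group
    have h3 : u₂ * (g * q * g⁻¹) * u₂⁻¹ = z * (t * q * t⁻¹) * z⁻¹ := by
      rw [← e3]
      group
    have h4 : g * q * g⁻¹ = u₂⁻¹ * (z * (t * q * t⁻¹) * z⁻¹) * u₂ := by
      rw [← h3]
      group
    have h5 : u₂⁻¹ * u₁ * (u₁⁻¹ * (z * (s : G) * z⁻¹) * u₁) * q
        * (u₂⁻¹ * u₁ * (u₁⁻¹ * (z * (s : G) * z⁻¹) * u₁))⁻¹
        = u₂⁻¹ * ((z * (s : G) * z⁻¹) * (u₁ * q * u₁⁻¹) * (z * (s : G) * z⁻¹)⁻¹) * u₂ := by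
      group
    have h6 : z * (s : G) * z⁻¹ * (z * q * z⁻¹) * (z * (s : G) * z⁻¹)⁻¹
        = z * ((s : G) * q * (s : G)⁻¹) * z⁻¹ := by group
    rw [h4, htq, h5, ← e1, h6]

end fin

end Cfsg.Agent.Lib.helper23
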