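import Mathlib
import Cfsg.Agent.Lib.helper23.BPInner

set_option autoImplicit false

/-!
# Nilpotent blocks: the fusion system is the inner fusion system of the defect group
-/

namespace Cfsg.Agent.Lib.helper23

open Cfsg Cfsg.Agent.Lib.helper24 Cfsg.Agent.Lib.helper5
open scoped ComplexConjugate

universe u

section grp

variable {G : Type u} [Group G]

theorem centralizes_of_inner_coprime' (Q : Subgroup G) (x q : G)
    (hq : ∀ y ∈ Q, q * y * q⁻¹ ∈ Q)
    (h : ∀ y ∈ Q, x * y * x⁻¹ = q * y * q⁻¹) (hcop : (orderOf x).Coprime (orderOf q)) :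
    x ∈ Subgroup.centralizer (Q : Set G) := by
  have hpow : ∀ n : ℕ, ∀ y ∈ Q, x ^ n * y * (x ^ n)⁻¹ = q ^ n * y * (q ^ n)⁻¹ := by
    intro n
    induction n with
    | zero =>
      intro y _
      simp
    | succ n ih =>
      intro y hy
      have hy' : q * y * q⁻¹ ∈ Q := hq y hy
      have e1 : x ^ (n + 1) * y * (x ^ (n + 1))⁻¹ = x ^ n * (x * y * x⁻¹) * (x ^ n)⁻¹ := by
        rw [pow_succ]
        group
      have e2 : q ^ (n + 1) * y * (q ^ (n + 1))⁻¹ = q ^ n * (q * y * q⁻¹) * (q ^ n)⁻¹ := by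
        rw [pow_succ]
        group
      rw [e1, e2, h y hy, ih _ hy']
  obtain ⟨k, hk1, hk2⟩ := Nat.chineseRemainder hcop 1 0
  have hx : x ^ k = x := by
    have := (pow_eq_pow_iff_modEq (x := x) (n := k) (m := 1)).mpr hk1
    rwa [pow_one] at this
  have hqk : q ^ k = 1 := by
    have := (pow_eq_pow_iff_modEq (x := q) (n := k) (m := 0)).mpr hk2
    rwa [pow_zero] at this
  rw [Subgroup.mem_centralizer_iff]
  intro y hy
  have h1 := hpow k y hy
  rw [hx, hqk] at h1
  have h2 : x * y * x⁻¹ = y := by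
    rw [h1]
    group
  calc y * x = (x * y * x⁻¹) * x := by rw [h2]
    _ = x * y := by group

end grp

section fin

variable {G : Type u} [Group G] [Fintype G]
variable {M : Ideal AlgInt} {p : ℕ} [Fact p.Prime]

theorem nilpotent_iff_inner (hM : IsPModular p M) (B : Set (IrrCharacter G)) (P : Subgroup G)
    (e : Set (IrrCharacter (Subgroup.centralizer (P : Set G))))
    (hmax : IsMaximalBrauerPair p M B P e) (F : FusionSystem P)
    (hF : IsBlockFusionSystemOn p M B P e F) :
    IsNilpotentBlock p M B ↔ ∀ Q : Subgroup G, F.Hom Q = (innerFusionSystem P).Hom Q := by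
  classical
  have hMp := isPModular_isPrime hM
  have hPe : IsBrauerPair p M P e := hmax.1.1
  have hPp : IsPGroup p P := hPe.1
  constructor
  · intro hnil Q
    ext φ
    constructor
    · intro hφ
      obtain ⟨hQP, g, hg, _, f, hle, hle'⟩ := (hF.2 Q φ).mp hφ
      obtain ⟨u, hu, huq⟩ := nilpotent_conj_in_P hM B P e hmax hnil _ Q f g rfl hle hle'
      exact ⟨hQP, u, hu, fun x => by rw [hg x]; exact huq x x.2⟩
    · rintro ⟨hQP, g, hg, hφ⟩
      have : φ = conjHom Q g := MonoidHom.ext (fun x => hφ x)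
      rw [this]
      exact F.conj_mem hQP hg
  · intro hinner
    refine ⟨hmax.1.2.1, ?_⟩
    intro Q₀ f₀ hB x hxN hxst hreg
    obtain ⟨z, hz⟩ := maximal_conj hM B P Q₀ e f₀ hmax hB
    have hQP : Q₀.map (MulAut.conj z).toMonoidHom ≤ P := subpairLE_le hz
    have hst := stabIdx_conj ⟨Q₀, f₀⟩ z x ⟨hxN, hxst⟩
    have hQf : IsBrauerPair p M (Q₀.map (MulAut.conj z).toMonoidHom) (conjBlock Q₀ z f₀) :=
      subpairLE_brauerPair hz hPe
    have hidx : conjIdx (z * x * z⁻¹) (conjIdx z ⟨Q₀, f₀⟩) = conjIdx z ⟨Q₀, f₀⟩ :=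
      conjIdx_eq_of_stab hMp _ _ hQf.2 _ hst.1 hst.2
    have hmem : conjHom (Q₀.map (MulAut.conj z).toMonoidHom) (z * x * z⁻¹)
        ∈ F.Hom (Q₀.map (MulAut.conj z).toMonoidHom) := by
      rw [hF.2]
      refine ⟨hQP, z * x * z⁻¹, fun u => rfl, ?_, conjBlock Q₀ z f₀, hz, ?_⟩
      · have hN : z * x * z⁻¹ ∈ Subgroup.normalizer
            ((Q₀.map (MulAut.conj z).toMonoidHom : Subgroup G) : Set G) := hst.1
        rw [map_conj_eq_of_mem_normalizer _ _ hN]
        exact hQP
      · show Relation.ReflTransGen (NormalSubpairRel p M)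
          (conjIdx (z * x * z⁻¹) (conjIdx z ⟨Q₀, f₀⟩)) ⟨P, e⟩
        rw [hidx]
        exact hz
    rw [hinner] at hmem
    obtain ⟨_, u, hu, hφ⟩ := hmem
    have hφ' : ∀ y ∈ Q₀.map (MulAut.conj z).toMonoidHom,
        z * x * z⁻¹ * y * (z * x * z⁻¹)⁻¹ = u * y * u⁻¹ := fun y hy => hφ ⟨y, hy⟩
    have hcent : z * x * z⁻¹ ∈ Subgroup.centralizer
        ((Q₀.map (MulAut.conj z).toMonoidHom : Subgroup G) : Set G) := by
      apply centralizes_of_inner_coprime' _ (z * x * z⁻¹) u
      · intro y hy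
        rw [← hφ' y hy]
        exact (Subgroup.mem_normalizer_iff.mp hst.1 y).mp hy
      · exact hφ'
      · have ho : orderOf (z * x * z⁻¹) = orderOf x := by
          have := (MulAut.conj z).orderOf_eq x
          simpa using this
        rw [ho]
        obtain ⟨k, hk⟩ := (IsPGroup.iff_orderOf.mp hPp) ⟨u, hu⟩
        rw [Subgroup.orderOf_mk] at hk
        rw [hk]
        apply Nat.Coprime.pow_right
        exact (Nat.Coprime.symm ((Nat.Prime.coprime_iff_not_dvd (Fact.out : p.Prime)).mpr hreg))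
    have h2 := (mem_centralizer_map_conj_iff Q₀ z (z * x * z⁻¹)).mp hcent
    have e3 : z⁻¹ * (z * x * z⁻¹) * z = x := by group
    rwa [e3] at h2

end fin

end Cfsg.Agent.Lib.helper23
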