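import Mathlib
import Cfsg.Agent.Lib.helper23.BPInner2

set_option autoImplicit false

/-!
# Nilpotent blocks: the blocks of the centralizers are nilpotent
-/

namespace Cfsg.Agent.Lib.helper23

open Cfsg Cfsg.Agent.Lib.helper24 Cfsg.Agent.Lib.helper5
open scoped ComplexConjugate

universe u

section dictC

variable {G : Type u} [Group G]

/-- the centralizer in `C_G(Q)` of a subgroup `R` is the centralizer in `G` of `Q R` -/
def centIsoC (Q : Subgroup G) (R : Subgroup (Subgroup.centralizer (Q : Set G))) :
    Subgroup.centralizer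
        ((Q ⊔ R.map (Subgroup.centralizer (Q : Set G)).subtype : Subgroup G) : Set G)
      ≃* Subgroup.centralizer (R : Set (Subgroup.centralizer (Q : Set G))) where
  toFun c := ⟨⟨c, centralizer_le_of_le le_sup_left c.2⟩, by
      rw [Subgroup.mem_centralizer_iff]
      intro s hs
      apply Subtype.ext
      refine Subgroup.mem_centralizer_iff.mp c.2 (s : G) ?_
      exact (le_sup_right : R.map (Subgroup.centralizer (Q : Set G)).subtype ≤ Q ⊔ _)
        (Subgroup.mem_map.mpr ⟨s, hs, rfl⟩)⟩
  invFun d := ⟨((d : Subgroup.centralizer (Q : Set G)) : G), by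
      apply le_centralizer_singleton_iff.mp
      refine sup_le ?_ ?_
      · exact le_centralizer_singleton_iff.mpr (d : Subgroup.centralizer (Q : Set G)).2
      · rintro _ ⟨s, hs, rfl⟩
        rw [mem_centralizer_singleton_comm]
        have := Subgroup.mem_centralizer_iff.mp d.2 s hs
        exact (congrArg Subtype.val this).symm⟩
  left_inv c := rfl
  right_inv d := rfl
  map_mul' a b := rfl

theorem centIsoC_coe (Q : Subgroup G) (R : Subgroup (Subgroup.centralizer (Q : Set G)))
    (c : Subgroup.centralizer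
        ((Q ⊔ R.map (Subgroup.centralizer (Q : Set G)).subtype : Subgroup G) : Set G)) :
    (((centIsoC Q R c : Subgroup.centralizer (R : Set (Subgroup.centralizer (Q : Set G))))
      : Subgroup.centralizer (Q : Set G)) : G) = c := rfl

theorem mem_normalizer_sup (A B : Subgroup G) (x : G)
    (hA : x ∈ Subgroup.normalizer (A : Set G)) (hB : x ∈ Subgroup.normalizer (B : Set G)) :
    x ∈ Subgroup.normalizer ((A ⊔ B : Subgroup G) : Set G) := by
  have hmap : (A ⊔ B).map (MulAut.conj x).toMonoidHom = A ⊔ B := by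
    rw [Subgroup.map_sup, map_conj_eq_of_mem_normalizer A x hA,
      map_conj_eq_of_mem_normalizer B x hB]
  rw [Subgroup.mem_normalizer_iff]
  intro h
  constructor
  · intro hh
    rw [← hmap]
    exact ⟨h, hh, rfl⟩
  · intro hh
    rw [← hmap] at hh
    obtain ⟨h', hh', he⟩ := hh
    have : h' = h := (MulAut.conj x).injective he
    rwa [← this]

end dictC

section fin

variable {G : Type u} [Group G] [Fintype G]
variable {M : Ideal AlgInt} {p : ℕ} [Fact p.Prime]

/-- a Brauer pair `(R, g)` of the block `f` of `C_G(Q)` gives a Brauer pair `(Q R, g)` of `G`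
normally containing `(Q, f)` -/
theorem normalSubpair_of_centralizer_pair (Q : Subgroup G)
    (f : Set (IrrCharacter (Subgroup.centralizer (Q : Set G)))) (hQf : IsBrauerPair p M Q f)
    (R : Subgroup (Subgroup.centralizer (Q : Set G)))
    (g : Set (IrrCharacter (Subgroup.centralizer (R : Set (Subgroup.centralizer (Q : Set G))))))
    (hRg : IsBrauerPairOf p M f R g) :
    IsNormalSubpair p M Q f (Q ⊔ R.map (Subgroup.centralizer (Q : Set G)).subtype)
      (irrMap (centIsoC Q R) '' g) := by
  classical
  have hQp : IsPGroup p Q := hQf.1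
  have hRGle : R.map (Subgroup.centralizer (Q : Set G)).subtype
      ≤ Subgroup.centralizer (Q : Set G) := Subgroup.map_subtype_le _
  have hSp : IsPGroup p (Q ⊔ R.map (Subgroup.centralizer (Q : Set G)).subtype : Subgroup G) :=
    IsPGroup.to_sup_of_normal_left' hQp (hRg.1.1.map _)
      (hRGle.trans (Subgroup.centralizer_le_normalizer _))
  have hgblock : IsPBlock M (irrMap (centIsoC Q R) '' g) := by
    obtain ⟨θ₀, hθ₀⟩ := hRg.1.2
    rw [hθ₀, irrMap_image_blockOf]
    exact ⟨_, rfl⟩
  refine ⟨hQf, ⟨hSp, hgblock⟩, le_sup_left,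
    sup_le Subgroup.le_normalizer (hRGle.trans (Subgroup.centralizer_le_normalizer _)), ?_, ?_⟩
  · intro u hu
    exact stabilizesBlock_of_mem_sup Q f u (sup_le_sup_left hRGle Q hu)
  · rintro _ ⟨ξ, hξ, rfl⟩
    rw [brauerOmega_up (centIsoC Q R) (centIsoC_coe Q R) (blockCoeff f)
      (subgroupBlockCoeff (Subgroup.centralizer (Q : Set G)) f)
      (fun h => by unfold subgroupBlockCoeff; rw [dif_pos h.2]) ξ]
    exact hRg.2.2 ξ hξ

/-- the blocks of the centralizers belonging to a nilpotent block are nilpotent -/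
theorem nilpotent_local_nilpotent (hM : IsPModular p M) (B : Set (IrrCharacter G))
    (hnil : IsNilpotentBlock p M B) (Q : Subgroup G)
    (f : Set (IrrCharacter (Subgroup.centralizer (Q : Set G))))
    (hQf : IsBrauerPairOf p M B Q f) : IsNilpotentBlock p M f := by
  classical
  refine ⟨hQf.1.2, ?_⟩
  intro R g hRg x hxN hxst hreg
  have hn := normalSubpair_of_centralizer_pair Q f hQf.1 R g hRg
  have hBS := brauerPairOf_of_normalSubpair hM Q _ f _ hn B hQf
  have hxNG : (x : G) ∈ Subgroup.normalizer
      ((Q ⊔ R.map (Subgroup.centralizer (Q : Set G)).subtype : Subgroup G) : Set G) :=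
    mem_normalizer_sup _ _ _ (Subgroup.centralizer_le_normalizer _ x.2)
      (mem_normalizer_map_subtype _ R x hxN)
  have hxst' : StabilizesBlock (Subgroup.centralizer
      ((Q ⊔ R.map (Subgroup.centralizer (Q : Set G)).subtype : Subgroup G) : Set G))
      (irrMap (centIsoC Q R) '' g) (x : G) :=
    stabilizesBlock_up (centIsoC Q R) (centIsoC_coe Q R) x
      (normalizer_le_normalizer_centralizer _ hxNG) g hxst
  have hreg' : IsPRegular p (x : G) := by
    unfold IsPRegular
    rw [Subgroup.orderOf_coe]
    exact hreg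
  have hc := hnil.2 _ _ hBS (x : G) hxNG hxst' hreg'
  exact (centIsoC Q R ⟨(x : G), hc⟩).2

omit [Fintype G] in
theorem inf_centralizer_map_conj (P Q : Subgroup G) (u : G) (hu : u ∈ P) :
    P ⊓ Subgroup.centralizer ((Q.map (MulAut.conj u).toMonoidHom : Subgroup G) : Set G)
      = (P ⊓ Subgroup.centralizer (Q : Set G)).map (MulAut.conj u).toMonoidHom := by
  ext y
  rw [mem_map_conj, Subgroup.mem_inf, Subgroup.mem_inf, mem_centralizer_map_conj_iff]
  constructor
  · rintro ⟨h1, h2⟩
    exact ⟨P.mul_mem (P.mul_mem (P.inv_mem hu) h1) hu, h2⟩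
  · rintro ⟨h1, h2⟩
    refine ⟨?_, h2⟩
    have : y = u * (u⁻¹ * y * u) * u⁻¹ := by group
    rw [this]
    exact P.mul_mem (P.mul_mem hu h1) (P.inv_mem hu)

/-- in a nilpotent block, `C_P(Q)` is a defect group of `f` for every `(Q, f) ≤ (P, e)` -/
theorem nilpotent_centralizer_defectGroup (hM : IsPModular p M) (B : Set (IrrCharacter G))
    (P : Subgroup G) (e : Set (IrrCharacter (Subgroup.centralizer (P : Set G))))
    (hmax : IsMaximalBrauerPair p M B P e) (hnil : IsNilpotentBlock p M B) (Q : Subgroup G)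
    (f : Set (IrrCharacter (Subgroup.centralizer (Q : Set G)))) (hf : IsPBlock M f)
    (hle : SubpairLE p M Q f P e) :
    IsDefectGroup p M f
      ((P ⊓ Subgroup.centralizer (Q : Set G)).subgroupOf (Subgroup.centralizer (Q : Set G))) := by
  classical
  have hPe : IsBrauerPair p M P e := hmax.1.1
  obtain ⟨x, hx, hAx⟩ := exists_conj_centralizer_defectGroup hM B P Q e f hmax hf hle
  obtain ⟨u, hu, huq⟩ := nilpotent_conj_in_P hM B P e hmax hnil _ Q f x rfl hle hx
  obtain ⟨D, hD, hAD⟩ := centralizer_le_defectGroup hM P Q e f hPe hf hle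
  have h2 := defectGroup_card_conj hM Q x f hf D hD _ hAx
  have hQxu : Q.map (MulAut.conj x).toMonoidHom = Q.map (MulAut.conj u).toMonoidHom := by
    ext y
    constructor
    · rintro ⟨q, hq, rfl⟩
      exact ⟨q, hq, (huq q hq).symm⟩
    · rintro ⟨q, hq, rfl⟩
      exact ⟨q, hq, huq q hq⟩
  have hcard : Nat.card D ≤ Nat.card ((P ⊓ Subgroup.centralizer (Q : Set G)).subgroupOf
      (Subgroup.centralizer (Q : Set G))) := by
    rw [← h2, card_subgroupOf_inf, card_subgroupOf_inf, hQxu, inf_centralizer_map_conj P Q u hu,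
      card_map_conj]
  rw [Subgroup.eq_of_le_of_card_ge hAD hcard]
  exact hD

theorem nilpotent_local (hM : IsPModular p M) (B : Set (IrrCharacter G))
    (P : Subgroup G) (e : Set (IrrCharacter (Subgroup.centralizer (P : Set G))))
    (hmax : IsMaximalBrauerPair p M B P e) (hnil : IsNilpotentBlock p M B) (Q : Subgroup G)
    (f : Set (IrrCharacter (Subgroup.centralizer (Q : Set G))))
    (hQf : IsBrauerPairOf p M B Q f) :
    IsNilpotentBlock p M f ∧ (SubpairLE p M Q f P e → IsDefectGroup p M f
      ((P ⊓ Subgroup.centralizer (Q : Set G)).subgroupOf (Subgroup.centralizer (Q : Set G)))) :=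
  ⟨nilpotent_local_nilpotent hM B hnil Q f hQf,
    fun hle => nilpotent_centralizer_defectGroup hM B P e hmax hnil Q f hQf.1.2 hle⟩

end fin

end Cfsg.Agent.Lib.helper23
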