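import Mathlib
import Cfsg.Agent.Lib.helper23.BPNilp3

set_option autoImplicit false

/-!
# The fusion system of a block on a maximal Brauer pair: construction
-/

namespace Cfsg.Agent.Lib.helper23

open Cfsg Cfsg.Agent.Lib.helper24 Cfsg.Agent.Lib.helper5
open scoped ComplexConjugate

universe u

section fin

variable {G : Type u} [Group G] [Fintype G]
variable {M : Ideal AlgInt} {p : ℕ} [Fact p.Prime]

/-- two pairs below `(P, e)` on the same subgroup are equal -/
theorem idx_eq_of_le_of_fst_eq (hM : IsPModular p M) (P : Subgroup G)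
    (e : Set (IrrCharacter (Subgroup.centralizer (P : Set G)))) (hPe : IsBrauerPair p M P e)
    (a b : BrauerPairIdx G)
    (ha : Relation.ReflTransGen (NormalSubpairRel p M) a ⟨P, e⟩)
    (hb : Relation.ReflTransGen (NormalSubpairRel p M) b ⟨P, e⟩) (h : a.1 = b.1) : a = b := by
  obtain ⟨Q, f⟩ := a
  obtain ⟨Q', f'⟩ := b
  have h' : Q = Q' := h
  subst h'
  have hff : f = f' := subpairLE_unique hM hPe ha hb
  rw [hff]

/-- a pair below `(P, e)` lies below any pair below `(P, e)` on a larger subgroup -/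
theorem le_of_le_of_fst_le (hM : IsPModular p M) (P : Subgroup G)
    (e : Set (IrrCharacter (Subgroup.centralizer (P : Set G)))) (hPe : IsBrauerPair p M P e)
    (a b : BrauerPairIdx G)
    (ha : Relation.ReflTransGen (NormalSubpairRel p M) a ⟨P, e⟩)
    (hb : Relation.ReflTransGen (NormalSubpairRel p M) b ⟨P, e⟩) (h : a.1 ≤ b.1) :
    Relation.ReflTransGen (NormalSubpairRel p M) a b := by
  obtain ⟨Q, f⟩ := a
  obtain ⟨R, fR⟩ := b
  have hRf : IsBrauerPair p M R fR := subpairLE_brauerPair hb hPe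
  obtain ⟨f', -, hf'⟩ := exists_subpairLE hM _ R Q fR hRf h rfl
  have hff : f' = f := subpairLE_unique hM hPe (Relation.ReflTransGen.trans hf' hb) ha
  rw [← hff]
  exact hf'

/-- conjugation by an element of `P` fixes the pair `(P, e)` -/
theorem conjIdx_self_of_mem (hM : IsPModular p M) (P : Subgroup G)
    (e : Set (IrrCharacter (Subgroup.centralizer (P : Set G)))) (hPe : IsBrauerPair p M P e)
    (g : G) (hg : g ∈ P) : conjIdx g ⟨P, e⟩ = ⟨P, e⟩ :=
  conjIdx_eq_of_stab (isPModular_isPrime hM) P e hPe.2 g (Subgroup.le_normalizer hg)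
    (stabilizesBlock_of_mem_sup P e g (Subgroup.mem_sup_left hg))

/-- the maps of the fusion system of a block -/
def blockHom (p : ℕ) (M : Ideal AlgInt) (P : Subgroup G)
    (e : Set (IrrCharacter (Subgroup.centralizer (P : Set G)))) (Q : Subgroup G) : Set (Q →* G) :=
  {φ | Q ≤ P ∧ ∃ g : G, (∀ u : Q, φ u = g * (u : G) * g⁻¹) ∧
        Q.map (MulAut.conj g).toMonoidHom ≤ P ∧
        ∃ f : Set (IrrCharacter (Subgroup.centralizer (Q : Set G))),
          SubpairLE p M Q f P e ∧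
            SubpairLE p M (Q.map (MulAut.conj g).toMonoidHom) (conjBlock Q g f) P e}

theorem mem_blockHom_of_idx (P : Subgroup G)
    (e : Set (IrrCharacter (Subgroup.centralizer (P : Set G)))) (a : BrauerPairIdx G) (g : G)
    (ha : Relation.ReflTransGen (NormalSubpairRel p M) a ⟨P, e⟩)
    (hag : Relation.ReflTransGen (NormalSubpairRel p M) (conjIdx g a) ⟨P, e⟩) :
    conjHom a.1 g ∈ blockHom p M P e a.1 := by
  obtain ⟨Q, f⟩ := a
  exact ⟨subpairLE_le ha, g, fun u => rfl,
    subpairLE_le (show SubpairLE p M (Q.map (MulAut.conj g).toMonoidHom) (conjBlock Q g f) P e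
      from hag), f, ha, hag⟩

theorem exists_idx_inv (P : Subgroup G)
    (e : Set (IrrCharacter (Subgroup.centralizer (P : Set G)))) (Q : Subgroup G) (g : G)
    (f : Set (IrrCharacter (Subgroup.centralizer (Q : Set G))))
    (hle : SubpairLE p M Q f P e)
    (hle' : SubpairLE p M (Q.map (MulAut.conj g).toMonoidHom) (conjBlock Q g f) P e)
    (Q' : Subgroup G) (h : Q' = Q.map (MulAut.conj g).toMonoidHom) :
    ∃ a : BrauerPairIdx G, a.1 = Q' ∧ Relation.ReflTransGen (NormalSubpairRel p M) a ⟨P, e⟩ ∧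
      Relation.ReflTransGen (NormalSubpairRel p M) (conjIdx g⁻¹ a) ⟨P, e⟩ := by
  subst h
  refine ⟨conjIdx g ⟨Q, f⟩, rfl, hle', ?_⟩
  rw [conjIdx_mul, inv_mul_cancel, conjIdx_one]
  exact hle

theorem mem_blockHom_of_idx' (P : Subgroup G)
    (e : Set (IrrCharacter (Subgroup.centralizer (P : Set G)))) (a : BrauerPairIdx G) (g : G)
    (Q' : Subgroup G) (h : a.1 = Q')
    (ha : Relation.ReflTransGen (NormalSubpairRel p M) a ⟨P, e⟩)
    (hag : Relation.ReflTransGen (NormalSubpairRel p M) (conjIdx g a) ⟨P, e⟩) :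
    conjHom Q' g ∈ blockHom p M P e Q' := by
  subst h
  exact mem_blockHom_of_idx P e a g ha hag

/-- the fusion system of a block on a maximal Brauer pair -/
def blockFusionSystem (hM : IsPModular p M) (P : Subgroup G)
    (e : Set (IrrCharacter (Subgroup.centralizer (P : Set G)))) (hPe : IsBrauerPair p M P e) :
    FusionSystem P where
  Hom Q := blockHom p M P e Q
  le_of_mem := by
    rintro Q φ ⟨hQP, g, hg, hgP, -⟩
    refine ⟨hQP, fun x => ?_⟩
    rw [hg]
    exact hgP ⟨x, x.2, rfl⟩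
  injective_of_mem := by
    rintro Q φ ⟨-, g, hg, -⟩ a b hab
    have h : g * (a : G) * g⁻¹ = g * (b : G) * g⁻¹ := ((hg a).symm.trans hab).trans (hg b)
    exact Subtype.ext (mul_left_cancel (mul_right_cancel h))
  conj_mem := by
    intro Q g hQP hg
    obtain ⟨f, -, hf⟩ := exists_subpairLE hM _ P Q e hPe hQP rfl
    refine mem_blockHom_of_idx P e ⟨Q, f⟩ g hf ?_
    have h1 := conjIdx_chain p M g hf
    rw [conjIdx_self_of_mem hM P e hPe g hg] at h1
    exact h1
  comp_mem := by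
    rintro Q₁ Q₂ φ ψ ⟨hQ₁P, g, hg, hgP, f₁, hf₁, hf₁g⟩ ⟨hQ₂P, k, hk, hkP, f₂, hf₂, hf₂k⟩ h
    have h12 : Q₁.map (MulAut.conj g).toMonoidHom ≤ Q₂ := by
      rintro _ ⟨x, hx, rfl⟩
      have := h ⟨x, hx⟩
      rw [hg] at this
      exact this
    have hstep : Relation.ReflTransGen (NormalSubpairRel p M) (conjIdx g ⟨Q₁, f₁⟩) ⟨Q₂, f₂⟩ :=
      le_of_le_of_fst_le hM P e hPe (conjIdx g ⟨Q₁, f₁⟩) ⟨Q₂, f₂⟩ hf₁g hf₂ h12
    have hfin : Relation.ReflTransGen (NormalSubpairRel p M) (conjIdx (k * g) ⟨Q₁, f₁⟩) ⟨P, e⟩ := by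
      rw [← conjIdx_mul]
      exact (conjIdx_chain p M k hstep).trans hf₂k
    refine ⟨hQ₁P, k * g, fun u => ?_, subpairLE_le (show SubpairLE p M
      (Q₁.map (MulAut.conj (k * g)).toMonoidHom) (conjBlock Q₁ (k * g) f₁) P e from hfin), f₁,
      hf₁, hfin⟩
    show ψ (φ.codRestrict Q₂ h u) = k * g * (u : G) * (k * g)⁻¹
    rw [hk]
    show k * φ u * k⁻¹ = _
    rw [hg, mul_inv_rev]
    simp only [mul_assoc]
  inv_mem := by
    rintro Q φ ⟨hQP, g, hg, hgP, f, hf, hfg⟩
    have hrange := range_eq_map_conj Q φ g hg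
    obtain ⟨a, ha1, ha2, ha3⟩ := exists_idx_inv P e Q g f hf hfg φ.range hrange
    refine ⟨conjHom φ.range g⁻¹, mem_blockHom_of_idx' P e a g⁻¹ φ.range ha1 ha2 ha3, ?_⟩
    intro x
    show g⁻¹ * φ x * g⁻¹⁻¹ = x
    rw [hg, inv_inv]
    simp only [mul_assoc, inv_mul_cancel, mul_one, inv_mul_cancel_left]

theorem blockFusionSystem_isBlock (hM : IsPModular p M) (B : Set (IrrCharacter G))
    (P : Subgroup G) (e : Set (IrrCharacter (Subgroup.centralizer (P : Set G))))
    (hmax : IsMaximalBrauerPair p M B P e) :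
    IsBlockFusionSystemOn p M B P e (blockFusionSystem hM P e hmax.1.1) :=
  ⟨hmax, fun _ _ => Iff.rfl⟩

end fin

end Cfsg.Agent.Lib.helper23
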