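import Mathlib
import Cfsg.Agent.Lib.helper23.BPSat1

set_option autoImplicit false

/-!
# The fusion system of a block: automorphism groups and fully automized subgroups
-/

namespace Cfsg.Agent.Lib.helper23

open Cfsg Cfsg.Agent.Lib.helper24 Cfsg.Agent.Lib.helper5
open scoped ComplexConjugate

universe u

section grp

variable {G : Type u} [Group G]

/-- conjugation action of a subgroup of the normalizer of `Q` on `Q` -/
def conjAutOn (Q T : Subgroup G) (hTN : T ≤ Subgroup.normalizer (Q : Set G)) : T →* MulAut Q where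
  toFun t :=
    { toFun := fun q => ⟨(t : G) * q * (t : G)⁻¹,
        (Subgroup.mem_normalizer_iff.mp (hTN t.2) q).mp q.2⟩
      invFun := fun q => ⟨(t : G)⁻¹ * q * (t : G), by
          have := (Subgroup.mem_normalizer_iff.mp (inv_mem (hTN t.2)) q).mp q.2
          simpa using this⟩
      left_inv := fun q => Subtype.ext (by simp [mul_assoc])
      right_inv := fun q => Subtype.ext (by simp [mul_assoc])
      map_mul' := fun a b => Subtype.ext (by simp [mul_assoc]) }
  map_one' := by
    ext q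
    simp
  map_mul' := fun s t => by
    ext q
    simp [mul_assoc]

theorem conjAutOn_apply (Q T : Subgroup G) (hTN : T ≤ Subgroup.normalizer (Q : Set G)) (t : T)
    (q : Q) : ((conjAutOn Q T hTN t q : Q) : G) = (t : G) * q * (t : G)⁻¹ := rfl

theorem conjAutOn_ker (Q T : Subgroup G) (hTN : T ≤ Subgroup.normalizer (Q : Set G)) :
    (conjAutOn Q T hTN).ker = (Subgroup.centralizer (Q : Set G)).subgroupOf T := by
  ext t
  rw [MonoidHom.mem_ker, Subgroup.mem_subgroupOf, Subgroup.mem_centralizer_iff]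
  constructor
  · intro h q hq
    have h1 : ((conjAutOn Q T hTN t ⟨q, hq⟩ : Q) : G) = q := by rw [h]; rfl
    rw [conjAutOn_apply] at h1
    have h2 : (t : G) * q = q * (t : G) := by
      calc (t : G) * q = (t : G) * q * (t : G)⁻¹ * (t : G) := by group
        _ = q * (t : G) := by rw [h1]
    exact h2.symm
  · intro h
    ext q
    rw [conjAutOn_apply]
    have h1 := h (q : G) q.2
    show (t : G) * q * (t : G)⁻¹ = q
    rw [← h1]
    group

theorem mem_normalizer_of_conj_mem [Finite G] (Q : Subgroup G) (g : G)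
    (h : ∀ u ∈ Q, g * u * g⁻¹ ∈ Q) : g ∈ Subgroup.normalizer (Q : Set G) := by
  have hmapQ : Q.map (MulAut.conj g).toMonoidHom ≤ Q := by
    rintro _ ⟨u, hu, rfl⟩
    exact h u hu
  have hmapeq : Q.map (MulAut.conj g).toMonoidHom = Q :=
    Subgroup.eq_of_le_of_card_ge hmapQ (by rw [card_map_conj])
  rw [Subgroup.mem_normalizer_iff]
  intro u
  constructor
  · exact h u
  · intro hu
    rw [← hmapeq] at hu
    obtain ⟨u', hu', he⟩ := hu
    have : u' = u := (MulAut.conj g).injective he
    rwa [← this]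

end grp

section fin

variable {G : Type u} [Group G] [Fintype G]
variable {M : Ideal AlgInt} {p : ℕ} [Fact p.Prime]

theorem blockFusion_autGroup (hM : IsPModular p M) (P : Subgroup G)
    (e : Set (IrrCharacter (Subgroup.centralizer (P : Set G)))) (hPe : IsBrauerPair p M P e)
    (Q : Subgroup G) (f : Set (IrrCharacter (Subgroup.centralizer (Q : Set G))))
    (hle : SubpairLE p M Q f P e)
    (hTN : stabSub (⟨Q, f⟩ : BrauerPairIdx G) ≤ Subgroup.normalizer (Q : Set G)) :
    (blockFusionSystem hM P e hPe).autGroup Q = (conjAutOn Q (stabSub ⟨Q, f⟩) hTN).range := by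
  unfold FusionSystem.autGroup
  have hset : {α : MulAut Q | Q.subtype.comp α.toMonoidHom ∈ (blockFusionSystem hM P e hPe).Hom Q}
      = ((conjAutOn Q (stabSub ⟨Q, f⟩) hTN).range : Set (MulAut Q)) := by
    ext α
    constructor
    · rintro ⟨hQP, g, hg, hgP, f₁, hf₁, hf₁g⟩
      have hff : f₁ = f := subpairLE_unique hM hPe hf₁ hle
      rw [hff] at hf₁g
      have hmapQ : Q.map (MulAut.conj g).toMonoidHom ≤ Q := by
        rintro _ ⟨u, hu, rfl⟩
        have := hg ⟨u, hu⟩
        show g * u * g⁻¹ ∈ Q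
        rw [← this]
        exact (α ⟨u, hu⟩).2
      have hmapeq : Q.map (MulAut.conj g).toMonoidHom = Q :=
        Subgroup.eq_of_le_of_card_ge hmapQ (by rw [card_map_conj])
      have hgT : g ∈ stabSub (⟨Q, f⟩ : BrauerPairIdx G) := by
        rw [mem_stabSub]
        exact idx_eq_of_le_of_fst_eq hM P e hPe _ _ hf₁g hle hmapeq
      refine ⟨⟨g, hgT⟩, ?_⟩
      ext u
      exact (hg u).symm
    · rintro ⟨t, rfl⟩
      have ht : conjIdx (t : G) ⟨Q, f⟩ = ⟨Q, f⟩ := t.2
      refine ⟨subpairLE_le hle, (t : G), fun u => rfl, ?_, f, hle, ?_⟩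
      · rw [map_conj_eq_of_mem_normalizer Q _ (hTN t.2)]
        exact subpairLE_le hle
      · show Relation.ReflTransGen (NormalSubpairRel p M) (conjIdx (t : G) ⟨Q, f⟩) ⟨P, e⟩
        rw [ht]
        exact hle
  rw [hset, Subgroup.closure_eq]

omit [Fact p.Prime] in
theorem autInducedBy_eq (P Q T : Subgroup G) (hTN : T ≤ Subgroup.normalizer (Q : Set G))
    (hRT : P ⊓ Subgroup.normalizer (Q : Set G) ≤ T) :
    autInducedBy P Q = ((P ⊓ Subgroup.normalizer (Q : Set G)).subgroupOf T).map
      (conjAutOn Q T hTN) := by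
  unfold autInducedBy
  have hset : {α : MulAut Q | ∃ g ∈ P, ∀ x : Q, ((α x : Q) : G) = g * (x : G) * g⁻¹}
      = ((((P ⊓ Subgroup.normalizer (Q : Set G)).subgroupOf T).map (conjAutOn Q T hTN)
        : Subgroup (MulAut Q)) : Set (MulAut Q)) := by
    ext α
    constructor
    · rintro ⟨g, hgP, hg⟩
      have hgN : g ∈ Subgroup.normalizer (Q : Set G) := by
        apply mem_normalizer_of_conj_mem
        intro u hu
        rw [← hg ⟨u, hu⟩]
        exact (α ⟨u, hu⟩).2
      have hgT : g ∈ T := hRT ⟨hgP, hgN⟩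
      refine ⟨⟨g, hgT⟩, Subgroup.mem_subgroupOf.mpr ⟨hgP, hgN⟩, ?_⟩
      ext u
      exact (hg u).symm
    · rintro ⟨t, ht, rfl⟩
      exact ⟨(t : G), (Subgroup.mem_subgroupOf.mp ht).1, fun x => rfl⟩
  rw [hset, Subgroup.closure_eq]

/-- a subgroup whose normalizer in `P` is a defect group of the stabilizer block is fully
automized -/
theorem fullyAutomized_of_defect (hM : IsPModular p M) (P : Subgroup G)
    (e : Set (IrrCharacter (Subgroup.centralizer (P : Set G)))) (hPe : IsBrauerPair p M P e)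
    (Q : Subgroup G) (f : Set (IrrCharacter (Subgroup.centralizer (Q : Set G))))
    (hle : SubpairLE p M Q f P e)
    (F' : Set (IrrCharacter (stabSub (⟨Q, f⟩ : BrauerPairIdx G)))) (hF' : IsPBlock M F')
    (hF'f : ∀ t : stabSub (⟨Q, f⟩ : BrauerPairIdx G),
      blockCoeff F' t = subgroupBlockCoeff (Subgroup.centralizer (Q : Set G)) f (t : G))
    (hD : IsDefectGroup p M F'
      ((P ⊓ Subgroup.normalizer (Q : Set G)).subgroupOf (stabSub (⟨Q, f⟩ : BrauerPairIdx G)))) :
    (blockFusionSystem hM P e hPe).IsFullyAutomized p Q := by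
  classical
  have hQf := subpairLE_brauerPair hle hPe
  have hT := fun y => mem_stabSub_iff hM Q f hQf y
  obtain ⟨hQT, hCT, hTN, hTst⟩ := stab_facts Q f (stabSub ⟨Q, f⟩) hT
  have hRT := normalizer_le_stab hM P Q e f hPe hle (stabSub ⟨Q, f⟩) hT
  have hA := blockFusion_autGroup hM P e hPe Q f hle hTN
  have hI := autInducedBy_eq P Q (stabSub ⟨Q, f⟩) hTN hRT
  refine ⟨subpairLE_le hle, ?_⟩
  have hDp : IsPGroup p ((P ⊓ Subgroup.normalizer (Q : Set G)).subgroupOf
      (stabSub (⟨Q, f⟩ : BrauerPairIdx G))) :=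
    IsPGroup.comap_subtype (hPe.1.to_le inf_le_left)
  have hp1 : IsPGroup p ((autInducedBy P Q).subgroupOf
      ((blockFusionSystem hM P e hPe).autGroup Q)) := by
    rw [hI]
    exact IsPGroup.comap_subtype (hDp.map _)
  have hidx : ¬ p ∣ ((autInducedBy P Q).subgroupOf
      ((blockFusionSystem hM P e hPe).autGroup Q)).index := by
    rw [hI, hA]
    have h1 := Subgroup.relIndex_mul_index (Subgroup.map_le_range (conjAutOn Q (stabSub ⟨Q, f⟩) hTN)
      ((P ⊓ Subgroup.normalizer (Q : Set G)).subgroupOf (stabSub (⟨Q, f⟩ : BrauerPairIdx G))))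
    have h2 := Subgroup.index_map ((P ⊓ Subgroup.normalizer (Q : Set G)).subgroupOf
      (stabSub (⟨Q, f⟩ : BrauerPairIdx G))) (conjAutOn Q (stabSub ⟨Q, f⟩) hTN)
    have h3 : (conjAutOn Q (stabSub ⟨Q, f⟩) hTN).range.index ≠ 0 :=
      Subgroup.index_ne_zero_of_finite
    have h4 := Nat.eq_of_mul_eq_mul_right (Nat.pos_of_ne_zero h3) (h1.trans h2)
    show ¬ p ∣ (((P ⊓ Subgroup.normalizer (Q : Set G)).subgroupOf
      (stabSub (⟨Q, f⟩ : BrauerPairIdx G))).map (conjAutOn Q (stabSub ⟨Q, f⟩) hTN)).relIndex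
        (conjAutOn Q (stabSub ⟨Q, f⟩) hTN).range
    rw [h4, conjAutOn_ker]
    exact index_defect_sup_centralizer hM Q _ hCT hTN f hQf.2 hTst F' hF' hF'f _ hD
  exact ⟨hp1.toSylow hidx, IsPGroup.toSylow_coe hp1 hidx⟩

end fin

end Cfsg.Agent.Lib.helper23
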