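import Mathlib
import Cfsg.Agent.Lib.helper23.BPSat2

set_option autoImplicit false

/-!
# The fusion system of a block: receptive subgroups and saturation
-/

namespace Cfsg.Agent.Lib.helper23

open Cfsg Cfsg.Agent.Lib.helper24 Cfsg.Agent.Lib.helper5
open scoped ComplexConjugate

universe u

section grp

variable {G : Type u} [Group G]

theorem exists_mul_of_mem_sup_centralizer' (Q A : Subgroup G)
    (hAN : A ≤ Subgroup.normalizer (Q : Set G)) (x : G)
    (hx : x ∈ A ⊔ Subgroup.centralizer (Q : Set G)) :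
    ∃ a ∈ A, ∃ c ∈ Subgroup.centralizer (Q : Set G), x = a * c := by
  have hNC : ∀ a ∈ A, ∀ c ∈ Subgroup.centralizer (Q : Set G),
      a * c * a⁻¹ ∈ Subgroup.centralizer (Q : Set G) := by
    intro a ha c hc
    exact (Subgroup.mem_normalizer_iff.mp (normalizer_le_normalizer_centralizer Q (hAN ha)) c).mp hc
  let S : Subgroup G :=
    { carrier := {x | ∃ a ∈ A, ∃ c ∈ Subgroup.centralizer (Q : Set G), x = a * c}
      mul_mem' := by
        rintro _ _ ⟨a₁, ha₁, c₁, hc₁, rfl⟩ ⟨a₂, ha₂, c₂, hc₂, rfl⟩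
        refine ⟨a₁ * a₂, mul_mem ha₁ ha₂, (a₂⁻¹ * c₁ * a₂⁻¹⁻¹) * c₂,
          mul_mem (hNC a₂⁻¹ (inv_mem ha₂) c₁ hc₁) hc₂, ?_⟩
        group
      one_mem' := ⟨1, one_mem _, 1, one_mem _, by simp⟩
      inv_mem' := by
        rintro _ ⟨a, ha, c, hc, rfl⟩
        refine ⟨a⁻¹, inv_mem ha, a * c⁻¹ * a⁻¹, hNC a ha c⁻¹ (inv_mem hc), ?_⟩
        group }
  have h1 : A ≤ S := fun a ha => ⟨a, ha, 1, one_mem _, by simp⟩
  have h2 : Subgroup.centralizer (Q : Set G) ≤ S := fun c hc => ⟨1, one_mem _, c, hc, by simp⟩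
  exact sup_le h1 h2 hx

end grp

section fin

variable {G : Type u} [Group G] [Fintype G]
variable {M : Ideal AlgInt} {p : ℕ} [Fact p.Prime]

/-- a subgroup whose normalizer in `P` is a defect group of the stabilizer block is receptive -/
theorem receptive_of_defect (hM : IsPModular p M) (P : Subgroup G)
    (e : Set (IrrCharacter (Subgroup.centralizer (P : Set G)))) (hPe : IsBrauerPair p M P e)
    (Q : Subgroup G) (f : Set (IrrCharacter (Subgroup.centralizer (Q : Set G))))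
    (hle : SubpairLE p M Q f P e)
    (F' : Set (IrrCharacter (stabSub (⟨Q, f⟩ : BrauerPairIdx G)))) (hF' : IsPBlock M F')
    (hF'f : ∀ t : stabSub (⟨Q, f⟩ : BrauerPairIdx G),
      blockCoeff F' t = subgroupBlockCoeff (Subgroup.centralizer (Q : Set G)) f (t : G))
    (hD : IsDefectGroup p M F'
      ((P ⊓ Subgroup.normalizer (Q : Set G)).subgroupOf (stabSub (⟨Q, f⟩ : BrauerPairIdx G)))) :
    (blockFusionSystem hM P e hPe).IsReceptive Q := by
  classical
  have hQP := subpairLE_le hle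
  have hQf := subpairLE_brauerPair hle hPe
  have hT := fun y => mem_stabSub_iff hM Q f hQf y
  obtain ⟨hQT, hCT, hTN, hTst⟩ := stab_facts Q f (stabSub ⟨Q, f⟩) hT
  have hRT := normalizer_le_stab hM P Q e f hPe hle (stabSub ⟨Q, f⟩) hT
  obtain ⟨H, hH⟩ : ∃ H : Subgroup G,
      H = (P ⊓ Subgroup.normalizer (Q : Set G)) ⊔ Subgroup.centralizer (Q : Set G) := ⟨_, rfl⟩
  have hSH : P ⊓ Subgroup.normalizer (Q : Set G) ≤ H := by rw [hH]; exact le_sup_left
  have hCH : Subgroup.centralizer (Q : Set G) ≤ H := by rw [hH]; exact le_sup_right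
  have hQH : Q ≤ H := (le_inf hQP Subgroup.le_normalizer).trans hSH
  have hHT : H ≤ stabSub (⟨Q, f⟩ : BrauerPairIdx G) := by rw [hH]; exact sup_le hRT hCT
  have hHN : H ≤ Subgroup.normalizer (Q : Set G) := hHT.trans hTN
  have hHst : ∀ t ∈ H, StabilizesBlock (Subgroup.centralizer (Q : Set G)) f t :=
    fun t ht => hTst t (hHT ht)
  obtain ⟨FH, hFH, hFHf⟩ := exists_block_of_stable hM Q H hQf.1 hQH hCH hHN f hQf.2 hHst
  obtain ⟨fS, hnS, hSle⟩ := exists_normalSubpair_normalizer hM P Q e f hPe hle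
  have hSD : IsDefectGroup p M FH ((P ⊓ Subgroup.normalizer (Q : Set G)).subgroupOf H) := by
    obtain ⟨S₂, fS₂, hS₂H, hnS₂, hS₂D, hSS₂⟩ := exists_defect_above hM Q H hQH hCH hHN hQf.1 f
      hQf.2 hHst FH hFH hFHf _ hSH fS hnS
    obtain ⟨t, htT, htS⟩ := exists_conj_le_of_defect hM Q (stabSub ⟨Q, f⟩) hQT hCT hTN f F' hF'
      hF'f (P ⊓ Subgroup.normalizer (Q : Set G)) hRT fS hnS hD S₂ (hS₂H.trans hHT) fS₂ hnS₂
    have hcard : Nat.card S₂ ≤ Nat.card (P ⊓ Subgroup.normalizer (Q : Set G) : Subgroup G) := by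
      have := Subgroup.card_le_of_le (subpairLE_le htS)
      rwa [card_map_conj] at this
    have heq : P ⊓ Subgroup.normalizer (Q : Set G) = S₂ :=
      Subgroup.eq_of_le_of_card_ge (subpairLE_le hSS₂) hcard
    rw [heq]
    exact hS₂D
  refine ⟨hQP, ?_⟩
  intro R φ hφ hrange
  obtain ⟨hRP, g, hg, hgP, fR, hfR, hfRg⟩ := hφ
  have hrange' : R.map (MulAut.conj g).toMonoidHom = Q := by
    rw [← hrange, range_eq_map_conj R φ g hg]
  have hidQ : conjIdx g ⟨R, fR⟩ = ⟨Q, f⟩ :=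
    idx_eq_of_le_of_fst_eq hM P e hPe _ _ hfRg hle hrange'
  obtain ⟨N, hN⟩ : ∃ N : Subgroup G, N = FusionSystem.extender P R φ := ⟨_, rfl⟩
  have hNle : N ≤ P ⊓ Subgroup.normalizer (R : Set G) := by
    rw [hN]
    unfold FusionSystem.extender
    rw [Subgroup.closure_le]
    rintro y ⟨hyP, hyN, -⟩
    exact ⟨hyP, hyN⟩
  have hRN : R ≤ N := by
    rw [hN]
    unfold FusionSystem.extender
    intro y hy
    apply Subgroup.subset_closure
    refine ⟨hRP hy, Subgroup.le_normalizer hy, φ ⟨y, hy⟩, ?_, ?_⟩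
    · rw [hg]
      exact hgP ⟨y, hy, rfl⟩
    · intro x hx
      have : (⟨y * x * y⁻¹, hx⟩ : R) = ⟨y, hy⟩ * x * ⟨y, hy⟩⁻¹ := rfl
      rw [this, map_mul, map_mul, map_inv]
  have hNP : N ≤ P := hNle.trans inf_le_left
  obtain ⟨eN, -, heN⟩ := exists_subpairLE hM _ P N e hPe hNP rfl
  have hNe : IsBrauerPair p M N eN := subpairLE_brauerPair heN hPe
  have hRNle : Relation.ReflTransGen (NormalSubpairRel p M) ⟨R, fR⟩ ⟨N, eN⟩ :=
    le_of_le_of_fst_le hM P e hPe ⟨R, fR⟩ ⟨N, eN⟩ hfR heN hRN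
  have hnRN : IsNormalSubpair p M R fR N eN :=
    normalSubpair_of_le_normalizer hM N R eN fR hNe hRNle (hNle.trans inf_le_right)
  have hn' : NormalSubpairRel p M (conjIdx g ⟨R, fR⟩) (conjIdx g ⟨N, eN⟩) :=
    conjIdx_rel p M g hnRN
  rw [hidQ] at hn'
  have hn'' : IsNormalSubpair p M Q f (N.map (MulAut.conj g).toMonoidHom) (conjBlock N g eN) :=
    hn'
  have hNgH : N.map (MulAut.conj g).toMonoidHom ≤ H := by
    rw [hN]
    unfold FusionSystem.extender
    rw [MonoidHom.map_closure, Subgroup.closure_le]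
    rintro _ ⟨y, ⟨hyP, hyN, h, hhP, hh⟩, rfl⟩
    have key : ∀ z ∈ Q, (g * y * g⁻¹) * z * (g * y * g⁻¹)⁻¹ = h * z * h⁻¹ := by
      intro z hz
      rw [← hrange'] at hz
      obtain ⟨x, hx, rfl⟩ := hz
      have hx' : y * x * y⁻¹ ∈ R := (Subgroup.mem_normalizer_iff.mp hyN x).mp hx
      have := hh ⟨x, hx⟩ hx'
      rw [hg, hg] at this
      show g * y * g⁻¹ * (g * x * g⁻¹) * (g * y * g⁻¹)⁻¹ = h * (g * x * g⁻¹) * h⁻¹
      rw [← this]
      group
    have hgy : g * y * g⁻¹ ∈ Subgroup.normalizer (Q : Set G) := by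
      have := mem_normalizer_map_conj R g y hyN
      rwa [hrange'] at this
    have hhN : h ∈ Subgroup.normalizer (Q : Set G) := by
      apply mem_normalizer_of_conj_mem
      intro z hz
      rw [← key z hz]
      exact (Subgroup.mem_normalizer_iff.mp hgy z).mp hz
    have hc : h⁻¹ * (g * y * g⁻¹) ∈ Subgroup.centralizer (Q : Set G) := by
      rw [Subgroup.mem_centralizer_iff]
      intro z hz
      calc z * (h⁻¹ * (g * y * g⁻¹)) = h⁻¹ * (h * z * h⁻¹) * (g * y * g⁻¹) := by group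
        _ = h⁻¹ * ((g * y * g⁻¹) * z * (g * y * g⁻¹)⁻¹) * (g * y * g⁻¹) := by rw [key z hz]
        _ = h⁻¹ * (g * y * g⁻¹) * z := by group
    have e1 : (MulAut.conj g).toMonoidHom y = h * (h⁻¹ * (g * y * g⁻¹)) := by
      show g * y * g⁻¹ = _
      group
    rw [e1, hH]
    exact mul_mem (Subgroup.mem_sup_left ⟨hhP, hhN⟩) (Subgroup.mem_sup_right hc)
  obtain ⟨t, htH, htS⟩ := exists_conj_le_of_defect hM Q H hQH hCH hHN f FH hFH hFHf
    (P ⊓ Subgroup.normalizer (Q : Set G)) hSH fS hnS hSD (N.map (MulAut.conj g).toMonoidHom) hNgH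
    (conjBlock N g eN) hn''
  rw [hH] at htH
  obtain ⟨u, hu, c, hc, rfl⟩ := exists_mul_of_mem_sup_centralizer' Q
    (P ⊓ Subgroup.normalizer (Q : Set G)) inf_le_right t htH
  have hSf : IsBrauerPair p M (P ⊓ Subgroup.normalizer (Q : Set G)) fS := hnS.2.1
  have h1 : Relation.ReflTransGen (NormalSubpairRel p M)
      (conjIdx (u * c) (conjIdx g ⟨N, eN⟩)) ⟨P ⊓ Subgroup.normalizer (Q : Set G), fS⟩ := htS
  have h2 := conjIdx_chain p M u⁻¹ h1
  rw [conjIdx_mul, conjIdx_mul, conjIdx_self_of_mem hM _ fS hSf u⁻¹ (inv_mem hu)] at h2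
  have e2 : u⁻¹ * (u * c) * g = c * g := by group
  rw [e2] at h2
  have h3 : Relation.ReflTransGen (NormalSubpairRel p M) (conjIdx (c * g) ⟨N, eN⟩) ⟨P, e⟩ :=
    h2.trans hSle
  subst hN
  refine ⟨conjHom _ (c * g), mem_blockHom_of_idx' P e ⟨_, eN⟩ (c * g) _ rfl heN h3, ?_⟩
  intro x hxR hxN
  show c * g * x * (c * g)⁻¹ = φ ⟨x, hxR⟩
  rw [hg]
  have hz : g * x * g⁻¹ ∈ Q := by
    rw [← hrange']
    exact ⟨x, hxR, rfl⟩
  have hcz := Subgroup.mem_centralizer_iff.mp hc _ hz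
  calc c * g * x * (c * g)⁻¹ = c * (g * x * g⁻¹) * c⁻¹ := by group
    _ = (g * x * g⁻¹) * c * c⁻¹ := by rw [hcz]
    _ = g * x * g⁻¹ := by group

/-- the fusion system of a block on a maximal Brauer pair is saturated -/
theorem blockFusionSystem_saturated (hM : IsPModular p M) (B : Set (IrrCharacter G))
    (P : Subgroup G) (e : Set (IrrCharacter (Subgroup.centralizer (P : Set G))))
    (hmax : IsMaximalBrauerPair p M B P e) :
    (blockFusionSystem hM P e hmax.1.1).IsSaturated p := by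
  classical
  have hPe : IsBrauerPair p M P e := hmax.1.1
  intro Q hQP
  obtain ⟨f, hf, hle⟩ := exists_subpairLE hM _ P Q e hPe hQP rfl
  have hQf : IsBrauerPair p M Q f := ⟨hPe.1.to_le hQP, hf⟩
  have hT := fun y => mem_stabSub_iff hM Q f hQf y
  obtain ⟨hQT, hCT, hTN, hTst⟩ := stab_facts Q f (stabSub ⟨Q, f⟩) hT
  obtain ⟨F₀, hF₀, hF₀f⟩ := exists_block_of_stable hM Q (stabSub ⟨Q, f⟩) hQf.1 hQT hCT hTN f hf hTst
  obtain ⟨x, hx, hxD⟩ := exists_conj_normalizer_defectGroup hM B P Q e f hmax hf hle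
    (stabSub ⟨Q, f⟩) hT F₀ hF₀ hF₀f
  have hQf' : IsBrauerPair p M (Q.map (MulAut.conj x).toMonoidHom) (conjBlock Q x f) :=
    subpairLE_brauerPair hx hPe
  have hT' := fun y => mem_stabSub_iff hM _ _ hQf' y
  obtain ⟨hQT', hCT', hTN', hTst'⟩ := stab_facts _ _
    (stabSub ⟨Q.map (MulAut.conj x).toMonoidHom, conjBlock Q x f⟩) hT'
  obtain ⟨F', hF', hF'f⟩ := exists_block_of_stable hM _
    (stabSub ⟨Q.map (MulAut.conj x).toMonoidHom, conjBlock Q x f⟩) hQf'.1 hQT' hCT' hTN' _ hQf'.2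
    hTst'
  have hD := hxD _ hT' F' hF' hF'f
  refine ⟨Q.map (MulAut.conj x).toMonoidHom, ?_, ?_, ?_⟩
  · exact (isConj_iff_of_blockFusion hM B P e _ (blockFusionSystem_isBlock hM B P e hmax) Q f hle
      _).mpr ⟨x, rfl, hx⟩
  · exact fullyAutomized_of_defect hM P e hPe _ _ hx F' hF' hF'f hD
  · exact receptive_of_defect hM P e hPe _ _ hx F' hF' hF'f hD

theorem exists_blockFusionSystem (hM : IsPModular p M) (B : Set (IrrCharacter G))
    (P : Subgroup G) (e : Set (IrrCharacter (Subgroup.centralizer (P : Set G))))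
    (hmax : IsMaximalBrauerPair p M B P e) :
    ∃ F : FusionSystem P, IsBlockFusionSystemOn p M B P e F ∧ F.IsSaturated p :=
  ⟨blockFusionSystem hM P e hmax.1.1, blockFusionSystem_isBlock hM B P e hmax,
    blockFusionSystem_saturated hM B P e hmax⟩

end fin

end Cfsg.Agent.Lib.helper23
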