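import Mathlib
import Cfsg.Agent.Lib.helper23.PTrunc2
import Cfsg.Agent.Lib.helper23.BlockRankTrace

set_option autoImplicit false

namespace Cfsg.Agent.Lib.helper23

open Cfsg Cfsg.Agent.Lib.helper24 Cfsg.Agent.Lib.helper5
open scoped ComplexConjugate

universe u

variable {G : Type u} [Group G] [Fintype G]

theorem memLocalIdeal_coord_regConj_iff [Fintype (IrrCharacter G)] {p : ℕ} [hp : Fact p.Prime]
    {M : Ideal AlgInt} (hM : IsPModular p M)
    (χ ξ : IrrCharacter G) (n : ℤ) (hn : classInner (ptrunc p χ.1) ξ.1 = n) :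
    MemLocalIdeal M (coord (regConj p ξ.1) χ)
      ↔ (p : ℤ) ^ ((charDegree χ.1).factorization p + 1) ∣ n := by
  have hMp := isPModular_isPrime hM
  obtain ⟨k, hk⟩ := pow_dvd_inner_ptrunc p χ ξ n hn
  have hrel := coord_regConj_rel p χ ξ n hn
  obtain ⟨m', hm'⟩ : ∃ m' : ℕ, m' = Nat.card G / p ^ (Nat.card G).factorization p := ⟨_, rfl⟩
  obtain ⟨u, hu⟩ : ∃ u : ℕ, u = charDegree χ.1 / p ^ (charDegree χ.1).factorization p :=
    ⟨_, rfl⟩
  obtain ⟨b, hb⟩ : ∃ b : ℕ, b = (charDegree χ.1).factorization p := ⟨_, rfl⟩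
  rw [← hm', ← hu, ← hb] at hrel
  rw [← hb] at hk ⊢
  have hp0 : (p : ℤ) ≠ 0 := by exact_mod_cast hp.out.ne_zero
  have hpb : (p : ℂ) ^ b ≠ 0 := pow_ne_zero _ (by exact_mod_cast hp.out.ne_zero)
  have hpm : ¬ p ∣ m' := by
    rw [hm']; exact Nat.not_dvd_ordCompl hp.out Nat.card_pos.ne'
  have hpu : ¬ p ∣ u := by
    rw [hu]; exact Nat.not_dvd_ordCompl hp.out (charDegree_ne_zero' χ)
  have hUu : coord (regConj p ξ.1) χ * (u : ℂ) = (((m' : ℤ) * k : ℤ) : ℂ) := by
    apply mul_right_cancel₀ hpb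
    rw [hrel, hk]
    push_cast
    ring
  have hdvd : (p : ℤ) ^ (b + 1) ∣ n ↔ (p : ℤ) ∣ k := by
    rw [hk, pow_succ]
    exact mul_dvd_mul_iff_left (pow_ne_zero _ hp0)
  rw [hdvd]
  constructor
  · intro hU
    have h1 := memLocalIdeal_mul_right hMp hU (memLocalRing_natCast hMp.ne_top u)
    rw [hUu, memLocalIdeal_intCast_iff hM] at h1
    rcases (Nat.prime_iff_prime_int.mp hp.out).dvd_or_dvd h1 with h2 | h2
    · exact absurd (Int.natCast_dvd_natCast.mp h2) hpm
    · exact h2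
  · intro hk'
    have h1 : MemLocalIdeal M (coord (regConj p ξ.1) χ * (u : ℂ)) := by
      rw [hUu, memLocalIdeal_intCast_iff hM]
      exact Dvd.dvd.mul_left hk' _
    have hu' : MemLocalRing M (1 / (u : ℂ)) :=
      ⟨1, (u : AlgInt), (natCast_mem_iff hM u).not.mpr hpu, by simp⟩
    have h2 := memLocalIdeal_mul_right hMp h1 hu'
    have hu0 : (u : ℂ) ≠ 0 := by
      intro h
      apply hpu
      have h3 : u = 0 := by exact_mod_cast h
      rw [h3]
      exact dvd_zero p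
    rwa [mul_assoc, mul_one_div_cancel hu0, mul_one] at h2

theorem memLocalIdeal_coord_regConj_congr [Fintype (IrrCharacter G)] {p : ℕ}
    {M : Ideal AlgInt} (hM : IsPModular p M) (ξ : IrrCharacter G) {χ χ' : IrrCharacter G}
    (h : SameBlock M χ.1 χ'.1) (h1 : MemLocalIdeal M (coord (regConj p ξ.1) χ)) :
    MemLocalIdeal M (coord (regConj p ξ.1) χ') := by
  have hMp := isPModular_isPrime hM
  have h2 := memLocalIdeal_coord_sub hMp (coord_mem_osimaRing hMp
    (regConj_isClassFunction p (isClassFunction_irr ξ))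
    (regConj_memLocalRing hMp.ne_top p (isCharacter_irr ξ))) h
  have h3 := memLocalIdeal_sub hMp h1 h2
  rwa [sub_sub_cancel] at h3

/-- the pairing condition of the height zero criterion -/
def HtPair (p : ℕ) (χ ξ : IrrCharacter G) : Prop :=
  ∃ n : ℤ, classInner (ptrunc p χ.1) ξ.1 = (n : ℂ) ∧ n ≠ 0 ∧
    padicValInt p n = (charDegree ξ.1).factorization p

theorem htPair_iff [Fintype (IrrCharacter G)] {p : ℕ} [hp : Fact p.Prime]
    {M : Ideal AlgInt} (hM : IsPModular p M) (χ ξ : IrrCharacter G) :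
    HtPair p χ ξ ↔ ¬ MemLocalIdeal M (coord (regConj p χ.1) ξ) := by
  obtain ⟨n, hn⟩ := exists_int_inner_ptrunc p (isCharacter_irr ξ) χ
  have hn' : classInner (ptrunc p χ.1) ξ.1 = n := by rw [inner_ptrunc_symm, hn]
  have hiff := memLocalIdeal_coord_regConj_iff hM ξ χ n hn
  have hdvd := pow_dvd_inner_ptrunc p ξ χ n hn
  rw [hiff]
  constructor
  · rintro ⟨n', h1, h2, h3⟩ hd
    have e : n' = n := by
      have := h1.symm.trans hn'
      exact_mod_cast this
    subst e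
    rcases (padicValInt_dvd_iff _ _).mp hd with h | h
    · exact h2 h
    · omega
  · intro hd
    have h0 : n ≠ 0 := by
      rintro rfl
      exact hd (dvd_zero _)
    refine ⟨n, hn', h0, ?_⟩
    have h1 := ((padicValInt_dvd_iff _ _).mp hdvd).resolve_left h0
    have h2 : ¬ ((charDegree ξ.1).factorization p + 1 ≤ padicValInt p n) :=
      fun h => hd ((padicValInt_dvd_iff _ _).mpr (Or.inr h))
    omega

theorem htPair_le [Fintype (IrrCharacter G)] {p : ℕ} [hp : Fact p.Prime]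
    (χ ξ : IrrCharacter G) (h : HtPair p χ ξ) :
    (charDegree χ.1).factorization p ≤ (charDegree ξ.1).factorization p := by
  obtain ⟨n, h1, h2, h3⟩ := h
  have hd := pow_dvd_inner_ptrunc p χ ξ n h1
  have := ((padicValInt_dvd_iff _ _).mp hd).resolve_left h2
  omega

theorem height_zero_iff [Fintype (IrrCharacter G)] {p : ℕ} [hp : Fact p.Prime]
    {M : Ideal AlgInt} (hM : IsPModular p M) (B : Set (IrrCharacter G)) (hB : IsPBlock M B)
    (χ : IrrCharacter G) (hχ : χ ∈ B) :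
    (blockHeight p B χ.1 = 0 ↔ ∃ ξ ∈ B, HtPair p χ ξ) ∧
      (blockHeight p B χ.1 = 0 ↔ ∀ ξ ∈ B, HtPair p χ ξ) := by
  obtain ⟨χ₀, rfl⟩ := hB
  have hMp := isPModular_isPrime hM
  have hcong : ∀ χ' ξ ξ' : IrrCharacter G, ξ ∈ blockOf M χ₀.1 → ξ' ∈ blockOf M χ₀.1 →
      HtPair p χ' ξ → HtPair p χ' ξ' := by
    intro χ' ξ ξ' hξ hξ' h
    rw [htPair_iff hM] at h ⊢
    intro h'
    apply h
    exact memLocalIdeal_coord_regConj_congr hM χ' (sameBlock_trans hMp (sameBlock_symm hξ') hξ) h'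
  have hle_of_all : (∀ ξ ∈ blockOf M χ₀.1, HtPair p χ ξ) →
      blockHeight p (blockOf M χ₀.1) χ.1 = 0 := by
    intro h
    unfold blockHeight
    apply Nat.sub_eq_zero_of_le
    apply le_csInf
    · exact ⟨_, ⟨χ, hχ, rfl⟩⟩
    · rintro _ ⟨ξ, hξ, rfl⟩
      exact htPair_le χ ξ (h ξ hξ)
  have hall_of_zero : blockHeight p (blockOf M χ₀.1) χ.1 = 0 →
      ∀ ξ ∈ blockOf M χ₀.1, HtPair p χ ξ := by
    intro h0
    have hmin : ∀ ξ ∈ blockOf M χ₀.1,
        (charDegree χ.1).factorization p ≤ (charDegree ξ.1).factorization p := by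
      intro ξ hξ
      unfold blockHeight at h0
      have h1 := Nat.sub_eq_zero_iff_le.mp h0
      exact h1.trans (Nat.sInf_le ⟨ξ, hξ, rfl⟩)
    obtain ⟨ξ, n, hn, hnd⟩ := exists_inner_ptrunc_not_dvd p χ
    have hn0 : n ≠ 0 := by
      rintro rfl
      exact hnd (dvd_zero _)
    have hξB : ξ ∈ blockOf M χ₀.1 := by
      by_contra hξ
      have h1 := inner_ptrunc_eq_zero_of_not_mem hM χ₀ χ ξ hχ hξ
      rw [hn] at h1
      exact hn0 (by exact_mod_cast h1)
    have hd := pow_dvd_inner_ptrunc p χ ξ n hn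
    have hval : padicValInt p n = (charDegree χ.1).factorization p := by
      have h1 := ((padicValInt_dvd_iff _ _).mp hd).resolve_left hn0
      have h2 : ¬ ((charDegree χ.1).factorization p + 1 ≤ padicValInt p n) :=
        fun h => hnd ((padicValInt_dvd_iff _ _).mpr (Or.inr h))
      omega
    have hQ1 : HtPair p ξ χ := ⟨n, by rw [inner_ptrunc_symm, hn], hn0, hval⟩
    have hle : (charDegree ξ.1).factorization p ≤ (charDegree χ.1).factorization p :=
      htPair_le ξ χ hQ1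
    have heq : (charDegree ξ.1).factorization p = (charDegree χ.1).factorization p :=
      le_antisymm hle (hmin ξ hξB)
    have hQ2 : HtPair p χ ξ := ⟨n, hn, hn0, by rw [hval, heq]⟩
    intro ψ hψ
    exact hcong χ ξ ψ hξB hψ hQ2
  exact ⟨⟨fun h0 => ⟨χ, hχ, hall_of_zero h0 χ hχ⟩,
    fun ⟨ξ, hξ, hQ⟩ => hle_of_all (fun ψ hψ => hcong χ ξ ψ hξ hψ hQ)⟩,
    ⟨hall_of_zero, hle_of_all⟩⟩

end Cfsg.Agent.Lib.helper23
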