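import Mathlib
import Cfsg.Agent.Lib.helper23.PTruncHeight
import Cfsg.Agent.Lib.helper23.BlockDefectZero
import Cfsg.Agent.Lib.helper23.TwoPrimes
import Cfsg.Agent.Lib.helper5.BlockHeight
import Cfsg.Agent.Lib.helper5.BlockDefect2

set_option autoImplicit false

/-!
# Brauer-Feit type bounds from the integers `[ptrunc χ, ψ]`
-/

namespace Cfsg.Agent.Lib.helper23

open Cfsg Cfsg.Agent.Lib.helper24 Cfsg.Agent.Lib.helper5
open scoped ComplexConjugate

universe u

section bf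

variable {G : Type u} [Group G] [Fintype G]

/-- the integer `[ptrunc χ, ψ]` -/
noncomputable def nInt (p : ℕ) [Fact p.Prime] (χ ψ : IrrCharacter G) : ℤ :=
  (exists_int_inner_ptrunc p (isCharacter_irr χ) ψ).choose

theorem nInt_spec (p : ℕ) [Fact p.Prime] (χ ψ : IrrCharacter G) :
    classInner (ptrunc p χ.1) ψ.1 = (nInt p χ ψ : ℂ) :=
  (exists_int_inner_ptrunc p (isCharacter_irr χ) ψ).choose_spec

theorem nInt_symm (p : ℕ) [Fact p.Prime] (χ ψ : IrrCharacter G) :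
    nInt p χ ψ = nInt p ψ χ := by
  have h := inner_ptrunc_symm p χ ψ
  rw [nInt_spec, nInt_spec] at h
  exact_mod_cast h

theorem nInt_parseval [Fintype (IrrCharacter G)] (p : ℕ) [Fact p.Prime] (χ : IrrCharacter G) :
    ∑ ψ : IrrCharacter G, nInt p χ ψ ^ 2
      = (p : ℤ) ^ (Nat.card G).factorization p * nInt p χ χ := by
  have hne : (Nat.card G : ℂ) ≠ 0 := NeZero.ne _
  have h1 : ∑ g : G, ptrunc p χ.1 g * conj (ptrunc p χ.1 g)
      = ((p : ℂ) ^ (Nat.card G).factorization p) * ((Nat.card G : ℂ) * (nInt p χ χ : ℂ)) := by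
    rw [← nInt_spec, ← sum_mul_conj_eq_classInner, Finset.mul_sum]
    apply Finset.sum_congr rfl
    intro g _
    unfold ptrunc
    by_cases hg : p ∣ orderOf g
    · simp only [if_pos hg, zero_mul, mul_zero]
    · simp only [if_neg hg]
      rw [map_mul, Complex.conj_natCast]
      push_cast
      ring
  have e2 : ∀ ψ : IrrCharacter G, ∑ g : G, ψ.1 g * conj (ptrunc p χ.1 g)
      = (Nat.card G : ℂ) * (nInt p χ ψ : ℂ) := by
    intro ψ
    have h := sum_mul_conj_eq_classInner (ptrunc p χ.1) ψ.1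
    rw [nInt_spec] at h
    have h' := congrArg (starRingEnd ℂ) h
    rw [map_sum, map_mul, Complex.conj_natCast, map_intCast] at h'
    rw [← h']
    apply Finset.sum_congr rfl
    intro g _
    rw [map_mul, Complex.conj_conj, mul_comm]
  have h2 : ∑ g : G, ptrunc p χ.1 g * conj (ptrunc p χ.1 g)
      = (Nat.card G : ℂ) * ∑ ψ : IrrCharacter G, ((nInt p χ ψ : ℂ)) ^ 2 := by
    have e : ∀ g : G, ptrunc p χ.1 g * conj (ptrunc p χ.1 g)
        = ∑ ψ : IrrCharacter G, (nInt p χ ψ : ℂ) * (ψ.1 g * conj (ptrunc p χ.1 g)) := by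
      intro g
      have hx : ptrunc p χ.1 g * conj (ptrunc p χ.1 g)
          = (∑ ψ : IrrCharacter G, classInner (ptrunc p χ.1) ψ.1 * ψ.1 g)
            * conj (ptrunc p χ.1 g) := by
        rw [← ptrunc_expansion p χ g]
      rw [hx, Finset.sum_mul]
      apply Finset.sum_congr rfl
      intro ψ _
      rw [nInt_spec]
      ring
    rw [Finset.sum_congr rfl (fun g _ => e g), Finset.sum_comm, Finset.mul_sum]
    apply Finset.sum_congr rfl
    intro ψ _
    rw [← Finset.mul_sum, e2]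
    ring
  have h3 : (Nat.card G : ℂ) * ∑ ψ : IrrCharacter G, ((nInt p χ ψ : ℂ)) ^ 2
      = (Nat.card G : ℂ) * (((p : ℂ) ^ (Nat.card G).factorization p) * (nInt p χ χ : ℂ)) := by
    rw [← h2, h1]
    ring
  have h4 := mul_left_cancel₀ hne h3
  exact_mod_cast h4

theorem nInt_offdiag [Fintype (IrrCharacter G)] (p : ℕ) [Fact p.Prime] (χ : IrrCharacter G) :
    ∑ ψ : IrrCharacter G, (if ψ ≠ χ then nInt p χ ψ ^ 2 else 0)
      = nInt p χ χ * ((p : ℤ) ^ (Nat.card G).factorization p - nInt p χ χ) := by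
  classical
  have h := nInt_parseval p χ
  have h1 : ∑ ψ : IrrCharacter G, nInt p χ ψ ^ 2
      = ∑ ψ : IrrCharacter G, (if ψ ≠ χ then nInt p χ ψ ^ 2 else 0) + nInt p χ χ ^ 2 := by
    have h2 : nInt p χ χ ^ 2
        = ∑ ψ : IrrCharacter G, (if ψ = χ then nInt p χ ψ ^ 2 else 0) := by
      rw [Finset.sum_ite_eq' Finset.univ χ (fun ψ => nInt p χ ψ ^ 2), if_pos (Finset.mem_univ _)]
    rw [h2, ← Finset.sum_add_distrib]
    apply Finset.sum_congr rfl
    intro ψ _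
    by_cases hψ : ψ = χ
    · rw [if_neg (not_not.mpr hψ), if_pos hψ, zero_add]
    · rw [if_pos hψ, if_neg hψ, add_zero]
  rw [h1] at h
  linear_combination h

theorem nInt_self_bounds (p : ℕ) [hp : Fact p.Prime] (χ : IrrCharacter G) :
    0 < nInt p χ χ ∧ nInt p χ χ ≤ (p : ℤ) ^ (Nat.card G).factorization p ∧
      (nInt p χ χ = (p : ℤ) ^ (Nat.card G).factorization p →
        ∀ g : G, p ∣ orderOf g → χ.1 g = 0) := by
  classical
  obtain ⟨n, hn⟩ : ∃ n : ℤ, n = nInt p χ χ := ⟨_, rfl⟩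
  have hspec : classInner (ptrunc p χ.1) χ.1 = (n : ℂ) := by rw [hn]; exact nInt_spec p χ χ
  rw [← hn]
  obtain ⟨f, hf⟩ : ∃ f : G → ℝ, f = fun g => Complex.normSq (χ.1 g) := ⟨_, rfl⟩
  have hf0 : ∀ g, 0 ≤ f g := fun g => by rw [hf]; exact Complex.normSq_nonneg _
  have hfc : ∀ g, χ.1 g * conj (χ.1 g) = ((f g : ℝ) : ℂ) := fun g => by
    rw [hf]; exact Complex.mul_conj _
  have hcardpos : (0 : ℝ) < (Nat.card G : ℝ) := by exact_mod_cast Nat.card_pos
  have htot : ∑ g : G, f g = (Nat.card G : ℝ) := by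
    have h1 := sum_mul_conj_eq_classInner χ.1 χ.1
    rw [irr_orthonormal, if_pos rfl, mul_one] at h1
    have h2 : ((∑ g : G, f g : ℝ) : ℂ) = ((Nat.card G : ℝ) : ℂ) := by
      push_cast
      rw [← h1]
      apply Finset.sum_congr rfl
      intro g _
      exact (hfc g).symm
    exact_mod_cast h2
  obtain ⟨R, hR⟩ : ∃ R : ℝ, R = ∑ g : G, if p ∣ orderOf g then 0 else f g := ⟨_, rfl⟩
  obtain ⟨a, ha⟩ : ∃ a : ℕ, a = (Nat.card G).factorization p := ⟨_, rfl⟩
  rw [← ha]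
  have hRn : (Nat.card G : ℝ) * n = ((p : ℝ) ^ a) * R := by
    have h1 := card_mul_inner_ptrunc p χ.1 χ.1
    rw [hspec, ← ha] at h1
    have h2 : (((Nat.card G : ℝ) * n : ℝ) : ℂ) = ((((p : ℝ) ^ a) * R : ℝ) : ℂ) := by
      push_cast
      rw [h1, hR]
      push_cast
      congr 1
      apply Finset.sum_congr rfl
      intro g _
      by_cases hg : p ∣ orderOf g
      · rw [if_pos hg, if_pos hg, Complex.ofReal_zero]
      · rw [if_neg hg, if_neg hg]
        exact hfc g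
    exact_mod_cast h2
  have hRle : R ≤ (Nat.card G : ℝ) := by
    rw [hR, ← htot]
    apply Finset.sum_le_sum
    intro g _
    split_ifs
    · exact hf0 g
    · exact le_refl _
  have hRpos : 0 < R := by
    have h1 : f 1 ≤ R := by
      rw [hR]
      have h2 : f 1 = (fun g : G => if p ∣ orderOf g then (0 : ℝ) else f g) 1 := by
        show f 1 = if p ∣ orderOf (1 : G) then (0 : ℝ) else f 1
        rw [if_neg]
        rw [orderOf_one]
        exact hp.out.not_dvd_one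
      rw [h2]
      apply Finset.single_le_sum (f := fun g : G => if p ∣ orderOf g then (0 : ℝ) else f g)
      · intro g _
        show (0 : ℝ) ≤ if p ∣ orderOf g then (0 : ℝ) else f g
        split_ifs
        · exact le_refl _
        · exact hf0 g
      · exact Finset.mem_univ _
    have h3 : 0 < f 1 := by
      rw [hf]
      exact Complex.normSq_pos.mpr (irr_one_ne_zero χ)
    linarith
  have hppos : (0 : ℝ) < (p : ℝ) ^ a := by
    have : (0 : ℝ) < (p : ℝ) := by exact_mod_cast hp.out.pos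
    positivity
  have hnpos : (0 : ℝ) < (n : ℝ) := by
    have h1 : 0 < (Nat.card G : ℝ) * n := by rw [hRn]; positivity
    exact (mul_pos_iff_of_pos_left hcardpos).mp h1
  have hnle : (n : ℝ) ≤ (p : ℝ) ^ a := by
    have h1 : (Nat.card G : ℝ) * n ≤ (Nat.card G : ℝ) * (p : ℝ) ^ a := by
      rw [hRn, mul_comm]
      exact mul_le_mul_of_nonneg_right hRle hppos.le
    exact le_of_mul_le_mul_left h1 hcardpos
  refine ⟨by exact_mod_cast hnpos, by exact_mod_cast hnle, ?_⟩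
  intro heq g hg
  have heq' : (n : ℝ) = (p : ℝ) ^ a := by exact_mod_cast heq
  have hReq : R = (Nat.card G : ℝ) := by
    have h1 : (p : ℝ) ^ a * R = (p : ℝ) ^ a * (Nat.card G : ℝ) := by
      rw [← hRn, heq']; ring
    exact mul_left_cancel₀ hppos.ne' h1
  have hdiff : ∑ g : G, (f g - if p ∣ orderOf g then 0 else f g) = 0 := by
    rw [Finset.sum_sub_distrib, htot, ← hR, hReq, sub_self]
  have hterm := (Finset.sum_eq_zero_iff_of_nonneg (fun g _ => by
    show (0 : ℝ) ≤ f g - if p ∣ orderOf g then 0 else f g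
    split_ifs
    · simpa using hf0 g
    · simp)).mp hdiff g (Finset.mem_univ _)
  rw [if_pos hg, sub_zero, hf] at hterm
  exact Complex.normSq_eq_zero.mp hterm

theorem sq_ge_of_dvd {x q : ℤ} (hq : 0 < q) (h : q ∣ x) (hx : x ≠ 0) : q ^ 2 ≤ x ^ 2 := by
  obtain ⟨c, rfl⟩ := h
  have hc : c ≠ 0 := by
    rintro rfl
    exact hx (mul_zero _)
  have hc2 : 1 ≤ c ^ 2 := by
    have := sq_nonneg c
    have h2 : c ^ 2 ≠ 0 := pow_ne_zero 2 hc
    omega
  have : (q * c) ^ 2 = q ^ 2 * c ^ 2 := by ring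
  rw [this]
  nlinarith [sq_nonneg q]

/-- the basic numerology of a block -/
theorem block_nu [Fintype (IrrCharacter G)] (p : ℕ) [hp : Fact p.Prime] {M : Ideal AlgInt}
    (hM : IsPModular p M) (B : Set (IrrCharacter G)) (hB : IsPBlock M B) :
    ∃ ν₀ : ℕ, ν₀ + blockDefect p B = (Nat.card G).factorization p ∧
      (∀ ψ ∈ B, (charDegree ψ.1).factorization p = ν₀ + blockHeight p B ψ.1) ∧
      ∃ χ₁ ∈ B, blockHeight p B χ₁.1 = 0 := by
  have hMp := isPModular_isPrime hM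
  obtain ⟨χ₀, rfl⟩ := hB
  have hne : ((fun χ : IrrCharacter G => (charDegree χ.1).factorization p)
      '' blockOf M χ₀.1).Nonempty := ⟨_, ⟨χ₀, mem_blockOf_self hMp.ne_top χ₀, rfl⟩⟩
  obtain ⟨χ₁, hχ₁, hν⟩ := Nat.sInf_mem hne
  refine ⟨sInf ((fun χ : IrrCharacter G => (charDegree χ.1).factorization p)
      '' blockOf M χ₀.1), ?_, ?_, χ₁, hχ₁, ?_⟩
  · unfold blockDefect
    have h1 := factorization_charDegree_le p χ₁
    have h2 : (fun χ : IrrCharacter G => (charDegree χ.1).factorization p) χ₁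
        = (charDegree χ₁.1).factorization p := rfl
    rw [h2] at hν
    omega
  · intro ψ hψ
    unfold blockHeight
    have h1 : sInf ((fun χ : IrrCharacter G => (charDegree χ.1).factorization p)
        '' blockOf M χ₀.1) ≤ (charDegree ψ.1).factorization p := Nat.sInf_le ⟨ψ, hψ, rfl⟩
    omega
  · unfold blockHeight
    have h2 : (fun χ : IrrCharacter G => (charDegree χ.1).factorization p) χ₁
        = (charDegree χ₁.1).factorization p := rfl
    rw [h2] at hν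
    omega

/-- a height zero pivot gives a divisibility and non-vanishing -/
theorem nInt_of_height_zero [Fintype (IrrCharacter G)] (p : ℕ) [hp : Fact p.Prime]
    {M : Ideal AlgInt} (hM : IsPModular p M) (B : Set (IrrCharacter G)) (hB : IsPBlock M B)
    (χ ψ : IrrCharacter G) (hχ : χ ∈ B) (hψ : ψ ∈ B) (h0 : blockHeight p B χ.1 = 0) :
    nInt p χ ψ ≠ 0 ∧ (p : ℤ) ^ (charDegree ψ.1).factorization p ∣ nInt p χ ψ := by
  obtain ⟨n, h1, h2, h3⟩ := (height_zero_iff hM B hB χ hχ).2.mp h0 ψ hψ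
  have e : n = nInt p χ ψ := by
    have := nInt_spec p χ ψ
    rw [h1] at this
    exact_mod_cast this
  rw [← e]
  refine ⟨h2, ?_⟩
  rw [← h3]
  exact padicValInt_dvd n

/-- the Brauer-Feit inequality for a height zero pivot -/
theorem bf_pivot_zero [Fintype (IrrCharacter G)] (p : ℕ) [hp : Fact p.Prime]
    {M : Ideal AlgInt} (hM : IsPModular p M) (B : Set (IrrCharacter G)) (hB : IsPBlock M B)
    (χ₁ : IrrCharacter G) (hχ₁ : χ₁ ∈ B) (h0 : blockHeight p B χ₁.1 = 0) :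
    ∃ m : ℤ, 1 ≤ m ∧ m ≤ (p : ℤ) ^ blockDefect p B ∧
      (∑ ψ : IrrCharacter G, (haveI := Classical.dec (ψ ∈ B ∧ ψ ≠ χ₁);
        if ψ ∈ B ∧ ψ ≠ χ₁ then (p : ℤ) ^ (2 * blockHeight p B ψ.1) else 0))
        ≤ m * ((p : ℤ) ^ blockDefect p B - m) := by
  classical
  obtain ⟨ν₀, hν₀, hht, -⟩ := block_nu p hM B hB
  have hpz : (0 : ℤ) < (p : ℤ) := by exact_mod_cast hp.out.pos
  obtain ⟨hpos, hle, -⟩ := nInt_self_bounds p χ₁
  have hdvd := pow_dvd_inner_ptrunc p χ₁ χ₁ (nInt p χ₁ χ₁) (nInt_spec p χ₁ χ₁)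
  rw [hht χ₁ hχ₁, h0, add_zero] at hdvd
  obtain ⟨m, hm⟩ := hdvd
  have hpν : (0 : ℤ) < (p : ℤ) ^ ν₀ := pow_pos hpz _
  have hm1 : 1 ≤ m := by
    rw [hm] at hpos
    have : 0 < m := (mul_pos_iff_of_pos_left hpν).mp hpos
    omega
  have hmle : m ≤ (p : ℤ) ^ blockDefect p B := by
    rw [hm, ← hν₀, pow_add] at hle
    exact le_of_mul_le_mul_left hle hpν
  refine ⟨m, hm1, hmle, ?_⟩
  have hoff := nInt_offdiag p χ₁
  rw [hm, ← hν₀, pow_add] at hoff
  have hterm : ∀ ψ : IrrCharacter G,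
      (p : ℤ) ^ (2 * ν₀) * (if ψ ∈ B ∧ ψ ≠ χ₁ then (p : ℤ) ^ (2 * blockHeight p B ψ.1) else 0)
        ≤ (if ψ ≠ χ₁ then nInt p χ₁ ψ ^ 2 else 0) := by
    intro ψ
    by_cases h : ψ ∈ B ∧ ψ ≠ χ₁
    · rw [if_pos h, if_pos h.2]
      obtain ⟨hn0, hnd⟩ := nInt_of_height_zero p hM B hB χ₁ ψ hχ₁ h.1 h0
      rw [hht ψ h.1] at hnd
      have := sq_ge_of_dvd (pow_pos hpz _) hnd hn0
      calc (p : ℤ) ^ (2 * ν₀) * (p : ℤ) ^ (2 * blockHeight p B ψ.1)
          = ((p : ℤ) ^ (ν₀ + blockHeight p B ψ.1)) ^ 2 := by ring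
        _ ≤ _ := this
    · rw [if_neg h, mul_zero]
      split_ifs
      · exact sq_nonneg _
      · exact le_refl _
  have hsum : (p : ℤ) ^ (2 * ν₀) * ∑ ψ : IrrCharacter G,
      (if ψ ∈ B ∧ ψ ≠ χ₁ then (p : ℤ) ^ (2 * blockHeight p B ψ.1) else 0)
        ≤ (p : ℤ) ^ (2 * ν₀) * (m * ((p : ℤ) ^ blockDefect p B - m)) := by
    rw [Finset.mul_sum]
    calc ∑ ψ : IrrCharacter G, (p : ℤ) ^ (2 * ν₀)
          * (if ψ ∈ B ∧ ψ ≠ χ₁ then (p : ℤ) ^ (2 * blockHeight p B ψ.1) else 0)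
        ≤ ∑ ψ : IrrCharacter G, (if ψ ≠ χ₁ then nInt p χ₁ ψ ^ 2 else 0) :=
          Finset.sum_le_sum (fun ψ _ => hterm ψ)
      _ = _ := by rw [hoff]; ring
  have hfin := le_of_mul_le_mul_left hsum (pow_pos hpz _)
  refine le_trans (le_of_eq ?_) hfin
  apply Finset.sum_congr rfl
  intro ψ _
  by_cases h : ψ ∈ B ∧ ψ ≠ χ₁
  · rw [if_pos h, if_pos h]
  · rw [if_neg h, if_neg h]

end bf

theorem card_defectGroup {G : Type u} [Group G] [Finite G] (p : ℕ) [Fact p.Prime]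
    {M : Ideal AlgInt} (hM : IsPModular p M) (B : Set (IrrCharacter G)) (hB : IsPBlock M B)
    (P : Subgroup G) (hP : IsDefectGroup p M B P) : Nat.card P = p ^ blockDefect p B := by
  classical
  haveI := Fintype.ofFinite G
  haveI := Fintype.ofFinite (IrrCharacter G)
  obtain ⟨χ₀, rfl⟩ := hB
  obtain ⟨g, hg, S, rfl⟩ := hP
  rw [← defect_class_factorization hM χ₀ g hg, ← Sylow.card_eq_multiplicity S]
  exact Subgroup.card_map_of_injective (Subgroup.subtype_injective _)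

theorem brauer_feit_sum {G : Type u} [Group G] [Fintype G] (p : ℕ) [hp : Fact p.Prime]
    (M : Ideal AlgInt) (hM : IsPModular p M) (B : Set (IrrCharacter G)) (hB : IsPBlock M B)
    (P : Subgroup G) (hP : IsDefectGroup p M B P) :
    ∑ᶠ χ ∈ B, p ^ (2 * blockHeight p B (χ : G → ℂ)) ≤ Nat.card P ^ 2 / 4 + 1 := by
  classical
  haveI := Fintype.ofFinite (IrrCharacter G)
  rw [card_defectGroup p hM B hB P hP]
  obtain ⟨ν₀, hν₀, hht, χ₁, hχ₁, h0⟩ := block_nu p hM B hB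
  obtain ⟨m, hm1, hmle, hsum⟩ := bf_pivot_zero p hM B hB χ₁ hχ₁ h0
  have e1 : ∑ᶠ χ ∈ B, p ^ (2 * blockHeight p B (χ : G → ℂ))
      = ∑ χ : IrrCharacter G, (if χ ∈ B then p ^ (2 * blockHeight p B χ.1) else 0) := by
    rw [finsum_mem_def, finsum_eq_sum_of_fintype]
    apply Finset.sum_congr rfl
    intro χ _
    by_cases h : χ ∈ B
    · simp [h]
    · simp [h]
  rw [e1]
  obtain ⟨T, hT⟩ : ∃ T : ℕ, T = ∑ χ : IrrCharacter G,
      (if χ ∈ B ∧ χ ≠ χ₁ then p ^ (2 * blockHeight p B χ.1) else 0) := ⟨_, rfl⟩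
  have e2 : ∑ χ : IrrCharacter G, (if χ ∈ B then p ^ (2 * blockHeight p B χ.1) else 0)
      = T + 1 := by
    have h1 : ∑ χ : IrrCharacter G, (if χ = χ₁ then p ^ (2 * blockHeight p B χ.1) else 0)
        = 1 := by
      rw [Finset.sum_ite_eq' Finset.univ χ₁ (fun χ => p ^ (2 * blockHeight p B χ.1)),
        if_pos (Finset.mem_univ _), h0, mul_zero, pow_zero]
    rw [hT, ← h1, ← Finset.sum_add_distrib]
    apply Finset.sum_congr rfl
    intro χ _
    by_cases hχ : χ = χ₁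
    · rw [hχ, if_pos hχ₁, if_neg (fun h => h.2 rfl), if_pos rfl, zero_add]
    · by_cases hB' : χ ∈ B
      · rw [if_pos hB', if_pos ⟨hB', hχ⟩, if_neg hχ, add_zero]
      · rw [if_neg hB', if_neg (fun h => hB' h.1), if_neg hχ, add_zero]
  rw [e2]
  apply Nat.add_le_add_right
  rw [Nat.le_div_iff_mul_le (by norm_num)]
  have h3 : (T : ℤ) ≤ m * ((p : ℤ) ^ blockDefect p B - m) := by
    refine le_trans (le_of_eq ?_) hsum
    rw [hT]
    push_cast
    apply Finset.sum_congr rfl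
    intro ψ _
    by_cases h : ψ ∈ B ∧ ψ ≠ χ₁
    · rw [if_pos h, if_pos h]
    · rw [if_neg h, if_neg h]
  have h4 : 4 * (m * ((p : ℤ) ^ blockDefect p B - m)) ≤ ((p : ℤ) ^ blockDefect p B) ^ 2 := by
    nlinarith [sq_nonneg ((p : ℤ) ^ blockDefect p B - 2 * m)]
  have h5 : (T : ℤ) * 4 ≤ ((p : ℤ) ^ blockDefect p B) ^ 2 := by linarith
  exact_mod_cast h5

end Cfsg.Agent.Lib.helper23
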