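import Mathlib
import Cfsg.Agent.Lib.helper23.PTruncHeight
import Cfsg.Agent.Lib.helper23.CharSchur
import Cfsg.Agent.Lib.helper5.BlockDefect2
import Cfsg.Agent.Lib.helper5.BlockHeight
import Cfsg.Agent.Lib.helper5.BlockSecond3

set_option autoImplicit false

/-!
# Central defect groups
-/

namespace Cfsg.Agent.Lib.helper23

open Cfsg Cfsg.Agent.Lib.helper24 Cfsg.Agent.Lib.helper5
open scoped ComplexConjugate

universe u

theorem central_mul_reg_inj {G : Type u} [Group G] (p : ℕ) [hp : Fact p.Prime] {D : Subgroup G}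
    (hD : IsPGroup p D) (hDZ : D ≤ Subgroup.center G) {u u' s s' : G} (hu : u ∈ D)
    (hu' : u' ∈ D) (hs : ¬ p ∣ orderOf s) (hs' : ¬ p ∣ orderOf s') (h : u * s = u' * s') :
    u = u' ∧ s = s' := by
  have hw : u'⁻¹ * u ∈ D := D.mul_mem (D.inv_mem hu') hu
  have hs'eq : s' = (u'⁻¹ * u) * s := by rw [mul_assoc, h, inv_mul_cancel_left]
  have hcomm : Commute (u'⁻¹ * u) s := (Subgroup.mem_center_iff.mp (hDZ hw) s).symm
  obtain ⟨k, hk⟩ := hD ⟨u'⁻¹ * u, hw⟩
  have hk' : (u'⁻¹ * u) ^ (p ^ k) = 1 := by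
    have := congrArg Subtype.val hk
    simpa using this
  obtain ⟨m, hm⟩ : ∃ m : ℕ, m = orderOf s * orderOf s' := ⟨_, rfl⟩
  have hm1 : s ^ m = 1 := by rw [hm, pow_mul, pow_orderOf_eq_one, one_pow]
  have hm2 : s' ^ m = 1 := by rw [hm, mul_comm, pow_mul, pow_orderOf_eq_one, one_pow]
  have hcop : Nat.Coprime (p ^ k) m := by
    rw [hm]
    apply Nat.Coprime.pow_left
    apply Nat.Coprime.mul_right
    · exact (Nat.Prime.coprime_iff_not_dvd hp.out).mpr hs
    · exact (Nat.Prime.coprime_iff_not_dvd hp.out).mpr hs'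
  have h1 : (u'⁻¹ * u) ^ m = 1 := by
    have h2 := hm2
    rw [hs'eq, hcomm.mul_pow, hm1, mul_one] at h2
    exact h2
  have hw1 : u'⁻¹ * u = 1 := by
    have hd1 := orderOf_dvd_of_pow_eq_one hk'
    have hd2 := orderOf_dvd_of_pow_eq_one h1
    have := Nat.eq_one_of_dvd_coprimes hcop hd1 hd2
    exact orderOf_eq_one_iff.mp this
  have huu : u = u' := (inv_mul_eq_one.mp hw1).symm
  refine ⟨huu, ?_⟩
  rw [hs'eq, hw1, one_mul]

theorem central_defect_core {G : Type u} [Group G] [Fintype G] [Fintype (IrrCharacter G)]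
    (p : ℕ) [hp : Fact p.Prime] (D : Subgroup G) (hD : IsPGroup p D)
    (hDZ : D ≤ Subgroup.center G) (χ : IrrCharacter G)
    (hdeg : (charDegree χ.1).factorization p = D.index.factorization p) :
    classInner (ptrunc p χ.1) χ.1 = (((p : ℤ) ^ (charDegree χ.1).factorization p : ℤ) : ℂ) ∧
    ∀ g : G, (¬ ∃ u ∈ D, ∃ s : G, ¬ p ∣ orderOf s ∧ g = u * s) → χ.1 g = 0 := by
  classical
  obtain ⟨n, hn⟩ := exists_int_inner_ptrunc p (isCharacter_irr χ) χ
  have hdvd := pow_dvd_inner_ptrunc p χ χ n hn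
  obtain ⟨f, hf⟩ : ∃ f : G → ℝ, f = fun g => Complex.normSq (χ.1 g) := ⟨_, rfl⟩
  have hf0 : ∀ g, 0 ≤ f g := fun g => by rw [hf]; exact Complex.normSq_nonneg _
  have hfc : ∀ g, χ.1 g * conj (χ.1 g) = ((f g : ℝ) : ℂ) := fun g => by
    rw [hf]; exact Complex.mul_conj _
  have hcardpos : (0 : ℝ) < (Nat.card G : ℝ) := by exact_mod_cast Nat.card_pos
  have htot : ∑ g : G, f g = (Nat.card G : ℝ) := by
    have h1 := sum_mul_conj_eq_classInner χ.1 χ.1
    rw [irr_orthonormal, if_pos rfl, mul_one] at h1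
    have h2 : ((∑ g : G, f g : ℝ) : ℂ) = ((Nat.card G : ℝ) : ℂ) := by
      push_cast
      rw [← h1]
      apply Finset.sum_congr rfl
      intro g _
      exact (hfc g).symm
    exact_mod_cast h2
  obtain ⟨R, hR⟩ : ∃ R : ℝ, R = ∑ g : G, if p ∣ orderOf g then 0 else f g := ⟨_, rfl⟩
  obtain ⟨a, ha⟩ : ∃ a : ℕ, a = (Nat.card G).factorization p := ⟨_, rfl⟩
  obtain ⟨ν, hν⟩ : ∃ ν : ℕ, ν = (charDegree χ.1).factorization p := ⟨_, rfl⟩
  rw [← hν] at hdvd ⊢
  have hRn : (Nat.card G : ℝ) * n = ((p : ℝ) ^ a) * R := by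
    have h1 := card_mul_inner_ptrunc p χ.1 χ.1
    rw [hn, ← ha] at h1
    have h2 : (((Nat.card G : ℝ) * n : ℝ) : ℂ) = ((((p : ℝ) ^ a) * R : ℝ) : ℂ) := by
      push_cast
      rw [h1, hR]
      push_cast
      congr 1
      apply Finset.sum_congr rfl
      intro g _
      by_cases hg : p ∣ orderOf g
      · rw [if_pos hg, if_pos hg, Complex.ofReal_zero]
      · rw [if_neg hg, if_neg hg]
        exact hfc g
    exact_mod_cast h2
  obtain ⟨Dset, hDset⟩ : ∃ Dset : Finset G, Dset = Finset.univ.filter (fun u => u ∈ D) :=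
    ⟨_, rfl⟩
  obtain ⟨Reg, hReg⟩ : ∃ Reg : Finset G, Reg = Finset.univ.filter (fun s => ¬ p ∣ orderOf s) :=
    ⟨_, rfl⟩
  have hDmem : ∀ u, u ∈ Dset ↔ u ∈ D := fun u => by rw [hDset]; simp
  have hRmem : ∀ s, s ∈ Reg ↔ ¬ p ∣ orderOf s := fun s => by rw [hReg]; simp
  obtain ⟨T, hT⟩ : ∃ T : Finset G, T = (Dset ×ˢ Reg).image (fun x => x.1 * x.2) := ⟨_, rfl⟩
  have hinj : Set.InjOn (fun x : G × G => x.1 * x.2) (Dset ×ˢ Reg : Finset (G × G)) := by
    rintro ⟨u, s⟩ hx ⟨u', s'⟩ hx' h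
    rw [Finset.mem_coe, Finset.mem_product] at hx hx'
    obtain ⟨h1, h2⟩ := central_mul_reg_inj p hD hDZ ((hDmem _).mp hx.1) ((hDmem _).mp hx'.1)
      ((hRmem _).mp hx.2) ((hRmem _).mp hx'.2) h
    exact Prod.ext h1 h2
  have hcardD : (Dset.card : ℝ) = (Nat.card D : ℝ) := by
    have : Nat.card D = Dset.card := by
      rw [Nat.card_eq_fintype_card]
      exact Fintype.card_of_subtype Dset hDmem
    rw [this]
  have hTsum : ∑ g ∈ T, f g = (Nat.card D : ℝ) * R := by
    rw [hT, Finset.sum_image hinj, Finset.sum_product]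
    have hu : ∀ u ∈ Dset, ∑ s ∈ Reg, f (u * s) = R := by
      intro u hu
      rw [hR, hReg, Finset.sum_filter]
      apply Finset.sum_congr rfl
      intro s _
      by_cases hs : p ∣ orderOf s
      · rw [if_pos hs, if_neg (not_not.mpr hs)]
      · rw [if_neg hs, if_pos hs]
        obtain ⟨lam, hlam, hlam1⟩ := isIrrCharacter_central χ.2 u (hDZ ((hDmem u).mp hu))
        have hl : ‖lam‖ = 1 :=
          Complex.norm_eq_one_of_pow_eq_one (hlam1 (orderOf u) (pow_orderOf_eq_one u))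
            (orderOf_pos u).ne'
        rw [hf]
        show Complex.normSq (χ.1 (u * s)) = Complex.normSq (χ.1 s)
        rw [hlam, Complex.normSq_mul, Complex.normSq_eq_norm_sq, hl]
        ring
    rw [Finset.sum_congr rfl hu, Finset.sum_const, nsmul_eq_mul, hcardD]
  have hsplit : (Nat.card D : ℝ) * R + ∑ g ∈ Tᶜ, f g = (Nat.card G : ℝ) := by
    rw [← hTsum, ← htot]
    exact Finset.sum_add_sum_compl T f
  have hrest0 : 0 ≤ ∑ g ∈ Tᶜ, f g := Finset.sum_nonneg (fun g _ => hf0 g)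
  have hRpos : 0 < R := by
    have h1 : f 1 ≤ R := by
      rw [hR]
      have h2 : f 1 = (fun g : G => if p ∣ orderOf g then (0 : ℝ) else f g) 1 := by
        show f 1 = if p ∣ orderOf (1 : G) then (0 : ℝ) else f 1
        rw [if_neg]
        rw [orderOf_one]
        exact hp.out.not_dvd_one
      rw [h2]
      apply Finset.single_le_sum (f := fun g : G => if p ∣ orderOf g then (0 : ℝ) else f g)
      · intro g _
        show (0 : ℝ) ≤ if p ∣ orderOf g then (0 : ℝ) else f g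
        split_ifs
        · exact le_refl _
        · exact hf0 g
      · exact Finset.mem_univ _
    have h3 : 0 < f 1 := by
      rw [hf]
      exact Complex.normSq_pos.mpr (irr_one_ne_zero χ)
    linarith
  obtain ⟨d, hd⟩ := IsPGroup.exists_card_eq hD
  have hpa : a = d + ν := by
    have h1 := Subgroup.card_mul_index D
    have hidx : D.index ≠ 0 := Subgroup.index_ne_zero_of_finite
    have hcd : Nat.card D ≠ 0 := Nat.card_pos.ne'
    rw [ha, ← h1, Nat.factorization_mul hcd hidx, Finsupp.add_apply, hν, hdeg, hd,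
      Nat.Prime.factorization_pow hp.out, Finsupp.single_eq_same]
  have hppos : (0 : ℝ) < (p : ℝ) := by exact_mod_cast hp.out.pos
  have hDR : (Nat.card D : ℝ) = (p : ℝ) ^ d := by rw [hd]; push_cast; rfl
  obtain ⟨k, hk⟩ := hdvd
  have hnpos : (0 : ℝ) < (n : ℝ) := by
    have h1 : 0 < (Nat.card G : ℝ) * n := by rw [hRn]; positivity
    exact (mul_pos_iff_of_pos_left hcardpos).mp h1
  have hnR : (n : ℝ) = (p : ℝ) ^ ν * (k : ℝ) := by rw [hk]; push_cast; rfl
  have hkpos : 0 < k := by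
    have h1 : (0 : ℝ) < (p : ℝ) ^ ν * (k : ℝ) := by rw [← hnR]; exact hnpos
    have h2 : (0 : ℝ) < (k : ℝ) := (mul_pos_iff_of_pos_left (by positivity)).mp h1
    exact_mod_cast h2
  have hle : (p : ℝ) ^ d * (p : ℝ) ^ ν * (k : ℝ) ≤ (p : ℝ) ^ d * (p : ℝ) ^ ν := by
    have h1 : (Nat.card G : ℝ) * ((p : ℝ) ^ d * (p : ℝ) ^ ν * (k : ℝ))
        ≤ (Nat.card G : ℝ) * ((p : ℝ) ^ d * (p : ℝ) ^ ν) := by
      have h2 : (Nat.card G : ℝ) * ((p : ℝ) ^ d * (p : ℝ) ^ ν * (k : ℝ))
          = (p : ℝ) ^ a * ((Nat.card D : ℝ) * R) := by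
        rw [hDR, hpa, pow_add]
        have := hRn
        rw [hnR, hpa, pow_add] at this
        linear_combination (p : ℝ) ^ d * this
      rw [h2, hpa, pow_add]
      have h3 : (Nat.card D : ℝ) * R ≤ (Nat.card G : ℝ) := by linarith
      have h4 : (0 : ℝ) ≤ (p : ℝ) ^ d * (p : ℝ) ^ ν := by positivity
      nlinarith
    exact le_of_mul_le_mul_left h1 hcardpos
  have hk1 : k = 1 := by
    have h1 : (k : ℝ) ≤ 1 := by
      have h2 : (0 : ℝ) < (p : ℝ) ^ d * (p : ℝ) ^ ν := by positivity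
      have h3 : (p : ℝ) ^ d * (p : ℝ) ^ ν * (k : ℝ) ≤ (p : ℝ) ^ d * (p : ℝ) ^ ν * 1 := by
        rw [mul_one]; exact hle
      exact le_of_mul_le_mul_left h3 h2
    have h2 : k ≤ 1 := by exact_mod_cast h1
    omega
  rw [hk1, mul_one] at hk
  constructor
  · rw [hn, hk]
  · intro g hg
    have hgT : g ∈ Tᶜ := by
      rw [Finset.mem_compl, hT, Finset.mem_image]
      rintro ⟨⟨u, s⟩, hx, hxg⟩
      rw [Finset.mem_product] at hx
      exact hg ⟨u, (hDmem u).mp hx.1, s, (hRmem s).mp hx.2, hxg.symm⟩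
    have hrest : ∑ g ∈ Tᶜ, f g = 0 := by
      have h1 : (Nat.card G : ℝ) * ((p : ℝ) ^ ν) = (p : ℝ) ^ a * R := by
        rw [← hRn, hk]; push_cast; rfl
      rw [hpa, pow_add] at h1
      have h2 : (Nat.card G : ℝ) = (p : ℝ) ^ d * R := by
        have h3 : (0 : ℝ) < (p : ℝ) ^ ν := by positivity
        have h4 : (Nat.card G : ℝ) * ((p : ℝ) ^ ν) = ((p : ℝ) ^ d * R) * (p : ℝ) ^ ν := by
          rw [h1]; ring
        exact mul_right_cancel₀ h3.ne' h4
      rw [hDR] at hsplit
      linarith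
    have hfg := (Finset.sum_eq_zero_iff_of_nonneg (fun g _ => hf0 g)).mp hrest g hgT
    rw [hf] at hfg
    exact Complex.normSq_eq_zero.mp hfg

theorem laradji_central {G : Type u} [Group G] [Finite G] (p : ℕ) [hp : Fact p.Prime]
    (M : Ideal AlgInt) (hM : IsPModular p M) (D : Subgroup G) (hD : IsPGroup p D)
    (hDZ : D ≤ Subgroup.center G) (χ : IrrCharacter G)
    (hdeg : (charDegree χ.1).factorization p = D.index.factorization p) :
    IsDefectGroup p M (blockOf M χ.1) D ∧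
      ∀ g x : G, IsPPart p g x → x ∉ D → χ.1 g = 0 := by
  classical
  haveI := Fintype.ofFinite G
  haveI := Fintype.ofFinite (IrrCharacter G)
  have hMp := isPModular_isPrime hM
  obtain ⟨hinner, hvan⟩ := central_defect_core p D hD hDZ χ hdeg
  constructor
  · have hmem : χ ∈ blockOf M χ.1 := mem_blockOf_self hMp.ne_top χ
    have hpair : HtPair p χ χ := by
      refine ⟨(p : ℤ) ^ (charDegree χ.1).factorization p, hinner, ?_, ?_⟩
      · exact pow_ne_zero _ (by exact_mod_cast hp.out.ne_zero)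
      · have e : ((p : ℤ) ^ (charDegree χ.1).factorization p)
            = ((p ^ (charDegree χ.1).factorization p : ℕ) : ℤ) := by push_cast; rfl
        rw [e, padicValInt.of_nat, padicValNat.prime_pow]
    have hht := (height_zero_iff hM (blockOf M χ.1) ⟨χ, rfl⟩ χ hmem).1.mpr ⟨χ, hmem, hpair⟩
    obtain ⟨g₀, hg₀⟩ := exists_defectClass hMp χ
    have hfac := defect_class_factorization hM χ g₀ hg₀
    obtain ⟨d, hd⟩ := IsPGroup.exists_card_eq hD
    have hpa : (Nat.card G).factorization p = d + (charDegree χ.1).factorization p := by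
      have h1 := Subgroup.card_mul_index D
      have hidx : D.index ≠ 0 := Subgroup.index_ne_zero_of_finite
      have hcd : Nat.card D ≠ 0 := Nat.card_pos.ne'
      rw [← h1, Nat.factorization_mul hcd hidx, Finsupp.add_apply, hdeg, hd,
        Nat.Prime.factorization_pow hp.out, Finsupp.single_eq_same]
    have hdef : blockDefect p (blockOf M χ.1) = d := by
      unfold blockHeight at hht
      unfold blockDefect
      have h1 := Nat.sub_eq_zero_iff_le.mp hht
      have h2 : sInf ((fun χ : IrrCharacter G => (charDegree χ.1).factorization p)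
          '' blockOf M χ.1) ≤ (charDegree χ.1).factorization p :=
        Nat.sInf_le ⟨χ, hmem, rfl⟩
      omega
    rw [hdef] at hfac
    have hDC : D ≤ Subgroup.centralizer ({g₀} : Set G) :=
      hDZ.trans (Subgroup.center_le_centralizer _)
    have hcard : Nat.card (D.subgroupOf (Subgroup.centralizer ({g₀} : Set G)))
        = p ^ (Nat.card (Subgroup.centralizer ({g₀} : Set G))).factorization p := by
      rw [hfac, ← hd]
      exact Nat.card_congr (Subgroup.subgroupOfEquivOfLe hDC).toEquiv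
    refine ⟨g₀, hg₀, Sylow.ofCard _ hcard, ?_⟩
    rw [Sylow.coe_ofCard, Subgroup.map_subgroupOf_eq_of_le hDC]
  · intro g x hx hxD
    apply hvan
    rintro ⟨u, hu, s, hs, hgs⟩
    apply hxD
    have hup : ∃ k : ℕ, orderOf u = p ^ k := by
      obtain ⟨k, hk⟩ := hD ⟨u, hu⟩
      have hk' : u ^ (p ^ k) = 1 := by
        have := congrArg Subtype.val hk
        simpa using this
      obtain ⟨j, -, hj⟩ := (Nat.dvd_prime_pow hp.out).mp (orderOf_dvd_of_pow_eq_one hk')
      exact ⟨j, hj⟩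
    have hcomm : Commute u s := (Subgroup.mem_center_iff.mp (hDZ hu) s).symm
    have hpart : IsPPart p g u := by
      rw [hgs]
      exact isPPart_mul hcomm hup hs
    rw [isPPart_unique hx hpart]
    exact hu

end Cfsg.Agent.Lib.helper23
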