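import Mathlib

set_option autoImplicit false

/-!
# Counting tuples with prescribed ordered product: recursion and cyclic rotation
-/

namespace Cfsg.Agent.Lib.helper23

universe u

section tuples

variable {G : Type u} [Group G] [Finite G]

/-- the tuples of length `k` with all `t i * g` in `S` and ordered product `x` -/
def TupSet (S : Set G) (g : G) (k : ℕ) (x : G) : Type u :=
  {t : Fin k → G // (∀ i, t i * g ∈ S) ∧ (List.ofFn t).prod = x}

instance (S : Set G) (g : G) (k : ℕ) (x : G) : Finite (TupSet S g k x) := by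
  unfold TupSet
  infer_instance

/-- number of such tuples -/
noncomputable def tupCount (S : Set G) (g : G) (k : ℕ) (x : G) : ℕ :=
  Nat.card (TupSet S g k x)

theorem tupCount_zero (S : Set G) (g : G) (x : G) :
    tupCount S g 0 x = (haveI := Classical.dec (x = 1); if x = 1 then 1 else 0) := by
  classical
  unfold tupCount TupSet
  by_cases hx : x = 1
  · rw [if_pos hx]
    rw [Nat.card_eq_one_iff_unique]
    refine ⟨⟨?_⟩, ⟨⟨fun i => i.elim0, fun i => i.elim0, ?_⟩⟩⟩
    · rintro ⟨t, ht⟩ ⟨t', ht'⟩
      apply Subtype.ext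
      funext i
      exact i.elim0
    · rw [hx]
      simp
  · rw [if_neg hx]
    rw [Nat.card_eq_zero]
    left
    refine ⟨?_⟩
    rintro ⟨t, -, ht⟩
    apply hx
    rw [← ht]
    simp

/-- the recursion for the number of tuples -/
theorem tupCount_succ [Fintype G] (S : Set G) (g : G) (k : ℕ) (x : G) :
    tupCount S g (k + 1) x
      = ∑ a : G, (haveI := Classical.dec (a * g ∈ S);
          if a * g ∈ S then tupCount S g k (a⁻¹ * x) else 0) := by
  classical
  have e : TupSet S g (k + 1) x ≃
      Σ a : G, {t : Fin k → G // a * g ∈ S ∧ (∀ i, t i * g ∈ S) ∧ (List.ofFn t).prod = a⁻¹ * x} :=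
    { toFun := fun t => ⟨t.1 0, ⟨fun i => t.1 i.succ, t.2.1 0, fun i => t.2.1 i.succ, by
        have h := t.2.2
        rw [List.ofFn_succ, List.prod_cons] at h
        exact eq_inv_mul_of_mul_eq h⟩⟩
      invFun := fun s => ⟨Fin.cons s.1 s.2.1, by
        refine ⟨?_, ?_⟩
        · intro i
          refine Fin.cases ?_ ?_ i
          · simpa using s.2.2.1
          · intro j
            simpa using s.2.2.2.1 j
        · rw [List.ofFn_succ, List.prod_cons]
          simp only [Fin.cons_zero, Fin.cons_succ]
          rw [s.2.2.2.2, mul_inv_cancel_left]⟩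
      left_inv := by
        rintro ⟨t, ht⟩
        apply Subtype.ext
        funext i
        refine Fin.cases ?_ ?_ i
        · simp
        · intro j
          simp
      right_inv := by
        rintro ⟨a, t, ht⟩
        refine Sigma.ext ?_ ?_
        · simp
        · simp
          rfl }
  unfold tupCount
  rw [Nat.card_congr e, Nat.card_sigma]
  apply Finset.sum_congr rfl
  intro a _
  by_cases ha : a * g ∈ S
  · rw [if_pos ha]
    apply Nat.card_congr
    exact Equiv.subtypeEquivRight (fun t => and_iff_right ha)
  · rw [if_neg ha]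
    rw [Nat.card_eq_zero]
    left
    refine ⟨?_⟩
    rintro ⟨t, h, -⟩
    exact ha h

/-- the rotation of a tuple -/
def rotTup (S : Set G) (g : G) (m : ℕ) (t : TupSet S g (m + 1) 1) : TupSet S g (m + 1) 1 :=
  ⟨fun i => t.1 (i + 1), fun i => t.2.1 (i + 1), by
    have h := t.2.2
    rw [List.ofFn_succ, List.prod_cons] at h
    rw [List.ofFn_succ', List.concat_eq_append, List.prod_append, List.prod_singleton]
    simp only [Fin.coeSucc_eq_succ, Fin.last_add_one]
    have h2 := mul_eq_one_iff_eq_inv.mp h
    rw [h2, mul_inv_cancel]⟩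

theorem rotTup_iterate (S : Set G) (g : G) (m : ℕ) (k : ℕ) (t : TupSet S g (m + 1) 1)
    (i : Fin (m + 1)) :
    ((rotTup S g m)^[k] t).1 i
      = t.1 ⟨((i : ℕ) + k) % (m + 1), Nat.mod_lt _ (Nat.succ_pos m)⟩ := by
  induction k generalizing t i with
  | zero =>
    simp only [Function.iterate_zero, id_eq, add_zero]
    exact congrArg t.1 (Fin.ext (Nat.mod_eq_of_lt i.2).symm)
  | succ k ih =>
    rw [Function.iterate_succ_apply, ih]
    show t.1 (⟨((i : ℕ) + k) % (m + 1), Nat.mod_lt _ (Nat.succ_pos m)⟩ + 1) = _
    refine congrArg t.1 (Fin.ext ?_)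
    rw [Fin.val_add]
    simp only [Fin.val_one']
    rw [← Nat.add_mod, add_assoc]

theorem rotTup_fixed_const (S : Set G) (g : G) (m : ℕ) (t : TupSet S g (m + 1) 1)
    (h : rotTup S g m t = t) (i : Fin (m + 1)) : t.1 i = t.1 0 := by
  have h1 : ∀ j : Fin (m + 1), t.1 (j + 1) = t.1 j := by
    intro j
    have := congrArg (fun s : TupSet S g (m + 1) 1 => s.1 j) h
    exact this
  induction i using Fin.induction with
  | zero => rfl
  | succ j ih =>
    rw [← Fin.coeSucc_eq_succ, h1]
    exact ih

/-- the cyclic rotation argument -/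
theorem tupCount_modEq (p n : ℕ) [hp : Fact p.Prime] (S : Set G) (g : G) :
    tupCount S g (p ^ n) 1 ≡ Nat.card {h : G // h ^ (p ^ n) = 1 ∧ h * g ∈ S} [MOD p] := by
  classical
  haveI := Fintype.ofFinite G
  obtain ⟨m, hm⟩ : ∃ m : ℕ, p ^ n = m + 1 :=
    ⟨p ^ n - 1, (Nat.sub_add_cancel (Nat.one_le_pow n p hp.out.pos)).symm⟩
  haveI : Fintype (TupSet S g (m + 1) 1) := Fintype.ofFinite _
  obtain ⟨f, hfpt⟩ : ∃ f : Function.End (TupSet S g (m + 1) 1), ∀ t, f t = rotTup S g m t :=
    ⟨rotTup S g m, fun _ => rfl⟩
  have hfdef : f = rotTup S g m := funext hfpt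
  have hf : f ^ p ^ n = 1 := by
    have h1 : (f ^ p ^ n : Function.End (TupSet S g (m + 1) 1)) = f^[p ^ n] :=
      hom_coe_pow (fun g : Function.End (TupSet S g (m + 1) 1) => g) rfl (fun g h => rfl) f
        (p ^ n)
    rw [h1]
    funext t
    apply Subtype.ext
    funext i
    rw [hfdef, rotTup_iterate, hm]
    show t.1 _ = t.1 i
    refine congrArg t.1 (Fin.ext ?_)
    show ((i : ℕ) + (m + 1)) % (m + 1) = i
    rw [Nat.add_mod_right]
    exact Nat.mod_eq_of_lt i.2
  have key := Equiv.Perm.card_fixedPoints_modEq (p := p) (n := n) hf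
  rw [hm]
  unfold tupCount
  rw [Nat.card_eq_fintype_card]
  have e : Nat.card {h : G // h ^ (m + 1) = 1 ∧ h * g ∈ S}
      = Fintype.card (Function.fixedPoints f) := by
    rw [← Nat.card_eq_fintype_card]
    symm
    apply Nat.card_congr
    exact
      { toFun := fun t => ⟨t.1.1 0, by
          have hfix : rotTup S g m t.1 = t.1 := by
            have h : f t.1 = t.1 := t.2
            rw [hfpt] at h
            exact h
          have hc : t.1.1 = fun _ => t.1.1 0 :=
            funext (fun i => rotTup_fixed_const S g m t.1 hfix i)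
          have h := t.1.2.2
          rw [hc, List.ofFn_const, List.prod_replicate] at h
          exact ⟨h, t.1.2.1 0⟩⟩
        invFun := fun h => ⟨⟨fun _ => h.1, fun _ => h.2.2, by
          rw [List.ofFn_const, List.prod_replicate]; exact h.2.1⟩, by
          refine (hfpt _).trans ?_
          apply Subtype.ext
          rfl⟩
        left_inv := by
          rintro ⟨t, ht⟩
          have hfix : rotTup S g m t = t := by
            have h : f t = t := ht
            rw [hfpt] at h
            exact h
          apply Subtype.ext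
          apply Subtype.ext
          funext i
          exact (rotTup_fixed_const S g m t hfix i).symm
        right_inv := by
          rintro ⟨h, hh⟩
          rfl }
  rw [e]
  exact key

end tuples

end Cfsg.Agent.Lib.helper23
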