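import Mathlib
import Cfsg.Agent.Lib.helper23.TupleCount
import Cfsg.Agent.Lib.helper23.BrauerFeit
import Cfsg.Agent.Lib.helper23.CharMod
import Cfsg.Agent.Lib.helper5.BlockThird

set_option autoImplicit false

/-!
# The principal block idempotent at `p`-regular elements
-/

namespace Cfsg.Agent.Lib.helper23

open Cfsg Cfsg.Agent.Lib.helper24 Cfsg.Agent.Lib.helper5
open scoped ComplexConjugate

universe u

section kul

variable {G : Type u} [Group G] [Fintype G] [Fintype (IrrCharacter G)]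
variable {M : Ideal AlgInt} {p : ℕ} [Fact p.Prime]

/-- the central character value at the sum of all `p`-regular elements is a rational integer -/
theorem coord_regInd_int (p : ℕ) [Fact p.Prime] (χ : IrrCharacter G) :
    ∃ m : ℤ, coord (regInd p G) χ = (m : ℂ) := by
  classical
  have hint : IsIntegral ℤ (coord (regInd p G) χ) := by
    rw [coord_eq_sum_conjClasses' (regInd p G) regInd_isClassFunction χ]
    apply IsIntegral.sum
    intro c _
    apply IsIntegral.mul
    · by_cases hc : p ∣ orderOf (Quotient.out c)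
      · rw [regInd_of_sing hc]; exact isIntegral_zero
      · rw [regInd_of_reg hc]; exact isIntegral_one
    · exact centralChar_isIntegral χ.2 _
  have hq : coord (regInd p G) χ
      = (((Nat.card G : ℚ) * (nInt p χ (trivIrr G) : ℚ)
          / ((p ^ (Nat.card G).factorization p : ℕ) : ℚ) / (charDegree χ.1 : ℚ) : ℚ) : ℂ) := by
    have h1 := card_mul_inner_ptrunc p χ.1 (trivIrr G).1
    rw [nInt_spec] at h1
    have hp0 : ((p ^ (Nat.card G).factorization p : ℕ) : ℂ) ≠ 0 := by
      exact_mod_cast (pow_pos (Fact.out : p.Prime).pos _).ne'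
    have h2 : ∑ g : G, regInd p G g * χ.1 g
        = ∑ g : G, if p ∣ orderOf g then 0 else χ.1 g * conj ((trivIrr G).1 g) := by
      apply Finset.sum_congr rfl
      intro g _
      by_cases hg : p ∣ orderOf g
      · rw [regInd_of_sing hg, if_pos hg, zero_mul]
      · rw [regInd_of_reg hg, if_neg hg, trivIrr_apply, map_one, one_mul, mul_one]
    unfold coord
    rw [h2, ← charDegree_cast]
    push_cast
    push_cast at h1 hp0
    rw [h1]
    field_simp
  rw [hq] at hint
  obtain ⟨z, hz⟩ := rat_of_isIntegral_complex hint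
  refine ⟨z, ?_⟩
  rw [hq, ← hz]
  push_cast
  rfl

/-- the integer value of the central character at the sum of the `p`-regular elements -/
noncomputable def mReg (p : ℕ) [Fact p.Prime] (χ : IrrCharacter G) : ℤ :=
  (coord_regInd_int p χ).choose

theorem mReg_spec (p : ℕ) [Fact p.Prime] (χ : IrrCharacter G) :
    coord (regInd p G) χ = (mReg p χ : ℂ) :=
  (coord_regInd_int p χ).choose_spec

theorem mReg_principal (hM : IsPModular p M) {χ : IrrCharacter G}
    (hχ : χ ∈ principalBlock M G) :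
    (p : ℤ) ∣ mReg p χ - (Nat.card {g : G // ¬ p ∣ orderOf g} : ℤ) := by
  have hMp := isPModular_isPrime hM
  have hsb : SameBlock M (trivIrr G).1 χ.1 := hχ
  have h1 := memLocalIdeal_coord_sub hMp (coord_regInd_mem_osimaRing (p := p) (G := G) hMp)
    (sameBlock_symm hsb)
  rw [coord_regInd_triv, mReg_spec] at h1
  rw [← memLocalIdeal_intCast_iff hM]
  push_cast
  exact h1

theorem mReg_nonprincipal (hM : IsPModular p M) {χ : IrrCharacter G}
    (hχ : χ ∉ principalBlock M G) : mReg p χ = 0 := by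
  have h := coord_regInd_eq_zero hM χ hχ
  rw [mReg_spec] at h
  exact_mod_cast h

/-- iterated convolution powers of the indicator of the `p`-regular elements -/
noncomputable def cP (p : ℕ) (G : Type u) [Group G] [Fintype G] : ℕ → G → ℂ
  | 0 => ({1} : Set G).indicator (fun _ => (1 : ℂ))
  | (k + 1) => conv (regInd p G) (cP p G k)

theorem cP_zero_apply (p : ℕ) (x : G) [Decidable (x = 1)] :
    cP p G 0 x = if x = 1 then 1 else 0 := by
  show ({1} : Set G).indicator (fun _ => (1 : ℂ)) x = _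
  by_cases hx : x = 1
  · rw [if_pos hx, Set.indicator_of_mem (by simpa using hx)]
  · rw [if_neg hx, Set.indicator_of_notMem (by simpa using hx)]

theorem cP_succ (p : ℕ) (k : ℕ) : cP p G (k + 1) = conv (regInd p G) (cP p G k) := rfl

theorem cP_isClassFunction (p : ℕ) [Fact p.Prime] (k : ℕ) : IsClassFunction G (cP p G k) := by
  classical
  induction k with
  | zero =>
    intro g h
    rw [cP_zero_apply, cP_zero_apply]
    have : h * g * h⁻¹ = 1 ↔ g = 1 := by
      constructor
      · intro hh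
        have h2 : g = h⁻¹ * (h * g * h⁻¹) * h := by group
        rw [h2, hh]; group
      · rintro rfl; group
    simp only [this]
  | succ k ih =>
    rw [cP_succ]
    exact conv_isClassFunction regInd_isClassFunction ih

theorem coord_cP (p : ℕ) [Fact p.Prime] (k : ℕ) (χ : IrrCharacter G) :
    coord (cP p G k) χ = (mReg p χ : ℂ) ^ k := by
  classical
  induction k with
  | zero =>
    unfold coord
    rw [pow_zero]
    have h1 : ∑ g : G, cP p G 0 g * χ.1 g = χ.1 1 := by
      rw [Finset.sum_eq_single (1 : G)]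
      · rw [cP_zero_apply, if_pos rfl, one_mul]
      · intro b _ hb
        rw [cP_zero_apply, if_neg hb, zero_mul]
      · intro h; exact absurd (Finset.mem_univ _) h
    rw [h1, div_self (irr_one_ne_zero χ)]
  | succ k ih =>
    rw [cP_succ, coord_conv regInd_isClassFunction (cP_isClassFunction p k), Pi.mul_apply, ih,
      mReg_spec, pow_succ, mul_comm]

theorem cP_eq_coef (p : ℕ) [Fact p.Prime] (k : ℕ) (g : G) :
    cP p G k g = coef (fun χ : IrrCharacter G => (mReg p χ : ℂ) ^ k) g := by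
  rw [← coef_coord (cP p G k) (cP_isClassFunction p k) g]
  congr 1
  funext χ
  exact coord_cP p k χ

/-- a multiple of `p ^ (n + 1)` divided by the group order lies in the local ideal -/
theorem memLocalIdeal_pow_div_card (hM : IsPModular p M) (n : ℕ)
    (hn : (Nat.card G).factorization p ≤ n) (k : ℤ) :
    MemLocalIdeal M ((Nat.card G : ℂ)⁻¹ * ((p : ℂ) ^ (n + 1) * (k : ℂ))) := by
  have hp : p.Prime := Fact.out
  obtain ⟨a, ha⟩ : ∃ a : ℕ, a = (Nat.card G).factorization p := ⟨_, rfl⟩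
  obtain ⟨m', hm'⟩ : ∃ m' : ℕ, m' = Nat.card G / p ^ a := ⟨_, rfl⟩
  have hG : Nat.card G = p ^ a * m' := by
    rw [hm', ha]; exact (Nat.ordProj_mul_ordCompl_eq_self (Nat.card G) p).symm
  have hm'p : ¬ p ∣ m' := by
    rw [hm', ha]; exact Nat.not_dvd_ordCompl hp Nat.card_pos.ne'
  have hm0 : (m' : ℂ) ≠ 0 := by
    intro h
    apply hm'p
    have : m' = 0 := by exact_mod_cast h
    rw [this]; exact dvd_zero p
  have hp0 : (p : ℂ) ≠ 0 := by exact_mod_cast hp.ne_zero
  rw [← ha] at hn
  refine ⟨(((p : ℤ) ^ (n + 1 - a) * k : ℤ) : AlgInt), ((m' : ℕ) : AlgInt), ?_, ?_, ?_⟩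
  · rw [intCast_mem_iff hM]
    exact Dvd.dvd.mul_right (dvd_pow_self _ (by omega)) _
  · rw [natCast_mem_iff hM]
    exact hm'p
  · rw [hG]
    have hpow : (p : ℂ) ^ (n + 1) = (p : ℂ) ^ a * (p : ℂ) ^ (n + 1 - a) := by
      rw [← pow_add]; congr 1; omega
    rw [hpow]
    push_cast
    field_simp

/-- the `p ^ n`-th convolution power of the `p`-regular indicator against the principal block
idempotent -/
theorem cP_sub_block (hM : IsPModular p M) (n : ℕ)
    (hn : (Nat.card G).factorization p ≤ n) (g : G) :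
    MemLocalIdeal M (cP p G (p ^ n) g
      - (Nat.card {y : G // ¬ p ∣ orderOf y} : ℂ) ^ (p ^ n)
          * blockCoeff (principalBlock M G) g) := by
  classical
  have hMp := isPModular_isPrime hM
  have hp : p.Prime := Fact.out
  obtain ⟨R, hR⟩ : ∃ R : ℕ, R = Nat.card {y : G // ¬ p ∣ orderOf y} := ⟨_, rfl⟩
  rw [← hR, cP_eq_coef, ← coef_indicator]
  unfold coef
  have e : (Nat.card G : ℂ)⁻¹ * ∑ χ : IrrCharacter G, (mReg p χ : ℂ) ^ (p ^ n) * (χ.1 1 * conj (χ.1 g))
      - (R : ℂ) ^ (p ^ n) * ((Nat.card G : ℂ)⁻¹ * ∑ χ : IrrCharacter G,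
          (principalBlock M G).indicator (fun _ => (1 : ℂ)) χ * (χ.1 1 * conj (χ.1 g)))
      = ∑ χ : IrrCharacter G, ((Nat.card G : ℂ)⁻¹ * ((mReg p χ : ℂ) ^ (p ^ n)
          - (R : ℂ) ^ (p ^ n) * (principalBlock M G).indicator (fun _ => (1 : ℂ)) χ))
          * (χ.1 1 * conj (χ.1 g)) := by
    rw [Finset.mul_sum, Finset.mul_sum, Finset.mul_sum, ← Finset.sum_sub_distrib]
    apply Finset.sum_congr rfl
    intro χ _
    ring
  rw [e]
  apply memLocalIdeal_sum hMp
  intro χ _
  apply memLocalIdeal_mul_right hMp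
  · by_cases hχ : χ ∈ principalBlock M G
    · rw [Set.indicator_of_mem hχ, mul_one]
      have h1 := mReg_principal hM hχ
      rw [← hR] at h1
      have h2 := dvd_sub_pow_of_dvd_sub h1 n
      obtain ⟨k, hk⟩ := h2
      have h3 : (mReg p χ : ℂ) ^ (p ^ n) - (R : ℂ) ^ (p ^ n) = (p : ℂ) ^ (n + 1) * (k : ℂ) := by
        have := congrArg (fun z : ℤ => (z : ℂ)) hk
        push_cast at this
        exact this
      rw [h3]
      exact memLocalIdeal_pow_div_card hM n hn k
    · rw [Set.indicator_of_notMem hχ, mul_zero, sub_zero, mReg_nonprincipal hM hχ]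
      have hq0 : p ^ n ≠ 0 := (pow_pos hp.pos n).ne'
      rw [Int.cast_zero, zero_pow hq0, mul_zero]
      exact memLocalIdeal_zero hMp.ne_top
  · apply memLocalRing_of_isIntegral hMp.ne_top
    exact IsIntegral.mul (isCharacter_isIntegral (isCharacter_irr χ) 1)
      (map_isIntegral_int (starRingEnd ℂ) (isCharacter_isIntegral (isCharacter_irr χ) g))

/-- the tuple count as a value of the convolution power -/
theorem tupCount_eq_cP (p : ℕ) [Fact p.Prime] (g : G) (k : ℕ) (x : G) :
    (tupCount {y : G | ¬ p ∣ orderOf y} g k x : ℂ) = cP p G k (x * g ^ k) := by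
  classical
  induction k generalizing x with
  | zero =>
    rw [tupCount_zero, pow_zero, mul_one, cP_zero_apply]
    by_cases hx : x = 1
    · rw [if_pos hx, if_pos hx]; simp
    · rw [if_neg hx, if_neg hx]; simp
  | succ k ih =>
    rw [tupCount_succ, cP_succ]
    unfold conv
    have hre : ∑ b : G, regInd p G b * cP p G k (b⁻¹ * (x * g ^ (k + 1)))
        = ∑ a : G, regInd p G (a * g) * cP p G k ((a * g)⁻¹ * (x * g ^ (k + 1))) :=
      (Equiv.sum_comp (Equiv.mulRight g)
        (fun b => regInd p G b * cP p G k (b⁻¹ * (x * g ^ (k + 1))))).symm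
    rw [Nat.cast_sum, hre]
    apply Finset.sum_congr rfl
    intro a _
    have hcl := cP_isClassFunction (G := G) p k (a⁻¹ * x * g ^ k) g⁻¹
    have e1 : (a * g)⁻¹ * (x * g ^ (k + 1)) = g⁻¹ * (a⁻¹ * x * g ^ k) * g⁻¹⁻¹ := by
      rw [pow_succ]; group
    rw [e1, hcl]
    by_cases ha : ¬ p ∣ orderOf (a * g)
    · rw [regInd_of_reg ha, one_mul, ← ih]
      congr 1
      exact if_pos ha
    · rw [regInd_of_sing (not_not.mp ha), zero_mul]
      have : (haveI := Classical.dec (a * g ∈ {y : G | ¬ p ∣ orderOf y});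
          if a * g ∈ {y : G | ¬ p ∣ orderOf y} then tupCount {y : G | ¬ p ∣ orderOf y} g k (a⁻¹ * x)
            else 0) = 0 := if_neg ha
      rw [this]; simp

/-- the fixed points of the rotation correspond to the factorizations -/
theorem card_fixed_eq_card_pairs (p : ℕ) [Fact p.Prime] (n : ℕ)
    (hn : (Nat.card G).factorization p ≤ n) (g : G) :
    Nat.card {h : G // h ^ (p ^ n) = 1 ∧ h * g ∈ {y : G | ¬ p ∣ orderOf y}}
      = Nat.card {xy : G × G // (∃ k : ℕ, orderOf xy.1 = p ^ k) ∧ ¬ p ∣ orderOf xy.2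
          ∧ xy.1 * xy.2 = g} := by
  have hp : p.Prime := Fact.out
  have key : ∀ x : G, (∃ k : ℕ, orderOf x = p ^ k) ↔ x ^ (p ^ n) = 1 := by
    intro x
    constructor
    · rintro ⟨k, hk⟩
      rw [← orderOf_dvd_iff_pow_eq_one, hk]
      apply pow_dvd_pow
      have h1 : p ^ k ∣ Nat.card G := hk ▸ orderOf_dvd_natCard x
      exact ((Nat.Prime.pow_dvd_iff_le_factorization hp Nat.card_pos.ne').mp h1).trans hn
    · intro h
      rw [← orderOf_dvd_iff_pow_eq_one] at h
      obtain ⟨k, -, hk⟩ := (Nat.dvd_prime_pow hp).mp h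
      exact ⟨k, hk⟩
  apply Nat.card_congr
  refine
    { toFun := fun h => ⟨(h.1⁻¹, h.1 * g), ?_, ?_, ?_⟩
      invFun := fun xy => ⟨xy.1.1⁻¹, ?_, ?_⟩
      left_inv := ?_
      right_inv := ?_ }
  · show ∃ k : ℕ, orderOf h.1⁻¹ = p ^ k
    rw [key, inv_pow, h.2.1, inv_one]
  · exact h.2.2
  · show h.1⁻¹ * (h.1 * g) = g
    rw [inv_mul_cancel_left]
  · rw [inv_pow, inv_eq_one]
    exact (key _).mp xy.2.1
  · show ¬ p ∣ orderOf (xy.1.1⁻¹ * g)
    have h3 := xy.2.2.2
    have : xy.1.1⁻¹ * g = xy.1.2 := (eq_inv_mul_of_mul_eq h3).symm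
    rw [this]
    exact xy.2.2.1
  · intro h
    apply Subtype.ext
    show h.1⁻¹⁻¹ = h.1
    rw [inv_inv]
  · intro xy
    apply Subtype.ext
    have h3 := xy.2.2.2
    show (xy.1.1⁻¹⁻¹, xy.1.1⁻¹ * g) = xy.1
    rw [inv_inv]
    apply Prod.ext
    · rfl
    · show xy.1.1⁻¹ * g = xy.1.2
      exact (eq_inv_mul_of_mul_eq h3).symm

/-- the principal block idempotent at `p`-regular elements, with `Fintype` instances -/
theorem kulshammer_aux (hM : IsPModular p M) (g : G) (hg : ¬ p ∣ orderOf g) :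
    MemLocalIdeal M (blockCoeff (principalBlock M G) g
      - (Nat.card {xy : G × G // (∃ k : ℕ, orderOf xy.1 = p ^ k) ∧ ¬ p ∣ orderOf xy.2
          ∧ xy.1 * xy.2 = g} : ℂ) / (Nat.card {y : G // ¬ p ∣ orderOf y} : ℂ)) := by
  classical
  have hMp := isPModular_isPrime hM
  have hp : p.Prime := Fact.out
  obtain ⟨R, hR⟩ : ∃ R : ℕ, R = Nat.card {y : G // ¬ p ∣ orderOf y} := ⟨_, rfl⟩
  obtain ⟨N, hN⟩ : ∃ N : ℕ, N = Nat.card {xy : G × G // (∃ k : ℕ, orderOf xy.1 = p ^ k)
      ∧ ¬ p ∣ orderOf xy.2 ∧ xy.1 * xy.2 = g} := ⟨_, rfl⟩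
  rw [← hR, ← hN]
  have hRp : ¬ p ∣ R := by
    rw [hR]; exact card_pRegular_not_dvd p _ G rfl
  have hR0 : (R : ℂ) ≠ 0 := by
    intro h
    apply hRp
    have : R = 0 := by exact_mod_cast h
    rw [this]; exact dvd_zero p
  obtain ⟨a, ha⟩ : ∃ a : ℕ, a = (Nat.card G).factorization p := ⟨_, rfl⟩
  obtain ⟨n, hn⟩ : ∃ n : ℕ, n = Nat.totient (orderOf g) * (a + 1) := ⟨_, rfl⟩
  have han : (Nat.card G).factorization p ≤ n := by
    rw [← ha, hn]
    have h1 : 1 ≤ Nat.totient (orderOf g) := Nat.totient_pos.mpr (orderOf_pos g)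
    nlinarith
  have hq1 : p ^ n ≡ 1 [MOD orderOf g] := by
    have hcop : Nat.Coprime p (orderOf g) := (Nat.Prime.coprime_iff_not_dvd hp).mpr hg
    have h1 := Nat.ModEq.pow_totient hcop
    have h2 := h1.pow (a + 1)
    rw [one_pow, ← pow_mul] at h2
    rw [hn]
    exact h2
  have hgq : g ^ (p ^ n) = g := by
    have := (pow_eq_pow_iff_modEq (x := g) (n := p ^ n) (m := 1)).mpr hq1
    rw [this, pow_one]
  obtain ⟨T, hT⟩ : ∃ T : ℕ, T = tupCount {y : G | ¬ p ∣ orderOf y} g (p ^ n) 1 := ⟨_, rfl⟩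
  have hTc : (T : ℂ) = cP p G (p ^ n) g := by
    rw [hT, tupCount_eq_cP, one_mul, hgq]
  have hmod : T ≡ N [MOD p] := by
    rw [hT, hN, ← card_fixed_eq_card_pairs p n han g]
    exact tupCount_modEq p n _ g
  have h1 : MemLocalIdeal M ((T : ℂ) - (N : ℂ)) := by
    have hd : (p : ℤ) ∣ (T : ℤ) - (N : ℤ) := by
      have := (Nat.modEq_iff_dvd.mp hmod.symm)
      exact this
    have := (memLocalIdeal_intCast_iff hM ((T : ℤ) - (N : ℤ))).mpr hd
    push_cast at this
    exact this
  have h2 := cP_sub_block hM n han g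
  rw [← hR, ← hTc] at h2
  have he : MemLocalRing M (blockCoeff (principalBlock M G) g) := by
    have := indicator_mem_osimaRing (G := G) hMp (trivIrr G) g
    rw [coef_indicator] at this
    exact this
  have h3 : MemLocalIdeal M (((R : ℂ) ^ (p ^ n) - (R : ℂ)) * blockCoeff (principalBlock M G) g) := by
    apply memLocalIdeal_mul_right hMp _ he
    have hd : (p : ℤ) ∣ (R : ℤ) ^ (p ^ n) - (R : ℤ) := by
      rw [← ZMod.intCast_zmod_eq_zero_iff_dvd]
      push_cast
      rw [ZMod.pow_card_pow, sub_self]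
    have := (memLocalIdeal_intCast_iff hM ((R : ℤ) ^ (p ^ n) - (R : ℤ))).mpr hd
    push_cast at this
    exact this
  have h4 : MemLocalIdeal M ((R : ℂ) * blockCoeff (principalBlock M G) g - (N : ℂ)) := by
    have h5 := memLocalIdeal_sub hMp (memLocalIdeal_sub hMp h1 h2) h3
    have e : (T : ℂ) - (N : ℂ) - ((T : ℂ) - (R : ℂ) ^ (p ^ n) * blockCoeff (principalBlock M G) g)
        - ((R : ℂ) ^ (p ^ n) - (R : ℂ)) * blockCoeff (principalBlock M G) g
        = (R : ℂ) * blockCoeff (principalBlock M G) g - (N : ℂ) := by ring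
    rw [e] at h5
    exact h5
  have hinv : MemLocalRing M ((R : ℂ)⁻¹) := by
    refine ⟨1, (R : AlgInt), ?_, ?_⟩
    · rw [natCast_mem_iff hM]; exact hRp
    · simp
  have h6 := memLocalIdeal_mul_right hMp h4 hinv
  have e2 : ((R : ℂ) * blockCoeff (principalBlock M G) g - (N : ℂ)) * (R : ℂ)⁻¹
      = blockCoeff (principalBlock M G) g - (N : ℂ) / (R : ℂ) := by
    field_simp
  rw [e2] at h6
  exact h6

end kul

/-- **Külshammer**: the principal block idempotent at a `p`-regular element -/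
theorem kulshammer_principal {G : Type u} [Group G] [Finite G] (p : ℕ) [Fact p.Prime]
    (M : Ideal AlgInt) (hM : IsPModular p M) (g : G) (hg : ¬ p ∣ orderOf g) :
    MemLocalIdeal M (blockCoeff (principalBlock M G) g
      - (Nat.card {xy : G × G // (∃ k : ℕ, orderOf xy.1 = p ^ k) ∧ ¬ p ∣ orderOf xy.2
          ∧ xy.1 * xy.2 = g} : ℂ) / (Nat.card {y : G // ¬ p ∣ orderOf y} : ℂ)) := by
  haveI := Fintype.ofFinite G
  haveI := Fintype.ofFinite (IrrCharacter G)
  exact kulshammer_aux hM g hg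

end Cfsg.Agent.Lib.helper23
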