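import Mathlib
import Cfsg.Agent.Lib.helper23.BPSat3
import Cfsg.Agent.Lib.helper23.CentralDefect
import Cfsg.Agent.Lib.helper23.BrauerFeit
import Cfsg.Agent.Lib.helper23.MinMax
import Cfsg.Agent.Lib.helper23.Kulshammer
import Cfsg.Agent.Lib.helper24.CharReg

set_option autoImplicit false

/-!
# Maximal Brauer pairs: characterization by a defect zero character and the stabilizer
-/

namespace Cfsg.Agent.Lib.helper23

open Cfsg Cfsg.Agent.Lib.helper24 Cfsg.Agent.Lib.helper5
open scoped ComplexConjugate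

universe u

section central

variable {K : Type u} [Group K] [Fintype K]
variable {M : Ideal AlgInt} {p : ℕ} [Fact p.Prime]

/-- multiplication by a central element scales an irreducible character -/
theorem irr_central_mul' (χ : IrrCharacter K) {t : K} (hcen : ∀ x : K, x * t = t * x)
    (g : K) : χ.1 (t * g) = (χ.1 1)⁻¹ * χ.1 t * χ.1 g := by
  classical
  have hf : IsClassFunction K (fun x : K => if x = t then (1 : ℂ) else 0) := by
    intro x h
    have e : h * x * h⁻¹ = t ↔ x = t := by
      constructor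
      · intro e
        have e1 : x = h⁻¹ * (h * x * h⁻¹) * h := by group
        rw [e1, e, hcen h⁻¹]
        group
      · intro e
        rw [e, hcen h]
        group
    simp only [e]
  have h := irr_classFn_convolution χ hf g
  simp only [ite_mul, one_mul, zero_mul, Finset.sum_ite_eq', Finset.mem_univ, if_true] at h
  exact h

omit [Fintype K] in
theorem mem_of_normal_of_orderOf_pow [Finite K] (N : Subgroup K) [N.Normal] (hN : ¬ p ∣ N.index)
    (t : K) (k : ℕ) (ht : orderOf t = p ^ k) : t ∈ N := by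
  have hp : p.Prime := Fact.out
  have h1 : orderOf (QuotientGroup.mk' N t) ∣ p ^ k := by
    rw [← ht]
    exact orderOf_map_dvd _ t
  have h2 : orderOf (QuotientGroup.mk' N t) ∣ N.index := by
    rw [Subgroup.index_eq_card]
    exact orderOf_dvd_natCard _
  have hcop : Nat.Coprime (p ^ k) N.index :=
    Nat.Coprime.pow_left k ((Nat.Prime.coprime_iff_not_dvd hp).mpr hN)
  have h3 := Nat.dvd_gcd h1 h2
  rw [Nat.Coprime.gcd_eq_one hcop] at h3
  have h4 : orderOf (QuotientGroup.mk' N t) = 1 := Nat.dvd_one.mp h3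
  rw [orderOf_eq_one_iff] at h4
  exact (QuotientGroup.eq_one_iff t).mp h4

/-- a block with a central defect group `D` contains a character of height zero that is trivial
on `D` -/
theorem exists_height_zero_trivial_on_central (hM : IsPModular p M) (χ₀ : IrrCharacter K)
    (D : Subgroup K) (hDp : IsPGroup p D) (hDZ : D ≤ Subgroup.center K)
    (hD : IsDefectGroup p M (blockOf M χ₀.1) D) :
    ∃ θ ∈ blockOf M χ₀.1, (∀ z ∈ D, θ.1 z = θ.1 1) ∧
      (charDegree θ.1).factorization p + (Nat.card D).factorization p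
        = (Nat.card K).factorization p := by
  classical
  haveI : Fintype (IrrCharacter K) := Fintype.ofFinite _
  have hp : p.Prime := Fact.out
  have hMp := isPModular_isPrime hM
  have hcard : Nat.card D = p ^ blockDefect p (blockOf M χ₀.1) :=
    card_defectGroup p hM _ ⟨χ₀, rfl⟩ D hD
  have hfacD : (Nat.card D).factorization p = blockDefect p (blockOf M χ₀.1) := by
    rw [hcard, Nat.factorization_pow, Finsupp.smul_apply, hp.factorization_self, smul_eq_mul,
      mul_one]
  obtain ⟨g₀, hg₀, S, hS⟩ := hD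
  have hreg : ¬ p ∣ orderOf g₀ := regular_of_blockCoeff hM χ₀ g₀ hg₀.2.1
  have hlow : ∀ χ ∈ blockOf M χ₀.1, (Nat.card K).factorization p
      ≤ (charDegree χ.1).factorization p + blockDefect p (blockOf M χ₀.1) := by
    intro χ hχ
    unfold blockDefect
    have : sInf ((fun χ : IrrCharacter K => (charDegree (χ : K → ℂ)).factorization p) ''
        blockOf M χ₀.1) ≤ (charDegree χ.1).factorization p := Nat.sInf_le ⟨χ, hχ, rfl⟩
    omega
  by_contra hcon
  push Not at hcon
  apply hg₀.2.1
  have hcen : ∀ z ∈ D, ∀ x : K, x * z = z * x := fun z hz x =>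
    Subgroup.mem_center_iff.mp (hDZ hz) x
  have h1 : ∑ d : D, blockCoeff (blockOf M χ₀.1) ((d : K) * g₀)
      = blockCoeff (blockOf M χ₀.1) g₀ := by
    rw [Finset.sum_eq_single (1 : D)]
    · simp
    · intro d _ hd1
      have hsing : p ∣ orderOf ((d : K) * g₀) := by
        obtain ⟨k, hk'⟩ := (IsPGroup.iff_orderOf.mp hDp) d
        have hk : orderOf (d : K) = p ^ k := by
          rw [Subgroup.orderOf_coe]
          exact hk'
        have hk0 : k ≠ 0 := by
          intro h0
          rw [h0, pow_zero, orderOf_eq_one_iff] at hk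
          exact hd1 (Subtype.ext hk)
        have hcomm : Commute (d : K) g₀ := (hcen d d.2 g₀).symm
        have hcop : Nat.Coprime (orderOf (d : K)) (orderOf g₀) := by
          rw [hk]
          exact Nat.Coprime.pow_left k ((Nat.Prime.coprime_iff_not_dvd hp).mpr hreg)
        rw [hcomm.orderOf_mul_eq_mul_orderOf_of_coprime hcop, hk]
        exact Dvd.dvd.mul_right (dvd_pow_self p hk0) _
      rw [← coef_indicator, coef_eq_zero_of_singular hM (indicator_mem_osimaRing hMp χ₀)
        (indicator_mul_self _) _ hsing]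
    · intro h
      exact absurd (Finset.mem_univ _) h
  rw [← h1]
  have h3 : ∑ d : D, blockCoeff (blockOf M χ₀.1) ((d : K) * g₀)
      = ∑ χ : IrrCharacter K, (blockOf M χ₀.1).indicator (fun _ => (1 : ℂ)) χ *
          ((Nat.card K : ℂ)⁻¹ * (χ.1 1 * conj (χ.1 g₀)) *
            conj (∑ d : D, (χ.1 1)⁻¹ * χ.1 (d : K))) := by
    have h2 : ∀ d : D, blockCoeff (blockOf M χ₀.1) ((d : K) * g₀)
        = ∑ χ : IrrCharacter K, (Nat.card K : ℂ)⁻¹ *
          ((blockOf M χ₀.1).indicator (fun _ => (1 : ℂ)) χ *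
            (χ.1 1 * conj ((χ.1 1)⁻¹ * χ.1 (d : K) * χ.1 g₀))) := by
      intro d
      rw [← coef_indicator]
      unfold coef
      rw [Finset.mul_sum]
      apply Finset.sum_congr rfl
      intro χ _
      rw [irr_central_mul' χ (hcen d d.2) g₀]
    rw [Finset.sum_congr rfl (fun d _ => h2 d), Finset.sum_comm]
    apply Finset.sum_congr rfl
    intro χ _
    rw [map_sum, Finset.mul_sum, Finset.mul_sum]
    apply Finset.sum_congr rfl
    intro d _
    simp only [map_mul]
    ring
  rw [h3]
  apply memLocalIdeal_sum hMp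
  intro χ _
  by_cases hχ : χ ∈ blockOf M χ₀.1
  · rw [Set.indicator_of_mem hχ, one_mul]
    by_cases htriv : ∀ z ∈ D, χ.1 z = χ.1 1
    · have hsum : ∑ d : D, (χ.1 1)⁻¹ * χ.1 (d : K) = (Nat.card D : ℂ) := by
        rw [Finset.sum_congr rfl (fun d _ => by
          rw [htriv d d.2, inv_mul_cancel₀ (irr_one_ne_zero χ)])]
        simp [Nat.card_eq_fintype_card]
      rw [hsum, Complex.conj_natCast]
      have hne := hcon χ hχ htriv
      have hl := hlow χ hχ
      rw [hfacD] at hne
      obtain ⟨ν, hν⟩ : ∃ ν : ℕ, ν = (charDegree χ.1).factorization p := ⟨_, rfl⟩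
      obtain ⟨a, ha⟩ : ∃ a : ℕ, a = (Nat.card K).factorization p := ⟨_, rfl⟩
      obtain ⟨d, hd⟩ : ∃ d : ℕ, d = blockDefect p (blockOf M χ₀.1) := ⟨_, rfl⟩
      rw [← hν, ← ha, ← hd] at hne
      rw [← hν, ← ha, ← hd] at hl
      have hge : a + 1 ≤ ν + d := by omega
      have hdeg : charDegree χ.1 = p ^ ν * (charDegree χ.1 / p ^ ν) := by
        rw [hν]
        exact (Nat.ordProj_mul_ordCompl_eq_self (charDegree χ.1) p).symm
      have hprod : charDegree χ.1 * Nat.card D
          = p ^ (a + 1) * (p ^ (ν + d - (a + 1)) * (charDegree χ.1 / p ^ ν)) := by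
        rw [hcard, ← hd]
        conv_lhs => rw [hdeg]
        have : p ^ ν * (charDegree χ.1 / p ^ ν) * p ^ d
            = p ^ (ν + d) * (charDegree χ.1 / p ^ ν) := by rw [pow_add]; ring
        rw [this, ← mul_assoc, ← pow_add]
        congr 2
        omega
      have hterm : (Nat.card K : ℂ)⁻¹ * (χ.1 1 * conj (χ.1 g₀)) * (Nat.card D : ℂ)
          = (Nat.card K : ℂ)⁻¹ * ((p : ℂ) ^ (a + 1) *
            (((p ^ (ν + d - (a + 1)) * (charDegree χ.1 / p ^ ν) : ℕ) : ℤ) : ℂ)) * conj (χ.1 g₀) := by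
        have hc : χ.1 1 * (Nat.card D : ℂ) = (p : ℂ) ^ (a + 1) *
            (((p ^ (ν + d - (a + 1)) * (charDegree χ.1 / p ^ ν) : ℕ) : ℤ) : ℂ) := by
          rw [← charDegree_cast χ]
          have := congrArg (fun n : ℕ => (n : ℂ)) hprod
          push_cast at this ⊢
          exact this
        calc (Nat.card K : ℂ)⁻¹ * (χ.1 1 * conj (χ.1 g₀)) * (Nat.card D : ℂ)
            = (Nat.card K : ℂ)⁻¹ * (χ.1 1 * (Nat.card D : ℂ)) * conj (χ.1 g₀) := by ring
          _ = _ := by rw [hc]
      rw [hterm]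
      apply memLocalIdeal_mul_right hMp (memLocalIdeal_pow_div_card hM a (by rw [ha]) _)
      have h2 := isCharacter_isIntegral (isCharacter_of_isIrrCharacter χ.2) g₀
      have h3' : IsIntegral ℤ (conj (χ.1 g₀)) := by
        have := h2.map (starRingEnd ℂ).toIntAlgHom
        simpa using this
      exact memLocalRing_of_isIntegral hMp.ne_top h3'
    · have hsum : ∑ d : D, (χ.1 1)⁻¹ * χ.1 (d : K) = 0 := by
        push Not at htriv
        obtain ⟨z₀, hz₀D, hz₀⟩ := htriv
        have hmul : ∀ d : D, (χ.1 1)⁻¹ * χ.1 (((⟨z₀, hz₀D⟩ : D) * d : D) : K)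
            = ((χ.1 1)⁻¹ * χ.1 z₀) * ((χ.1 1)⁻¹ * χ.1 (d : K)) := by
          intro d
          show (χ.1 1)⁻¹ * χ.1 (z₀ * (d : K)) = _
          rw [irr_central_mul' χ (hcen z₀ hz₀D) (d : K)]
          ring
        have hre : ∑ d : D, (χ.1 1)⁻¹ * χ.1 (d : K)
            = ∑ d : D, (χ.1 1)⁻¹ * χ.1 (((⟨z₀, hz₀D⟩ : D) * d : D) : K) :=
          (Equiv.sum_comp (Equiv.mulLeft (⟨z₀, hz₀D⟩ : D))
            (fun d : D => (χ.1 1)⁻¹ * χ.1 (d : K))).symm
        have hS2 : ∑ d : D, (χ.1 1)⁻¹ * χ.1 (((⟨z₀, hz₀D⟩ : D) * d : D) : K)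
            = ((χ.1 1)⁻¹ * χ.1 z₀) * ∑ d : D, (χ.1 1)⁻¹ * χ.1 (d : K) := by
          rw [Finset.mul_sum]
          exact Finset.sum_congr rfl (fun d _ => hmul d)
        rw [hS2] at hre
        have hc : (χ.1 1)⁻¹ * χ.1 z₀ ≠ 1 := by
          intro h
          apply hz₀
          have h' := congrArg (fun t => χ.1 1 * t) h
          simp only [mul_one] at h'
          rw [mul_inv_cancel_left₀ (irr_one_ne_zero χ)] at h'
          exact h'
        have h0 : (1 - (χ.1 1)⁻¹ * χ.1 z₀) * ∑ d : D, (χ.1 1)⁻¹ * χ.1 (d : K) = 0 := by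
          linear_combination hre
        rcases mul_eq_zero.mp h0 with h | h
        · exact absurd (sub_eq_zero.mp h).symm hc
        · exact h
      rw [hsum, map_zero, mul_zero]
      exact memLocalIdeal_zero hMp.ne_top
  · rw [Set.indicator_of_notMem hχ, zero_mul]
    exact memLocalIdeal_zero hMp.ne_top

end central

end Cfsg.Agent.Lib.helper23
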