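import Mathlib
import Cfsg.Agent.Lib.helper23.PTruncHeight
import Cfsg.Agent.Lib.helper5.BlockInduce
import Cfsg.Agent.Lib.helper5.BlockDefect

set_option autoImplicit false

/-!
# Induced blocks and characters of height zero
-/

namespace Cfsg.Agent.Lib.helper23

open Cfsg Cfsg.Agent.Lib.helper24 Cfsg.Agent.Lib.helper5
open scoped ComplexConjugate

universe u

section gen

variable {G : Type u} [Group G] [Fintype G] [Fintype (IrrCharacter G)]

theorem coord_regConj_fun (p : ℕ) (χ : IrrCharacter G) (f : G → ℂ) :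
    coord (regConj p f) χ * χ.1 1 * ((p ^ (Nat.card G).factorization p : ℕ) : ℂ)
      = (Nat.card G : ℂ) * classInner (ptrunc p χ.1) f := by
  rw [card_mul_inner_ptrunc]
  unfold coord
  rw [div_mul_cancel₀ _ (irr_one_ne_zero χ), mul_comm]
  congr 1
  apply Finset.sum_congr rfl
  intro g _
  unfold regConj
  by_cases hg : p ∣ orderOf g
  · simp [hg]
  · simp [hg, mul_comm]

theorem coord_regConj_degree_fun (p : ℕ) [hp : Fact p.Prime] (χ : IrrCharacter G) (f : G → ℂ) :
    coord (regConj p f) χ * (charDegree χ.1 : ℂ)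
      = ((Nat.card G / p ^ (Nat.card G).factorization p : ℕ) : ℂ)
        * classInner (ptrunc p χ.1) f := by
  have h := coord_regConj_fun p χ f
  rw [← charDegree_cast χ] at h
  have hG : (Nat.card G : ℂ) = ((p ^ (Nat.card G).factorization p : ℕ) : ℂ)
      * ((Nat.card G / p ^ (Nat.card G).factorization p : ℕ) : ℂ) := by
    exact_mod_cast (Nat.ordProj_mul_ordCompl_eq_self (Nat.card G) p).symm
  have hpa : ((p ^ (Nat.card G).factorization p : ℕ) : ℂ) ≠ 0 := by
    exact_mod_cast (pow_pos hp.out.pos _).ne'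
  apply mul_right_cancel₀ hpa
  rw [h]
  nth_rewrite 1 [hG]
  ring

end gen

section ind

variable {G : Type u} [Group G] [Fintype G] [Fintype (IrrCharacter G)]
variable (H : Subgroup G) [Fintype H] [Fintype (IrrCharacter H)]

theorem brFun_top_regConj (p : ℕ) (χ : IrrCharacter G) (ξ : IrrCharacter H) :
    brFun H ⊤ ξ (coord (regConj p χ.1)) = coord (regConj p (fun h : H => χ.1 h)) ξ := by
  have key : ∀ h : H, brTrunc H ⊤ (coord (regConj p χ.1)) h
      = regConj p (fun h : H => χ.1 h) h := by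
    intro h
    rw [brTrunc_of_mem _ (Subgroup.mem_top _),
      coef_coord _ (regConj_isClassFunction p (isClassFunction_irr χ))]
    unfold regConj
    rw [Subgroup.orderOf_coe]
  rw [brFun_apply]
  show (∑ h : H, brTrunc H ⊤ (coord (regConj p χ.1)) h * ξ.1 h) / ξ.1 1
    = (∑ h : H, regConj p (fun h : H => χ.1 h) h * ξ.1 h) / ξ.1 1
  simp only [key]

theorem induced_coord_congr {p : ℕ} {M : Ideal AlgInt} (hM : IsPModular p M)
    {b : Set (IrrCharacter H)} {B : Set (IrrCharacter G)} (hind : IsInducedBlock M H b B)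
    {ξ : IrrCharacter H} (hξ : ξ ∈ b) {χ' : IrrCharacter G} (hχ' : χ' ∈ B)
    (χ : IrrCharacter G) :
    MemLocalIdeal M (coord (regConj p (fun h : H => χ.1 h)) ξ - coord (regConj p χ.1) χ') := by
  have hMp := isPModular_isPrime hM
  have h := brFun_top_of_induced H hMp hind hξ hχ' (coord_mem_osimaRing hMp
    (regConj_isClassFunction p (isClassFunction_irr χ))
    (regConj_memLocalRing hMp.ne_top p (isCharacter_irr χ)))
  rwa [brFun_top_regConj] at h

theorem exists_height_zero_constituent {p : ℕ} [hp : Fact p.Prime] {M : Ideal AlgInt}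
    (hM : IsPModular p M) {b : Set (IrrCharacter H)} {B : Set (IrrCharacter G)}
    (hind : IsInducedBlock M H b B) (χ : IrrCharacter G) (hχ : χ ∈ B)
    (h0 : blockHeight p B χ.1 = 0) :
    ∃ ξ ∈ b, blockHeight p b ξ.1 = 0 ∧
      ∃ n : ℕ, classInner (fun h : H => χ.1 h) ξ.1 = (n : ℂ) ∧ ¬ p ∣ n := by
  classical
  have hMp := isPModular_isPrime hM
  have hp0 : (p : ℂ) ≠ 0 := by exact_mod_cast hp.out.ne_zero
  have hind' := hind
  obtain ⟨hb, hB, -⟩ := hind
  obtain ⟨ξ₁, rfl⟩ := hb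
  have hne : ((fun ξ : IrrCharacter H => (charDegree ξ.1).factorization p)
      '' blockOf M ξ₁.1).Nonempty := ⟨_, ⟨ξ₁, mem_blockOf_self hMp.ne_top ξ₁, rfl⟩⟩
  obtain ⟨ξ₀, hξ₀b, hξ₀⟩ := Nat.sInf_mem hne
  obtain ⟨β₀, hβ₀⟩ : ∃ β₀ : ℕ, β₀ = sInf ((fun ξ : IrrCharacter H =>
      (charDegree ξ.1).factorization p) '' blockOf M ξ₁.1) := ⟨_, rfl⟩
  have hξ₀' : (charDegree ξ₀.1).factorization p = β₀ := by rw [hβ₀]; exact hξ₀
  have hmin : ∀ ξ ∈ blockOf M ξ₁.1, β₀ ≤ (charDegree ξ.1).factorization p := by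
    intro ξ hξ
    rw [hβ₀]
    exact Nat.sInf_le ⟨ξ, hξ, rfl⟩
  have hQ : HtPair p χ χ := ((height_zero_iff hM B hB χ hχ).2.mp h0) χ hχ
  have hW : ¬ MemLocalIdeal M (coord (regConj p (fun h : H => χ.1 h)) ξ₀) := by
    intro hmem
    have h1 := induced_coord_congr H hM hind' hξ₀b hχ χ
    have h2 := memLocalIdeal_sub hMp hmem h1
    rw [sub_sub_cancel] at h2
    exact (htPair_iff hM χ χ).mp hQ h2
  have hχH : IsCharacter H (fun h : H => χ.1 h) :=
    Cfsg.Agent.Lib.helper24.isCharacter_restrict H (isCharacter_irr χ)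
  choose m hm using fun ξ : IrrCharacter H => isCharacter_inner_irr_nat hχH ξ
  choose N hN using fun ξ : IrrCharacter H => exists_int_inner_ptrunc p (isCharacter_irr ξ₀) ξ
  have hclass : IsClassFunction H (fun h : H => χ.1 h) := by
    intro g h
    exact isClassFunction_irr χ (g : G) (h : G)
  have hT : classInner (ptrunc p ξ₀.1) (fun h : H => χ.1 h)
      = ((∑ ξ : IrrCharacter H, (m ξ : ℤ) * N ξ : ℤ) : ℂ) := by
    have hexp := classFunction_expansion hclass
    have h1 : classInner (ptrunc p ξ₀.1) (fun h : H => χ.1 h)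
        = classInner (ptrunc p ξ₀.1)
          (∑ ξ : IrrCharacter H, classInner (fun h : H => χ.1 h) ξ.1 • ξ.1) :=
      congrArg (classInner (ptrunc p ξ₀.1)) hexp
    rw [h1, classInner_sum_right]
    push_cast
    apply Finset.sum_congr rfl
    intro ξ _
    rw [classInner_smul_right, hm ξ, hN ξ, Complex.conj_natCast]
  have hrel := coord_regConj_degree_fun p ξ₀ (fun h : H => χ.1 h)
  rw [hT] at hrel
  by_contra hcon
  push Not at hcon
  have hdiv : ∀ ξ : IrrCharacter H, (p : ℤ) ^ (β₀ + 1) ∣ (m ξ : ℤ) * N ξ := by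
    intro ξ
    by_cases hξ : ξ ∈ blockOf M ξ₁.1
    · by_cases hht : (charDegree ξ.1).factorization p = β₀
      · have hh : blockHeight p (blockOf M ξ₁.1) ξ.1 = 0 := by
          unfold blockHeight
          rw [← hβ₀, hht]
          exact Nat.sub_self _
        have hpm : p ∣ m ξ := hcon ξ hξ hh (m ξ) (hm ξ)
        have hN' : (p : ℤ) ^ β₀ ∣ N ξ := by
          have := pow_dvd_inner_ptrunc p ξ₀ ξ (N ξ) (hN ξ)
          rwa [hξ₀'] at this
        rw [pow_succ, mul_comm ((p : ℤ) ^ β₀)]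
        exact mul_dvd_mul (Int.natCast_dvd_natCast.mpr hpm) hN'
      · have hlt : β₀ + 1 ≤ (charDegree ξ.1).factorization p := by
          have := hmin ξ hξ
          omega
        have hN' : (p : ℤ) ^ ((charDegree ξ.1).factorization p) ∣ N ξ := by
          have hsymm : classInner (ptrunc p ξ.1) ξ₀.1 = N ξ := by rw [inner_ptrunc_symm, hN]
          exact pow_dvd_inner_ptrunc p ξ ξ₀ (N ξ) hsymm
        exact Dvd.dvd.mul_left ((pow_dvd_pow _ hlt).trans hN') _
    · have h := inner_ptrunc_eq_zero_of_not_mem hM ξ₁ ξ₀ ξ hξ₀b hξ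
      rw [hN] at h
      have h2 : N ξ = 0 := by exact_mod_cast h
      rw [h2, mul_zero]
      exact dvd_zero _
  obtain ⟨T', hT'⟩ := Finset.dvd_sum (s := Finset.univ) (fun ξ _ => hdiv ξ)
  apply hW
  obtain ⟨u₀, hu₀⟩ : ∃ u₀ : ℕ, u₀ = charDegree ξ₀.1 / p ^ (charDegree ξ₀.1).factorization p :=
    ⟨_, rfl⟩
  have hd₀ : charDegree ξ₀.1 = p ^ β₀ * u₀ := by
    rw [hu₀, ← hξ₀']
    exact (Nat.ordProj_mul_ordCompl_eq_self _ p).symm
  have hpu : ¬ p ∣ u₀ := by
    rw [hu₀]; exact Nat.not_dvd_ordCompl hp.out (charDegree_ne_zero' ξ₀)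
  obtain ⟨m', hm'⟩ : ∃ m' : ℕ, m' = Nat.card H / p ^ (Nat.card H).factorization p := ⟨_, rfl⟩
  rw [hT', hd₀, ← hm'] at hrel
  have hpb : (p : ℂ) ^ β₀ ≠ 0 := pow_ne_zero _ hp0
  have hWu : coord (regConj p (fun h : H => χ.1 h)) ξ₀ * (u₀ : ℂ)
      = (((m' : ℤ) * ((p : ℤ) * T') : ℤ) : ℂ) := by
    apply mul_left_cancel₀ hpb
    push_cast at hrel ⊢
    linear_combination hrel
  have h1 : MemLocalIdeal M (coord (regConj p (fun h : H => χ.1 h)) ξ₀ * (u₀ : ℂ)) := by
    rw [hWu, memLocalIdeal_intCast_iff hM]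
    exact Dvd.dvd.mul_left (dvd_mul_right _ _) _
  have hu' : MemLocalRing M (1 / (u₀ : ℂ)) :=
    ⟨1, (u₀ : AlgInt), (natCast_mem_iff hM u₀).not.mpr hpu, by simp⟩
  have h2 := memLocalIdeal_mul_right hMp h1 hu'
  have hu0 : (u₀ : ℂ) ≠ 0 := by
    intro h
    apply hpu
    have h3 : u₀ = 0 := by exact_mod_cast h
    rw [h3]
    exact dvd_zero p
  rwa [mul_assoc, mul_one_div_cancel hu0, mul_one] at h2

end ind

end Cfsg.Agent.Lib.helper23
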