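import Cfsg.Agent.Lib.helper23.Galois

set_option autoImplicit false

namespace Cfsg.Agent.Lib.helper23

open Cfsg Cfsg.Agent.Lib.helper24 Polynomial

universe u v

section amgm

theorem sum_ge_card_of_prod_ge_one {ι : Type*} (s : Finset ι) (f : ι → ℝ)
    (hf : ∀ i ∈ s, 0 ≤ f i) (hprod : 1 ≤ ∏ i ∈ s, f i) : (s.card : ℝ) ≤ ∑ i ∈ s, f i := by
  rcases Finset.eq_empty_or_nonempty s with rfl | hne
  · simp
  have hcard : (0 : ℝ) < s.card := by exact_mod_cast Finset.card_pos.mpr hne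
  have h := Real.geom_mean_le_arith_mean_weighted s (fun _ => (s.card : ℝ)⁻¹) f
    (fun i _ => inv_nonneg.mpr hcard.le)
    (by rw [Finset.sum_const, nsmul_eq_mul, mul_inv_cancel₀ hcard.ne']) hf
  rw [Real.finsetProd_rpow s f hf, ← Finset.mul_sum] at h
  have h1 : (1 : ℝ) ≤ (∏ i ∈ s, f i) ^ (s.card : ℝ)⁻¹ :=
    Real.one_le_rpow hprod (inv_nonneg.mpr hcard.le)
  have h2 : (1 : ℝ) ≤ (s.card : ℝ)⁻¹ * ∑ i ∈ s, f i := h1.trans h
  rw [inv_mul_eq_div, le_div_iff₀ hcard, one_mul] at h2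
  exact h2

end amgm

section galchar

variable {G : Type u} [Group G] [Finite G] {V : Type v} [AddCommGroup V] [Module ℂ V]
  [FiniteDimensional ℂ V]

theorem char_mem_algClosure (ρ : Representation ℂ G V) (g : G) :
    ρ.character g ∈ algebraicClosure ℚ ℂ :=
  mem_algebraicClosure_iff.mpr
    ((genrep_char_isIntegral ρ g (isOfFinOrder_of_finite g)).tower_top (A := ℚ)).isAlgebraic

theorem algHom_char (φ : algebraicClosure ℚ ℂ →ₐ[ℚ] ℂ) (m : ℕ)
    (hφ : ∀ μ : algebraicClosure ℚ ℂ, (μ : ℂ) ^ Nat.card G = 1 → φ μ = (μ : ℂ) ^ m)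
    (ρ : Representation ℂ G V) (g : G) :
    φ ⟨ρ.character g, char_mem_algClosure ρ g⟩ = ρ.character (g ^ m) := by
  obtain ⟨R, hR, hsum⟩ := genrep_power_sums ρ g
  have hRN : ∀ μ ∈ R, μ ^ Nat.card G = 1 := by
    intro μ hμ
    obtain ⟨k, hk⟩ := orderOf_dvd_natCard g
    rw [hk, pow_mul, hR μ hμ, one_pow]
  have hint : ∀ μ ∈ R, IsIntegral ℚ μ := by
    intro μ hμ
    refine IsIntegral.of_pow (n := Nat.card G) Nat.card_pos ?_
    rw [hRN μ hμ]
    exact isIntegral_one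
  obtain ⟨R', hR'⟩ := multiset_lift_algClosure R hint
  have hx : (⟨ρ.character g, char_mem_algClosure ρ g⟩ : algebraicClosure ℚ ℂ) = R'.sum := by
    apply Subtype.ext
    have h1 := hsum 1
    simp only [pow_one, Multiset.map_id'] at h1
    change ρ.character g = ((R'.sum : algebraicClosure ℚ ℂ) : ℂ)
    rw [h1, ← hR']
    exact (map_multiset_sum (algebraMap (algebraicClosure ℚ ℂ) ℂ) R').symm
  rw [hx, map_multiset_sum, hsum m, ← hR', Multiset.map_map]
  congr 1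
  apply Multiset.map_congr rfl
  intro μ hμ
  have hμR : (μ : ℂ) ∈ R := by
    rw [← hR']
    exact Multiset.mem_map_of_mem _ hμ
  exact hφ μ (hRN _ hμR)

theorem char_pow_coprime_eq_zero (ρ : Representation ℂ G V) (g : G) (m : ℕ)
    (hm : m.Coprime (Nat.card G)) (h : ρ.character g = 0) : ρ.character (g ^ m) = 0 := by
  obtain ⟨φ, hφ⟩ := exists_algHom_root_of_unity_pow (Nat.card G) Nat.card_pos.ne' m hm
  rw [← algHom_char φ m hφ ρ g]
  have h0 : (⟨ρ.character g, char_mem_algClosure ρ g⟩ : algebraicClosure ℚ ℂ) = 0 :=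
    Subtype.ext h
  rw [h0, map_zero]

omit [Finite G] in
theorem pow_zmod_val_mul [Finite G] (g : G) (a b : ZMod (Nat.card G)) :
    g ^ (a * b).val = (g ^ a.val) ^ b.val := by
  have : NeZero (Nat.card G) := ⟨Nat.card_pos.ne'⟩
  rw [ZMod.val_mul, pow_mod_natCard, pow_mul]

theorem char_zmod_unit_ne_zero (ρ : Representation ℂ G V) (g : G)
    (u : (ZMod (Nat.card G))ˣ) (h : ρ.character g ≠ 0) :
    ρ.character (g ^ (u : ZMod (Nat.card G)).val) ≠ 0 := by
  have hN : NeZero (Nat.card G) := ⟨Nat.card_pos.ne'⟩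
  intro h0
  apply h
  have h1 := char_pow_coprime_eq_zero ρ (g ^ (u : ZMod (Nat.card G)).val)
    ((u⁻¹ : (ZMod (Nat.card G))ˣ) : ZMod (Nat.card G)).val (ZMod.val_coe_unit_coprime u⁻¹) h0
  rw [← pow_zmod_val_mul, ← Units.val_mul, mul_inv_cancel, Units.val_one,
    ZMod.val_one_eq_one_mod, pow_mod_natCard, pow_one] at h1
  exact h1

theorem prod_units_char_int (ρ : Representation ℂ G V) (g : G) :
    ∃ z : ℤ, ∏ u : (ZMod (Nat.card G))ˣ, ρ.character (g ^ (u : ZMod (Nat.card G)).val)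
      = (z : ℂ) := by
  have hN : NeZero (Nat.card G) := ⟨Nat.card_pos.ne'⟩
  set x : algebraicClosure ℚ ℂ := ∏ u : (ZMod (Nat.card G))ˣ,
    (⟨ρ.character (g ^ (u : ZMod (Nat.card G)).val), char_mem_algClosure ρ _⟩ :
      algebraicClosure ℚ ℂ) with hx
  have hxc : (x : ℂ) = ∏ u : (ZMod (Nat.card G))ˣ,
      ρ.character (g ^ (u : ZMod (Nat.card G)).val) := by
    rw [hx]
    exact map_prod (algebraMap (algebraicClosure ℚ ℂ) ℂ) _ _
  have hint : IsIntegral ℤ (x : ℂ) := by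
    rw [hxc]
    exact IsIntegral.prod _ (fun u _ => genrep_char_isIntegral ρ _ (isOfFinOrder_of_finite _))
  have hfix : ∀ φ : algebraicClosure ℚ ℂ →ₐ[ℚ] ℂ, φ x = (x : ℂ) := by
    intro φ
    obtain ⟨m, hm, hφ⟩ := algHom_root_of_unity_pow (Nat.card G) Nat.card_pos.ne' φ
    rw [hxc, hx, map_prod]
    refine Fintype.prod_equiv (Equiv.mulRight (ZMod.unitOfCoprime m hm)) _ _ ?_
    intro u
    rw [algHom_char φ m hφ ρ]
    congr 1
    simp only [Equiv.coe_mulRight, Units.val_mul]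
    rw [pow_zmod_val_mul, ZMod.coe_unitOfCoprime, ZMod.val_natCast, pow_mod_natCard]
  obtain ⟨z, hz⟩ := int_of_fixed x hint hfix
  exact ⟨z, by rw [← hxc, hz]⟩

theorem sum_units_normSq_ge (ρ : Representation ℂ G V) (g : G) (h : ρ.character g ≠ 0) :
    (Fintype.card (ZMod (Nat.card G))ˣ : ℝ)
      ≤ ∑ u : (ZMod (Nat.card G))ˣ, ‖ρ.character (g ^ (u : ZMod (Nat.card G)).val)‖ ^ 2 := by
  obtain ⟨z, hz⟩ := prod_units_char_int ρ g
  have hz0 : z ≠ 0 := by
    intro h0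
    rw [h0, Int.cast_zero, Finset.prod_eq_zero_iff] at hz
    obtain ⟨u, -, hu⟩ := hz
    exact char_zmod_unit_ne_zero ρ g u h hu
  have h1 : (1 : ℝ) ≤ ‖(z : ℂ)‖ := by
    rw [Complex.norm_intCast]
    exact_mod_cast Int.one_le_abs hz0
  rw [← hz, norm_prod] at h1
  have h2 : (1 : ℝ) ≤ ∏ u : (ZMod (Nat.card G))ˣ,
      ‖ρ.character (g ^ (u : ZMod (Nat.card G)).val)‖ ^ 2 := by
    rw [Finset.prod_pow]
    exact one_le_pow₀ h1
  have h3 := sum_ge_card_of_prod_ge_one Finset.univ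
    (fun u : (ZMod (Nat.card G))ˣ => ‖ρ.character (g ^ (u : ZMod (Nat.card G)).val)‖ ^ 2)
    (fun u _ => sq_nonneg _) h2
  rw [Finset.card_univ] at h3
  exact h3

end galchar

end Cfsg.Agent.Lib.helper23
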