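import Cfsg.Agent.Lib.helper5.BlockCentral
import Cfsg.Agent.Lib.helper23.GaloisChar
import Cfsg.Agent.Lib.helper24.CharOps

set_option autoImplicit false

namespace Cfsg.Agent.Lib.helper23

open Cfsg Cfsg.Agent.Lib.helper24 Cfsg.Agent.Lib.helper5
open scoped ComplexConjugate

universe u

variable {G : Type u} [Group G]

theorem conjClasses_mk_out (c : ConjClasses G) : ConjClasses.mk (Quotient.out c) = c :=
  Quotient.out_eq c

theorem isConj_out_iff (c c' : ConjClasses G) :
    IsConj (Quotient.out c) (Quotient.out c') ↔ c = c' := by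
  rw [← ConjClasses.mk_eq_mk_iff_isConj, conjClasses_mk_out, conjClasses_mk_out]

theorem out_eq_one_iff (c : ConjClasses G) : Quotient.out c = 1 ↔ c = ConjClasses.mk 1 := by
  constructor
  · intro h
    rw [← conjClasses_mk_out c, h]
  · intro h
    have h1 : IsConj (Quotient.out c) 1 := by
      rw [← ConjClasses.mk_eq_mk_iff_isConj, conjClasses_mk_out, h]
    exact isConj_one_left.mp h1

theorem coef_centralChar_mul_nat [Fintype G] [Fintype (IrrCharacter G)] (g h x : G) :
    ∃ k : ℕ, coef ((fun χ : IrrCharacter G => centralChar χ.1 g)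
      * (fun χ : IrrCharacter G => centralChar χ.1 h)) x = (k : ℂ) := by
  classical
  rw [coef_mul]
  simp only [coef_centralChar]
  refine ⟨(Finset.univ.filter (fun y : G => IsConj g y ∧ IsConj h (y⁻¹ * x))).card, ?_⟩
  rw [Finset.card_filter, Nat.cast_sum]
  apply Finset.sum_congr rfl
  intro y _
  by_cases h1 : IsConj g y <;> by_cases h2 : IsConj h (y⁻¹ * x) <;>
    simp only [h1, h2, if_true, if_false, and_self, and_false, false_and, mul_one, mul_zero,
      Nat.cast_one, Nat.cast_zero]

theorem index_centralizer_one : (Subgroup.centralizer ({1} : Set G)).index = 1 := by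
  have : Subgroup.centralizer ({1} : Set G) = ⊤ := by
    rw [Subgroup.centralizer_eq_top_iff_subset]
    intro x hx
    rw [Set.mem_singleton_iff] at hx
    rw [hx]
    exact Subgroup.one_mem _
  rw [this, Subgroup.index_top]

theorem isIrrCharacter_pow_coprime [Finite G] {χ : G → ℂ} (hχ : IsIrrCharacter G χ) (m : ℕ)
    (hm : m.Coprime (Nat.card G)) : IsIrrCharacter G (fun g => χ (g ^ m)) := by
  classical
  have := Fintype.ofFinite G
  have := Fintype.ofFinite (IrrCharacter G)
  obtain ⟨φ, hφ⟩ := exists_algHom_root_of_unity_pow (Nat.card G) Nat.card_pos.ne' m hm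
  have hχ' := hχ
  obtain ⟨n, ρ, hirr, rfl⟩ := hχ
  set χ₀ : IrrCharacter G := ⟨ρ.character, hχ'⟩ with hχ₀
  have hφχ : ∀ g : G, φ ⟨ρ.character g, char_mem_algClosure ρ g⟩ = ρ.character (g ^ m) :=
    fun g => algHom_char φ m hφ ρ g
  obtain ⟨d, hd0, hd⟩ := isIrrCharacter_one hχ'
  have hdC : (d : ℂ) ≠ 0 := by exact_mod_cast hd0.ne'
  have hωL : ∀ g : G, centralChar ρ.character g ∈ algebraicClosure ℚ ℂ := by
    intro g
    unfold centralChar
    rw [hd]
    exact div_mem (mul_mem (natCast_mem _ _) (char_mem_algClosure ρ g)) (natCast_mem _ _)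
  let τ : G → ℂ := fun g => φ ⟨centralChar ρ.character g, hωL g⟩
  have hτ : ∀ g : G, τ g = ((Subgroup.centralizer ({g} : Set G)).index : ℂ)
      * ρ.character (g ^ m) / (d : ℂ) := by
    intro g
    have h1 : (⟨centralChar ρ.character g, hωL g⟩ : algebraicClosure ℚ ℂ)
        = ((Subgroup.centralizer ({g} : Set G)).index : algebraicClosure ℚ ℂ)
          * ⟨ρ.character g, char_mem_algClosure ρ g⟩ / (d : algebraicClosure ℚ ℂ) := by
      apply Subtype.ext
      push_cast
      unfold centralChar
      rw [hd]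
    simp only [τ]
    rw [h1, map_div₀, map_mul, map_natCast, map_natCast, hφχ]
  have hstar : ∀ g h : G, τ g * τ h = ∑ c : ConjClasses G,
      coef ((fun χ : IrrCharacter G => centralChar χ.1 g)
        * (fun χ : IrrCharacter G => centralChar χ.1 h)) (Quotient.out c)
        * τ (Quotient.out c) := by
    intro g h
    have h1 := coord_eq_sum_conjClasses ((fun χ : IrrCharacter G => centralChar χ.1 g)
      * (fun χ : IrrCharacter G => centralChar χ.1 h)) χ₀
    simp only [Pi.mul_apply] at h1
    choose N hN using fun c : ConjClasses G => coef_centralChar_mul_nat g h (Quotient.out c)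
    have h2 : (⟨centralChar ρ.character g, hωL g⟩ : algebraicClosure ℚ ℂ)
          * ⟨centralChar ρ.character h, hωL h⟩
        = ∑ c : ConjClasses G, (N c : algebraicClosure ℚ ℂ)
          * ⟨centralChar ρ.character (Quotient.out c), hωL _⟩ := by
      apply Subtype.ext
      push_cast
      rw [h1]
      apply Finset.sum_congr rfl
      intro c _
      rw [hN c]
    have h3 := congrArg φ h2
    rw [map_mul, map_sum] at h3
    simp only [τ]
    rw [h3]
    apply Finset.sum_congr rfl
    intro c _
    rw [map_mul, map_natCast, hN c]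
  let Λ : (IrrCharacter G → ℂ) → ℂ := fun a =>
    ∑ c : ConjClasses G, coef a (Quotient.out c) * τ (Quotient.out c)
  have hΛadd : ∀ a b, Λ (a + b) = Λ a + Λ b := by
    intro a b
    simp only [Λ, coef_add, add_mul, Finset.sum_add_distrib]
  have hΛsmul : ∀ (r : ℂ) (a : IrrCharacter G → ℂ), Λ (fun χ => r * a χ) = r * Λ a := by
    intro r a
    simp only [Λ, coef_const_mul, mul_assoc, Finset.mul_sum]
  have hΛzero : Λ 0 = 0 := by
    simp only [Λ, coef_zero, zero_mul, Finset.sum_const_zero]
  have hΛsum : ∀ {ι : Type u} (s : Finset ι) (f : ι → (IrrCharacter G → ℂ)),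
      Λ (∑ c ∈ s, f c) = ∑ c ∈ s, Λ (f c) := by
    intro ι s f
    induction s using Finset.induction_on with
    | empty => simpa using hΛzero
    | insert a s ha ih => rw [Finset.sum_insert ha, Finset.sum_insert ha, hΛadd, ih]
  let C : ConjClasses G → (IrrCharacter G → ℂ) := fun c χ => centralChar χ.1 (Quotient.out c)
  have hdecomp : ∀ a : IrrCharacter G → ℂ,
      a = ∑ c : ConjClasses G, (fun χ => coef a (Quotient.out c) * C c χ) := by
    intro a
    funext χ
    rw [Finset.sum_apply]
    exact coord_eq_sum_conjClasses a χ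
  have hΛC : ∀ c : ConjClasses G, Λ (C c) = τ (Quotient.out c) := by
    intro c
    simp only [Λ, C, coef_centralChar, isConj_out_iff]
    rw [Finset.sum_eq_single c]
    · simp
    · intro c' _ hne
      simp [Ne.symm hne]
    · intro h
      exact absurd (Finset.mem_univ c) h
  have hΛCC : ∀ c c' : ConjClasses G, Λ (C c * C c') = τ (Quotient.out c) * τ (Quotient.out c') := by
    intro c c'
    exact (hstar (Quotient.out c) (Quotient.out c')).symm
  have hΛdec : ∀ a : IrrCharacter G → ℂ,
      Λ a = ∑ c : ConjClasses G, coef a (Quotient.out c) * τ (Quotient.out c) := fun a => rfl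
  have hΛmul : ∀ a b : IrrCharacter G → ℂ, Λ (a * b) = Λ a * Λ b := by
    intro a b
    have hab : a * b = ∑ c : ConjClasses G, ∑ c' : ConjClasses G,
        (fun χ => (coef a (Quotient.out c) * coef b (Quotient.out c')) * (C c * C c') χ) := by
      conv_lhs => rw [hdecomp a, hdecomp b]
      rw [Finset.sum_mul_sum]
      apply Finset.sum_congr rfl
      intro c _
      apply Finset.sum_congr rfl
      intro c' _
      funext χ
      simp only [Pi.mul_apply]
      ring
    rw [hab, hΛsum]
    simp only [hΛsum, hΛsmul, hΛCC]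
    rw [hΛdec a, hΛdec b, Finset.sum_mul_sum]
    apply Finset.sum_congr rfl
    intro c _
    apply Finset.sum_congr rfl
    intro c' _
    ring
  have hΛone : Λ 1 = 1 := by
    simp only [Λ, coef_one, out_eq_one_iff]
    rw [Finset.sum_eq_single (ConjClasses.mk (1 : G))]
    · rw [if_pos rfl, one_mul]
      have h1 : Quotient.out (ConjClasses.mk (1 : G)) = 1 := (out_eq_one_iff _).mpr rfl
      rw [h1, hτ, index_centralizer_one, one_pow, hd, Nat.cast_one, one_mul, div_self hdC]
    · intro c _ hne
      rw [if_neg hne, zero_mul]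
    · intro h
      exact absurd (Finset.mem_univ _) h
  -- find the coordinate
  have hex : ∃ ψ : IrrCharacter G, Λ (Pi.single ψ 1) ≠ 0 := by
    by_contra hcon
    have hall : ∀ ψ : IrrCharacter G, Λ (Pi.single ψ 1) = 0 := by
      intro ψ
      by_contra h
      exact hcon ⟨ψ, h⟩
    have h1 : (1 : IrrCharacter G → ℂ) = ∑ ψ : IrrCharacter G, Pi.single ψ 1 := by
      funext χ
      rw [Finset.sum_apply]
      simp [Pi.single_apply]
    rw [h1, hΛsum] at hΛone
    simp only [hall, Finset.sum_const_zero] at hΛone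
    exact zero_ne_one hΛone
  obtain ⟨ψ₀, hψ₀⟩ := hex
  have hΛeval : ∀ a : IrrCharacter G → ℂ, Λ a = a ψ₀ := by
    intro a
    have h1 : a * Pi.single ψ₀ 1 = fun χ => a ψ₀ * (Pi.single ψ₀ (1 : ℂ) : IrrCharacter G → ℂ) χ := by
      funext χ
      by_cases h : χ = ψ₀
      · subst h
        simp
      · simp [Pi.single_apply, h]
    have h2 := hΛmul a (Pi.single ψ₀ 1)
    rw [h1, hΛsmul] at h2
    exact (mul_right_cancel₀ hψ₀ h2).symm
  have hcc : ∀ c : ConjClasses G, centralChar ψ₀.1 (Quotient.out c) = τ (Quotient.out c) := by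
    intro c
    rw [← hΛC c, hΛeval]
  obtain ⟨e, he0, he⟩ := isIrrCharacter_one ψ₀.2
  have heC : (e : ℂ) ≠ 0 := by exact_mod_cast he0.ne'
  have hval : ∀ g : G, ψ₀.1 g = ((e : ℂ) / (d : ℂ)) * ρ.character (g ^ m) := by
    intro g
    have hc := hcc (ConjClasses.mk g)
    set x := Quotient.out (ConjClasses.mk g) with hx
    have hconj : IsConj g x := by
      rw [← ConjClasses.mk_eq_mk_iff_isConj, hx, conjClasses_mk_out]
    obtain ⟨t, ht⟩ := isConj_iff.mp hconj
    rw [hτ] at hc
    unfold centralChar at hc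
    rw [he] at hc
    have hidx : ((Subgroup.centralizer ({x} : Set G)).index : ℂ) ≠ 0 := by
      exact_mod_cast Subgroup.index_ne_zero_of_finite
    have h1 : ψ₀.1 x = ((e : ℂ) / (d : ℂ)) * ρ.character (x ^ m) := by
      field_simp at hc ⊢
      linear_combination hc
    have h2 : ψ₀.1 x = ψ₀.1 g := by
      rw [← ht]
      exact isClassFunction_irr ψ₀ g t
    have h3 : ρ.character (x ^ m) = ρ.character (g ^ m) := by
      rw [← ht, conj_pow]
      exact Representation.char_conj ρ (g ^ m) t
    rw [← h2, h1, h3]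
  have hnorm1 : ∑ g : G, ψ₀.1 g * conj (ψ₀.1 g) = (Nat.card G : ℂ) := by
    rw [sum_mul_conj_eq_classInner, irr_inner_self, mul_one]
  have hnorm2 : ∑ g : G, ρ.character (g ^ m) * conj (ρ.character (g ^ m)) = (Nat.card G : ℂ) := by
    have h1 := Equiv.sum_comp (powCoprime hm.symm)
      (fun g : G => ρ.character g * conj (ρ.character g))
    simp only [powCoprime_apply] at h1
    rw [h1]
    have h2 := sum_mul_conj_eq_classInner (χ₀.1) (χ₀.1)
    rw [irr_inner_self, mul_one] at h2
    exact h2
  have hGC : (Nat.card G : ℂ) ≠ 0 := by exact_mod_cast Nat.card_pos.ne'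
  have hed : e = d := by
    have h1 : ∑ g : G, ψ₀.1 g * conj (ψ₀.1 g)
        = ((e : ℂ) / (d : ℂ)) ^ 2 * ∑ g : G, ρ.character (g ^ m) * conj (ρ.character (g ^ m)) := by
      rw [Finset.mul_sum]
      apply Finset.sum_congr rfl
      intro g _
      rw [hval g, map_mul, map_div₀, Complex.conj_natCast, Complex.conj_natCast]
      ring
    rw [hnorm1, hnorm2] at h1
    have h2 : ((e : ℂ) / (d : ℂ)) ^ 2 = 1 := by
      have := mul_right_cancel₀ hGC (by rw [one_mul]; exact h1 : (1 : ℂ) * (Nat.card G : ℂ)
        = ((e : ℂ) / (d : ℂ)) ^ 2 * (Nat.card G : ℂ))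
      exact this.symm
    have h3 : ((e : ℂ)) ^ 2 = (d : ℂ) ^ 2 := by
      field_simp at h2
      exact h2
    have h4 : e ^ 2 = d ^ 2 := by exact_mod_cast h3
    exact Nat.pow_left_injective (by norm_num : (2 : ℕ) ≠ 0) h4
  have hfinal : (fun g => ρ.character (g ^ m)) = ψ₀.1 := by
    funext g
    rw [hval g, hed, div_self hdC, one_mul]
  rw [hfinal]
  exact ψ₀.2

theorem isCharacter_pow_coprime [Finite G] {χ : G → ℂ} (hχ : IsCharacter G χ) (m : ℕ)
    (hm : m.Coprime (Nat.card G)) : IsCharacter G (fun g => χ (g ^ m)) := by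
  obtain ⟨l, rfl⟩ := isCharacter_iff_exists_list.mp hχ
  clear hχ
  have : (fun g => (l.map (fun ψ : IrrCharacter G => ψ.1)).sum (g ^ m))
      = (l.map (fun ψ : IrrCharacter G => fun g => ψ.1 (g ^ m))).sum := by
    funext g
    induction l with
    | nil => simp
    | cons a l ih =>
      simp only [List.map_cons, List.sum_cons, Pi.add_apply] at ih ⊢
      rw [ih]
  rw [this]
  apply isCharacter_list_sum
  intro ψ hψ
  obtain ⟨θ, _, rfl⟩ := List.mem_map.mp hψ
  exact isCharacter_of_isIrrCharacter (isIrrCharacter_pow_coprime θ.2 m hm)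

end Cfsg.Agent.Lib.helper23
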