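import Cfsg.Agent.Lib.helper23.GalBound
import Cfsg.Agent.Lib.helper23.CharMod
import Cfsg.Agent.Lib.helper24.CharReg

set_option autoImplicit false

namespace Cfsg.Agent.Lib.helper23

open Cfsg Cfsg.Agent.Lib.helper24 Polynomial

universe u v

section powersums

variable {G : Type u} [Group G] [Finite G] {V : Type v} [AddCommGroup V] [Module ℂ V]
  [FiniteDimensional ℂ V]

theorem genrep_power_sums (ρ : Representation ℂ G V) (g : G) :
    ∃ R : Multiset ℂ, (∀ μ ∈ R, μ ^ orderOf g = 1) ∧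
      ∀ k : ℕ, ρ.character (g ^ k) = (R.map (fun μ => μ ^ k)).sum := by
  obtain ⟨l, hl⟩ := exists_cyclic_list ρ g
  refine ⟨((l.map (fun ψ : IrrCharacter (Subgroup.zpowers g) =>
    ψ.1 ⟨g, Subgroup.mem_zpowers g⟩) : List ℂ) : Multiset ℂ), ?_, ?_⟩
  · intro μ hμ
    rw [Multiset.mem_coe, List.mem_map] at hμ
    obtain ⟨ψ, _, rfl⟩ := hμ
    have h1 := irr_pow_orderOf_of_comm ψ ⟨g, Subgroup.mem_zpowers g⟩
    rwa [Subgroup.orderOf_mk] at h1
  · intro k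
    have h := hl (⟨g, Subgroup.mem_zpowers g⟩ ^ k)
    simp only [Subgroup.coe_pow] at h
    rw [h, Multiset.map_coe, Multiset.sum_coe, List.map_map]
    congr 1
    apply List.map_congr_left
    intro ψ _
    exact map_pow (irrHomOfComm ψ) ⟨g, Subgroup.mem_zpowers g⟩ k

end powersums

section cyclo

theorem exp_mem_algClosure (N : ℕ) (hN : N ≠ 0) :
    Complex.exp (2 * Real.pi * Complex.I / N) ∈ algebraicClosure ℚ ℂ := by
  have hζ : IsPrimitiveRoot (Complex.exp (2 * Real.pi * Complex.I / N)) N :=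
    Complex.isPrimitiveRoot_exp N hN
  have hint : IsIntegral ℚ (Complex.exp (2 * Real.pi * Complex.I / N)) := by
    refine IsIntegral.of_pow (n := N) (Nat.pos_of_ne_zero hN) ?_
    rw [hζ.pow_eq_one]
    exact isIntegral_one
  exact (mem_algebraicClosure_iff).mpr hint.isAlgebraic

theorem algHom_root_of_unity_pow (N : ℕ) (hN : N ≠ 0) (φ : algebraicClosure ℚ ℂ →ₐ[ℚ] ℂ) :
    ∃ m : ℕ, m.Coprime N ∧
      ∀ μ : algebraicClosure ℚ ℂ, (μ : ℂ) ^ N = 1 → φ μ = (μ : ℂ) ^ m := by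
  have : NeZero N := ⟨hN⟩
  set ζ : ℂ := Complex.exp (2 * Real.pi * Complex.I / N) with hζdef
  have hζ : IsPrimitiveRoot ζ N := Complex.isPrimitiveRoot_exp N hN
  have hζK : ζ ∈ algebraicClosure ℚ ℂ := exp_mem_algClosure N hN
  have hζ' : IsPrimitiveRoot (⟨ζ, hζK⟩ : algebraicClosure ℚ ℂ) N :=
    IsPrimitiveRoot.of_map_of_injective (f := algebraMap (algebraicClosure ℚ ℂ) ℂ) hζ
      (algebraMap (algebraicClosure ℚ ℂ) ℂ).injective
  have hφζ : IsPrimitiveRoot (φ ⟨ζ, hζK⟩) N := hζ'.map_of_injective φ.toRingHom.injective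
  obtain ⟨m, hm, hmeq⟩ := hζ.eq_pow_of_pow_eq_one hφζ.pow_eq_one
  have hcop : m.Coprime N := by
    rw [← hζ.pow_iff_coprime (Nat.pos_of_ne_zero hN) m, hmeq]
    exact hφζ
  refine ⟨m, hcop, ?_⟩
  intro μ hμ
  obtain ⟨j, hj, hjeq⟩ := hζ.eq_pow_of_pow_eq_one hμ
  have hμ' : μ = (⟨ζ, hζK⟩ : algebraicClosure ℚ ℂ) ^ j := by
    apply Subtype.ext
    push_cast
    exact hjeq.symm
  rw [hμ', map_pow, ← hmeq]
  push_cast
  rw [← pow_mul, ← pow_mul, mul_comm]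

theorem exists_algHom_root_of_unity_pow (N : ℕ) (hN : N ≠ 0) (m : ℕ) (hm : m.Coprime N) :
    ∃ φ : algebraicClosure ℚ ℂ →ₐ[ℚ] ℂ,
      ∀ μ : algebraicClosure ℚ ℂ, (μ : ℂ) ^ N = 1 → φ μ = (μ : ℂ) ^ m := by
  have : NeZero N := ⟨hN⟩
  set ζ : ℂ := Complex.exp (2 * Real.pi * Complex.I / N) with hζdef
  have hζ : IsPrimitiveRoot ζ N := Complex.isPrimitiveRoot_exp N hN
  have hζK : ζ ∈ algebraicClosure ℚ ℂ := exp_mem_algClosure N hN
  have hint : IsIntegral ℤ ζ := hζ.isIntegral (Nat.pos_of_ne_zero hN)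
  have hmin : minpoly ℤ ζ = minpoly ℤ (ζ ^ m) := hζ.minpoly_eq_pow_coprime hm
  have hβ : Polynomial.aeval (ζ ^ m)
      (minpoly ℚ ((⟨ζ, hζK⟩ : algebraicClosure ℚ ℂ) : ℂ)) = 0 := by
    change Polynomial.aeval (ζ ^ m) (minpoly ℚ ζ) = 0
    rw [minpoly.isIntegrallyClosed_eq_field_fractions' ℚ hint, Polynomial.aeval_map_algebraMap,
      hmin]
    exact minpoly.aeval ℤ _
  obtain ⟨φ, hφ⟩ := exists_algHom_of_root ⟨ζ, hζK⟩ (ζ ^ m) hβ
  refine ⟨φ, fun μ hμ => ?_⟩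
  obtain ⟨j, -, hjeq⟩ := hζ.eq_pow_of_pow_eq_one hμ
  have hμ' : μ = (⟨ζ, hζK⟩ : algebraicClosure ℚ ℂ) ^ j := by
    apply Subtype.ext
    push_cast
    exact hjeq.symm
  rw [hμ', map_pow, hφ]
  push_cast
  rw [← pow_mul, ← pow_mul, mul_comm]

theorem int_of_fixed (x : algebraicClosure ℚ ℂ) (hint : IsIntegral ℤ (x : ℂ))
    (hfix : ∀ φ : algebraicClosure ℚ ℂ →ₐ[ℚ] ℂ, φ x = (x : ℂ)) : ∃ z : ℤ, (x : ℂ) = (z : ℂ) := by
  have hintQ : IsIntegral ℚ (x : ℂ) := hint.tower_top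
  set p := minpoly ℚ (x : ℂ) with hp
  have hp0 : p ≠ 0 := minpoly.ne_zero hintQ
  have hsplit : (p.map (algebraMap ℚ ℂ)).Splits := IsAlgClosed.splits _
  have hsep : p.Separable := (minpoly.irreducible hintQ).separable
  have hnodup : (p.aroots ℂ).Nodup := (Polynomial.nodup_aroots_iff_of_splits hp0 hsplit).mpr hsep
  have hroots : ∀ β ∈ p.aroots ℂ, β = (x : ℂ) := by
    intro β hβ
    have h1 : Polynomial.aeval β p = 0 := (Polynomial.mem_aroots.mp hβ).2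
    obtain ⟨φ, hφ⟩ := exists_algHom_of_root x β h1
    rw [← hφ, hfix φ]
  have hcard : Multiset.card (p.aroots ℂ) ≤ 1 := by
    have hsub : p.aroots ℂ ⊆ {(x : ℂ)} := by
      intro β hβ
      rw [Multiset.mem_singleton]
      exact hroots β hβ
    have hle := (Multiset.le_iff_subset hnodup).mpr hsub
    have := Multiset.card_le_card hle
    simpa using this
  have hdeg : p.natDegree = Multiset.card (p.aroots ℂ) := by
    have h1 := Polynomial.splits_iff_card_roots.mp hsplit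
    rw [Polynomial.natDegree_map] at h1
    exact h1.symm
  have hdeg1 : p.degree = 1 := by
    have hpos : 0 < p.natDegree := minpoly.natDegree_pos hintQ
    have h1 : p.natDegree = 1 := by omega
    rw [Polynomial.degree_eq_natDegree hp0, h1]
    rfl
  obtain ⟨q, hq⟩ := minpoly.mem_range_of_degree_eq_one ℚ (x : ℂ) hdeg1
  have hq' : ((q : ℚ) : ℂ) = (x : ℂ) := hq
  rw [← hq'] at hint
  obtain ⟨z, hz⟩ := rat_of_isIntegral_complex hint
  refine ⟨z, ?_⟩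
  rw [← hq', ← hz]
  push_cast
  rfl

end cyclo

end Cfsg.Agent.Lib.helper23
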