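import Mathlib
import Cfsg.Agent.Lib.helper23.BPMaxChar

set_option autoImplicit false

/-!
# Maximal Brauer pairs: characterization by a defect zero character and the stabilizer
-/

namespace Cfsg.Agent.Lib.helper23

open Cfsg Cfsg.Agent.Lib.helper24 Cfsg.Agent.Lib.helper5
open scoped ComplexConjugate

universe u

section fin

variable {G : Type u} [Group G] [Fintype G]
variable {M : Ideal AlgInt} {p : ℕ} [Fact p.Prime]

theorem maximal_pair_iff (hM : IsPModular p M) (Q : Subgroup G)
    (e : Set (IrrCharacter (Subgroup.centralizer (Q : Set G)))) (he : IsBrauerPair p M Q e) :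
    (∃ B : Set (IrrCharacter G), IsMaximalBrauerPair p M B Q e) ↔
      ∃ θ ∈ e, (∀ z : Subgroup.centralizer (Q : Set G), (z : G) ∈ Q →
          (θ : Subgroup.centralizer (Q : Set G) → ℂ) z
            = (θ : Subgroup.centralizer (Q : Set G) → ℂ) 1) ∧
        (charDegree (θ : Subgroup.centralizer (Q : Set G) → ℂ)).factorization p
          + (Nat.card ↥(Q ⊓ Subgroup.centralizer (Q : Set G))).factorization p
            = (Nat.card (Subgroup.centralizer (Q : Set G))).factorization p ∧
        (∀ g : G, g ∈ Subgroup.normalizer (Q : Set G) →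
          StabilizesBlock (Subgroup.centralizer (Q : Set G)) e g →
          (∃ k : ℕ, orderOf g = p ^ k) → g ∈ Q ⊔ Subgroup.centralizer (Q : Set G)) := by
  classical
  haveI : Fintype (Subgroup.centralizer (Q : Set G)) := Fintype.ofFinite _
  have hMp := isPModular_isPrime hM
  have hZp : IsPGroup p ((Q ⊓ Subgroup.centralizer (Q : Set G)).subgroupOf
      (Subgroup.centralizer (Q : Set G))) :=
    IsPGroup.comap_subtype (he.1.to_le inf_le_left)
  have hZc : (Q ⊓ Subgroup.centralizer (Q : Set G)).subgroupOf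
      (Subgroup.centralizer (Q : Set G)) ≤ Subgroup.center (Subgroup.centralizer (Q : Set G)) := by
    intro z hz
    rw [Subgroup.mem_center_iff]
    intro c
    apply Subtype.ext
    have hzQ : (z : G) ∈ Q := (Subgroup.mem_subgroupOf.mp hz).1
    exact (Subgroup.mem_centralizer_iff.mp c.2 (z : G) hzQ).symm
  constructor
  · rintro ⟨B, hmax⟩
    have hT := fun y => mem_stabSub_iff hM Q e he y
    obtain ⟨hQT, hCT, hTN, hTst⟩ := stab_facts Q e (stabSub ⟨Q, e⟩) hT
    obtain ⟨F, hF, hFf⟩ := exists_block_of_stable hM Q (stabSub ⟨Q, e⟩) he.1 hQT hCT hTN e he.2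
      hTst
    have hdef := maximal_stab_defectGroup hM B Q e hmax (stabSub ⟨Q, e⟩) hT F hF hFf
    have hidx := index_defect_sup_centralizer hM Q (stabSub ⟨Q, e⟩) hCT hTN e he.2 hTst F hF hFf
      _ hdef
    haveI hn1 : (Q.subgroupOf (stabSub (⟨Q, e⟩ : BrauerPairIdx G))).Normal :=
      (Subgroup.normal_subgroupOf_iff_le_normalizer hQT).mpr hTN
    haveI hn2 : ((Subgroup.centralizer (Q : Set G)).subgroupOf
        (stabSub (⟨Q, e⟩ : BrauerPairIdx G))).Normal :=
      (Subgroup.normal_subgroupOf_iff_le_normalizer hCT).mpr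
        (hTN.trans (normalizer_le_normalizer_centralizer Q))
    have hthird : ∀ g : G, g ∈ Subgroup.normalizer (Q : Set G) →
        StabilizesBlock (Subgroup.centralizer (Q : Set G)) e g →
        (∃ k : ℕ, orderOf g = p ^ k) → g ∈ Q ⊔ Subgroup.centralizer (Q : Set G) := by
      rintro g hgN hgst ⟨k, hk⟩
      have hgT : g ∈ stabSub (⟨Q, e⟩ : BrauerPairIdx G) := (hT g).mpr ⟨hgN, hgst⟩
      have hmem := mem_of_normal_of_orderOf_pow
        (Q.subgroupOf (stabSub (⟨Q, e⟩ : BrauerPairIdx G))
          ⊔ (Subgroup.centralizer (Q : Set G)).subgroupOf (stabSub (⟨Q, e⟩ : BrauerPairIdx G)))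
        hidx ⟨g, hgT⟩ k (by rw [Subgroup.orderOf_mk]; exact hk)
      have hle : Q.subgroupOf (stabSub (⟨Q, e⟩ : BrauerPairIdx G))
          ⊔ (Subgroup.centralizer (Q : Set G)).subgroupOf (stabSub (⟨Q, e⟩ : BrauerPairIdx G))
          ≤ (Q ⊔ Subgroup.centralizer (Q : Set G)).subgroupOf
            (stabSub (⟨Q, e⟩ : BrauerPairIdx G)) :=
        sup_le (Subgroup.comap_mono le_sup_left) (Subgroup.comap_mono le_sup_right)
      exact Subgroup.mem_subgroupOf.mp (hle hmem)
    have hZdef : IsDefectGroup p M e ((Q ⊓ Subgroup.centralizer (Q : Set G)).subgroupOf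
        (Subgroup.centralizer (Q : Set G))) := by
      obtain ⟨x, hx, hAx⟩ := exists_conj_centralizer_defectGroup hM B Q Q e e hmax he.2
        Relation.ReflTransGen.refl
      have hQx : Q.map (MulAut.conj x).toMonoidHom = Q :=
        Subgroup.eq_of_le_of_card_ge (subpairLE_le hx) (by rw [card_map_conj])
      have hidx' : conjIdx x ⟨Q, e⟩ = ⟨Q, e⟩ :=
        idx_eq_of_le_of_fst_eq hM Q e he _ _ hx Relation.ReflTransGen.refl hQx
      have key : ∀ a : BrauerPairIdx G, a = ⟨Q, e⟩ →
          IsDefectGroup p M a.2 ((Q ⊓ Subgroup.centralizer (a.1 : Set G)).subgroupOf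
            (Subgroup.centralizer (a.1 : Set G))) →
          IsDefectGroup p M e ((Q ⊓ Subgroup.centralizer (Q : Set G)).subgroupOf
            (Subgroup.centralizer (Q : Set G))) := by
        rintro a rfl h
        exact h
      exact key _ hidx' hAx
    obtain ⟨χ₀, hχ₀⟩ := he.2
    rw [hχ₀] at hZdef
    obtain ⟨θ, hθ, htriv, hdeg⟩ := exists_height_zero_trivial_on_central hM χ₀ _ hZp hZc hZdef
    refine ⟨θ, by rw [hχ₀]; exact hθ, ?_, ?_, hthird⟩
    · intro z hz
      exact htriv z (Subgroup.mem_subgroupOf.mpr ⟨hz, z.2⟩)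
    · rw [card_subgroupOf_inf] at hdeg
      exact hdeg
  · rintro ⟨θ, hθ, -, hdeg, hpel⟩
    have hZdef : IsDefectGroup p M e ((Q ⊓ Subgroup.centralizer (Q : Set G)).subgroupOf
        (Subgroup.centralizer (Q : Set G))) := by
      obtain ⟨χ₀, hχ₀⟩ := he.2
      have he' : e = blockOf M θ.1 := by
        rw [hχ₀] at hθ ⊢
        exact (blockOf_eq_of_mem hMp hθ).symm
      rw [he']
      refine (laradji_central p M hM _ hZp hZc θ ?_).1
      have h1 := Subgroup.card_mul_index ((Q ⊓ Subgroup.centralizer (Q : Set G)).subgroupOf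
        (Subgroup.centralizer (Q : Set G)))
      have h2 : (Nat.card (Subgroup.centralizer (Q : Set G))).factorization p
          = (Nat.card ((Q ⊓ Subgroup.centralizer (Q : Set G)).subgroupOf
              (Subgroup.centralizer (Q : Set G)))).factorization p
            + ((Q ⊓ Subgroup.centralizer (Q : Set G)).subgroupOf
              (Subgroup.centralizer (Q : Set G))).index.factorization p := by
        rw [← h1, Nat.factorization_mul Nat.card_pos.ne' Subgroup.index_ne_zero_of_finite]
        rfl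
      rw [card_subgroupOf_inf] at h2
      omega
    obtain ⟨B, hB, -⟩ := brauerPair_unique_block' p M hM Q e he
    refine ⟨B, hB, ?_⟩
    intro R g hRg hle
    by_contra hne
    have hQR : Q ≤ R := subpairLE_le hle
    have hRp : IsPGroup p R := hRg.1.1
    obtain ⟨R₀, hQR₀, hR₀R, hR₀N, hlt⟩ := exists_normalizer_step hRp hQR (fun h => hne h.symm)
    obtain ⟨gS, hnS, hSle⟩ := exists_normalSubpair_normalizer hM R Q g e hRg.1 hle
    have hSp : IsPGroup p (R ⊓ Subgroup.normalizer (Q : Set G) : Subgroup G) :=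
      hRp.to_le inf_le_left
    obtain ⟨D, hD, hAD⟩ := centralizer_le_defectGroup hM (R ⊓ Subgroup.normalizer (Q : Set G)) Q
      gS e hnS.2.1 he.2 (Relation.ReflTransGen.single hnS)
    have hcardD := defectGroup_card_eq hM e he.2 D _ hD hZdef
    have hZle : (Q ⊓ Subgroup.centralizer (Q : Set G)).subgroupOf
        (Subgroup.centralizer (Q : Set G))
        ≤ ((R ⊓ Subgroup.normalizer (Q : Set G)) ⊓ Subgroup.centralizer (Q : Set G)).subgroupOf
          (Subgroup.centralizer (Q : Set G)) := by
      intro z hz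
      rw [Subgroup.mem_subgroupOf] at hz ⊢
      exact ⟨⟨hQR hz.1, Subgroup.le_normalizer hz.1⟩, hz.2⟩
    have hZD := Subgroup.eq_of_le_of_card_ge (hZle.trans hAD) hcardD.le
    have hSC : ∀ u ∈ R ⊓ Subgroup.normalizer (Q : Set G),
        u ∈ Subgroup.centralizer (Q : Set G) → u ∈ Q := by
      intro u hu huC
      have h1 : (⟨u, huC⟩ : Subgroup.centralizer (Q : Set G))
          ∈ ((R ⊓ Subgroup.normalizer (Q : Set G)) ⊓ Subgroup.centralizer (Q : Set G)).subgroupOf
            (Subgroup.centralizer (Q : Set G)) := Subgroup.mem_subgroupOf.mpr ⟨hu, huC⟩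
      have h2 := hAD h1
      rw [← hZD] at h2
      exact (Subgroup.mem_subgroupOf.mp h2).1
    have hSQ : R ⊓ Subgroup.normalizer (Q : Set G) ≤ Q := by
      intro u hu
      have hu' : u ∈ Q ⊔ Subgroup.centralizer (Q : Set G) := by
        apply hpel u hu.2 (hnS.2.2.2.2.1 u hu)
        obtain ⟨k, hk⟩ := (IsPGroup.iff_orderOf.mp hSp) ⟨u, hu⟩
        exact ⟨k, by rw [← hk, Subgroup.orderOf_mk]⟩
      obtain ⟨q, hq, c, hc, rfl⟩ := exists_mul_of_mem_sup_centralizer Q u hu'
      have hcS : c ∈ R ⊓ Subgroup.normalizer (Q : Set G) := by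
        have : c = q⁻¹ * (q * c) := by group
        rw [this]
        exact mul_mem (inv_mem (le_inf hQR Subgroup.le_normalizer hq)) hu
      exact mul_mem hq (hSC c hcS hc)
    have hle2 : Nat.card R₀ ≤ Nat.card Q :=
      Subgroup.card_le_of_le ((le_inf hR₀R hR₀N).trans hSQ)
    omega

end fin

end Cfsg.Agent.Lib.helper23
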