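import Mathlib
import Cfsg.Agent.Lib.helper23.PTruncHeight

set_option autoImplicit false

namespace Cfsg.Agent.Lib.helper23

open Cfsg Cfsg.Agent.Lib.helper24 Cfsg.Agent.Lib.helper5
open scoped ComplexConjugate

universe u

variable {G : Type u} [Group G] [Fintype G] [Fintype (IrrCharacter G)]

theorem coord_regConj_degree (p : ℕ) [hp : Fact p.Prime] (χ ξ : IrrCharacter G) (n : ℤ)
    (hn : classInner (ptrunc p χ.1) ξ.1 = n) :
    coord (regConj p ξ.1) χ * (charDegree χ.1 : ℂ)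
      = ((Nat.card G / p ^ (Nat.card G).factorization p : ℕ) : ℂ) * n := by
  have h := coord_regConj p χ ξ
  rw [hn, ← charDegree_cast χ] at h
  have hG : (Nat.card G : ℂ) = ((p ^ (Nat.card G).factorization p : ℕ) : ℂ)
      * ((Nat.card G / p ^ (Nat.card G).factorization p : ℕ) : ℂ) := by
    exact_mod_cast (Nat.ordProj_mul_ordCompl_eq_self (Nat.card G) p).symm
  have hpa : ((p ^ (Nat.card G).factorization p : ℕ) : ℂ) ≠ 0 := by
    exact_mod_cast (pow_pos hp.out.pos _).ne'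
  apply mul_right_cancel₀ hpa
  rw [h]
  nth_rewrite 1 [hG]
  ring

theorem height_zero_congr {p : ℕ} [hp : Fact p.Prime] {M : Ideal AlgInt} (hM : IsPModular p M)
    (χ ξ : IrrCharacter G) (hsb : SameBlock M ξ.1 χ.1) (b₀ : ℕ)
    (hχ : b₀ ≤ (charDegree χ.1).factorization p) (hξ : b₀ ≤ (charDegree ξ.1).factorization p)
    (nξ nχ : ℤ) (hnξ : classInner (ptrunc p χ.1) ξ.1 = nξ)
    (hnχ : classInner (ptrunc p χ.1) χ.1 = nχ) :
    (p : ℤ) ^ (2 * b₀ + 1) ∣ nξ * (charDegree χ.1 : ℤ) - nχ * (charDegree ξ.1 : ℤ) := by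
  have hMp := isPModular_isPrime hM
  have hp0 : (p : ℂ) ≠ 0 := by exact_mod_cast hp.out.ne_zero
  have hpb : (p : ℂ) ^ b₀ ≠ 0 := pow_ne_zero _ hp0
  obtain ⟨m', hm'⟩ : ∃ m' : ℕ, m' = Nat.card G / p ^ (Nat.card G).factorization p := ⟨_, rfl⟩
  have hpm : ¬ p ∣ m' := by
    rw [hm']; exact Nat.not_dvd_ordCompl hp.out Nat.card_pos.ne'
  have hnξ' : classInner (ptrunc p ξ.1) χ.1 = nξ := by rw [inner_ptrunc_symm, hnξ]
  have E1 := coord_regConj_degree p ξ χ nξ hnξ'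
  have E2 := coord_regConj_degree p χ χ nχ hnχ
  rw [← hm'] at E1 E2
  have hdξ : p ^ b₀ ∣ charDegree ξ.1 :=
    (pow_dvd_pow p hξ).trans (Nat.ordProj_dvd _ p)
  have hdχ : p ^ b₀ ∣ charDegree χ.1 :=
    (pow_dvd_pow p hχ).trans (Nat.ordProj_dvd _ p)
  obtain ⟨δξ, hδξ⟩ := hdξ
  obtain ⟨δχ, hδχ⟩ := hdχ
  have hnξd : (p : ℤ) ^ b₀ ∣ nξ :=
    (pow_dvd_pow (p : ℤ) hχ).trans (pow_dvd_inner_ptrunc p χ ξ nξ hnξ)
  have hnχd : (p : ℤ) ^ b₀ ∣ nχ :=
    (pow_dvd_pow (p : ℤ) hχ).trans (pow_dvd_inner_ptrunc p χ χ nχ hnχ)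
  obtain ⟨n'ξ, rfl⟩ := hnξd
  obtain ⟨n'χ, rfl⟩ := hnχd
  rw [hδξ] at E1
  rw [hδχ] at E2
  have E1' : coord (regConj p χ.1) ξ * (δξ : ℂ) = (m' : ℂ) * n'ξ := by
    apply mul_left_cancel₀ hpb
    push_cast at E1
    linear_combination E1
  have E2' : coord (regConj p χ.1) χ * (δχ : ℂ) = (m' : ℂ) * n'χ := by
    apply mul_left_cancel₀ hpb
    push_cast at E2
    linear_combination E2
  have hsub := memLocalIdeal_coord_sub hMp (coord_mem_osimaRing hMp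
    (regConj_isClassFunction p (isClassFunction_irr χ))
    (regConj_memLocalRing hMp.ne_top p (isCharacter_irr χ))) hsb
  have h1 := memLocalIdeal_mul_right hMp hsub (memLocalRing_natCast hMp.ne_top (δξ * δχ))
  have h2 : (coord (regConj p χ.1) ξ - coord (regConj p χ.1) χ) * ((δξ * δχ : ℕ) : ℂ)
      = (((m' : ℤ) * (n'ξ * (δχ : ℤ) - n'χ * (δξ : ℤ)) : ℤ) : ℂ) := by
    push_cast
    linear_combination (δχ : ℂ) * E1' - (δξ : ℂ) * E2'
  rw [h2, memLocalIdeal_intCast_iff hM] at h1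
  have h3 : (p : ℤ) ∣ n'ξ * (δχ : ℤ) - n'χ * (δξ : ℤ) := by
    rcases (Nat.prime_iff_prime_int.mp hp.out).dvd_or_dvd h1 with h | h
    · exact absurd (Int.natCast_dvd_natCast.mp h) hpm
    · exact h
  obtain ⟨w, hw⟩ := h3
  refine ⟨w, ?_⟩
  rw [hδξ, hδχ]
  push_cast
  have e : (p : ℤ) ^ b₀ * n'ξ * ((p : ℤ) ^ b₀ * (δχ : ℤ)) - (p : ℤ) ^ b₀ * n'χ * ((p : ℤ) ^ b₀ * (δξ : ℤ))
      = (p : ℤ) ^ (2 * b₀) * (n'ξ * (δχ : ℤ) - n'χ * (δξ : ℤ)) := by ring
  rw [e, hw]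
  ring

open Classical in
theorem factorization_sum_sq {p : ℕ} [hp : Fact p.Prime] {M : Ideal AlgInt}
    (hM : IsPModular p M) (B : Set (IrrCharacter G)) (hB : IsPBlock M B) :
    (∑ χ : IrrCharacter G, if χ ∈ B then charDegree χ.1 ^ 2 else 0).factorization p
      = 2 * (Nat.card G).factorization p - blockDefect p B := by
  obtain ⟨χ₀, rfl⟩ := hB
  have hMp := isPModular_isPrime hM
  have hp0 : (p : ℂ) ≠ 0 := by exact_mod_cast hp.out.ne_zero
  have hpz : (p : ℤ) ≠ 0 := by exact_mod_cast hp.out.ne_zero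
  have hne : ((fun χ : IrrCharacter G => (charDegree χ.1).factorization p) '' blockOf M χ₀.1).Nonempty :=
    ⟨_, ⟨χ₀, mem_blockOf_self hMp.ne_top χ₀, rfl⟩⟩
  obtain ⟨χ, hχB, hχb⟩ := Nat.sInf_mem hne
  obtain ⟨b₀, hb₀⟩ : ∃ b₀ : ℕ, b₀ = sInf ((fun χ : IrrCharacter G =>
      (charDegree χ.1).factorization p) '' blockOf M χ₀.1) := ⟨_, rfl⟩
  have hχb' : (charDegree χ.1).factorization p = b₀ := by rw [hb₀]; exact hχb
  have hmin : ∀ ξ ∈ blockOf M χ₀.1, b₀ ≤ (charDegree ξ.1).factorization p := by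
    intro ξ hξ
    rw [hb₀]
    exact Nat.sInf_le ⟨ξ, hξ, rfl⟩
  have hht : blockHeight p (blockOf M χ₀.1) χ.1 = 0 := by
    unfold blockHeight
    rw [← hb₀, hχb']
    exact Nat.sub_self _
  obtain ⟨n₀, hn₀, hn₀ne, hval⟩ :=
    ((height_zero_iff hM (blockOf M χ₀.1) ⟨χ₀, rfl⟩ χ hχB).2.mp hht) χ hχB
  rw [hχb'] at hval
  choose N hN using fun ξ => exists_int_inner_ptrunc p (isCharacter_irr χ) ξ
  have hNzero : ∀ ξ, ξ ∉ blockOf M χ₀.1 → N ξ = 0 := by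
    intro ξ hξ
    have h := inner_ptrunc_eq_zero_of_not_mem hM χ₀ χ ξ hχB hξ
    rw [hN] at h
    exact_mod_cast h
  have hcongr : ∀ ξ, ∃ e : ℤ, ξ ∈ blockOf M χ₀.1 →
      N ξ * (charDegree χ.1 : ℤ) - n₀ * (charDegree ξ.1 : ℤ) = (p : ℤ) ^ (2 * b₀ + 1) * e := by
    intro ξ
    by_cases hξ : ξ ∈ blockOf M χ₀.1
    · obtain ⟨e, he⟩ := height_zero_congr hM χ ξ
        (sameBlock_trans hMp (sameBlock_symm hξ) hχB) b₀ hχb'.ge (hmin ξ hξ) (N ξ) n₀ (hN ξ) hn₀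
      exact ⟨e, fun _ => he⟩
    · exact ⟨0, fun h => absurd h hξ⟩
  choose e he using hcongr
  obtain ⟨φ, hφdef⟩ : ∃ φ : G → ℂ, φ = ∑ ξ : IrrCharacter G,
      ((if ξ ∈ blockOf M χ₀.1 then e ξ else 0 : ℤ) : ℂ) • ξ.1 := ⟨_, rfl⟩
  have hφ : IsGeneralizedCharacter G φ := by
    rw [hφdef]
    exact genChar_int_comb _
  have hkey : ∀ x : G, (p : ℂ) ^ (2 * b₀ + 1) * φ x
      = (charDegree χ.1 : ℂ) * ptrunc p χ.1 x
        - n₀ * ∑ ξ : IrrCharacter G, if ξ ∈ blockOf M χ₀.1 then ξ.1 1 * ξ.1 x else 0 := by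
    intro x
    rw [ptrunc_expansion p χ x, hφdef, Finset.sum_apply, Finset.mul_sum, Finset.mul_sum,
      Finset.mul_sum, ← Finset.sum_sub_distrib]
    apply Finset.sum_congr rfl
    intro ξ _
    rw [hN]
    simp only [Pi.smul_apply, smul_eq_mul]
    by_cases hξ : ξ ∈ blockOf M χ₀.1
    · simp only [if_pos hξ]
      have h1 := he ξ hξ
      have h2 : ((N ξ * (charDegree χ.1 : ℤ) - n₀ * (charDegree ξ.1 : ℤ) : ℤ) : ℂ)
          = (((p : ℤ) ^ (2 * b₀ + 1) * e ξ : ℤ) : ℂ) := by rw [h1]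
      push_cast at h2
      rw [← charDegree_cast ξ]
      linear_combination (-(ξ.1 x)) * h2
    · simp only [if_neg hξ]
      rw [hNzero ξ hξ]
      simp
  have hvan : ∀ x : G, p ∣ orderOf x → φ x = 0 := by
    intro x hx
    have h1 := hkey x
    have h2 : ptrunc p χ.1 x = 0 := by
      unfold ptrunc
      rw [if_pos hx]
    have h3 : (∑ ξ : IrrCharacter G, if ξ ∈ blockOf M χ₀.1 then ξ.1 1 * ξ.1 x else 0) = 0 := by
      have h4 := block_weak_orth hM χ₀ 1 x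
        (by rw [orderOf_one]; exact hp.out.not_dvd_one) hx
      rw [finsum_mem_eq_sum_ite] at h4
      have h5 := congrArg conj h4
      rw [map_sum, map_zero] at h5
      refine Eq.trans (Finset.sum_congr rfl ?_) h5
      intro ξ _
      by_cases hξ : ξ ∈ blockOf M χ₀.1
      · simp only [if_pos hξ]
        rw [map_mul, Complex.conj_conj, ← charDegree_cast ξ, Complex.conj_natCast]
      · simp only [if_neg hξ, map_zero]
    rw [h2, h3, mul_zero, mul_zero, sub_zero] at h1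
    exact (mul_eq_zero.mp h1).resolve_left (pow_ne_zero _ hp0)
  obtain ⟨z, hz⟩ := genChar_sum_sylow p hφ hvan
  obtain ⟨a, ha⟩ : ∃ a : ℕ, a = (Nat.card G).factorization p := ⟨_, rfl⟩
  obtain ⟨S, hS⟩ : ∃ S : ℕ, S = ∑ χ : IrrCharacter G,
      if χ ∈ blockOf M χ₀.1 then charDegree χ.1 ^ 2 else 0 := ⟨_, rfl⟩
  rw [← hS, ← ha]
  rw [← ha] at hz
  have h1 := hkey 1
  have hpt : ptrunc p χ.1 1 = ((p ^ a : ℕ) : ℂ) * (charDegree χ.1 : ℂ) := by
    unfold ptrunc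
    rw [if_neg (by rw [orderOf_one]; exact hp.out.not_dvd_one), ← ha, charDegree_cast]
  have hsum : (∑ ξ : IrrCharacter G, if ξ ∈ blockOf M χ₀.1 then ξ.1 1 * ξ.1 1 else 0)
      = ((S : ℕ) : ℂ) := by
    rw [hS, Nat.cast_sum]
    apply Finset.sum_congr rfl
    intro ξ _
    by_cases hξ : ξ ∈ blockOf M χ₀.1
    · simp only [if_pos hξ]
      rw [← charDegree_cast ξ]
      push_cast
      ring
    · simp only [if_neg hξ, Nat.cast_zero]
  rw [hz, hpt, hsum] at h1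
  have E3 : (p : ℤ) ^ (2 * b₀ + 1) * (z * (p : ℤ) ^ a)
      = (charDegree χ.1 : ℤ) * ((p : ℤ) ^ a * (charDegree χ.1 : ℤ)) - n₀ * (S : ℤ) := by
    have : (((p : ℤ) ^ (2 * b₀ + 1) * (z * (p : ℤ) ^ a) : ℤ) : ℂ)
        = (((charDegree χ.1 : ℤ) * ((p : ℤ) ^ a * (charDegree χ.1 : ℤ)) - n₀ * (S : ℤ) : ℤ) : ℂ) := by
      push_cast
      push_cast at h1
      exact h1
    exact_mod_cast this
  obtain ⟨δ, hδ⟩ : ∃ δ : ℕ, δ = charDegree χ.1 / p ^ (charDegree χ.1).factorization p := ⟨_, rfl⟩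
  have hdχ : charDegree χ.1 = p ^ b₀ * δ := by
    rw [hδ, ← hχb']
    exact (Nat.ordProj_mul_ordCompl_eq_self (charDegree χ.1) p).symm
  have hpδ : ¬ p ∣ δ := by
    rw [hδ]; exact Nat.not_dvd_ordCompl hp.out (charDegree_ne_zero' χ)
  have hn₀d : (p : ℤ) ^ b₀ ∣ n₀ := (padicValInt_dvd_iff b₀ n₀).mpr (Or.inr hval.ge)
  obtain ⟨n', hn'⟩ := hn₀d
  have hpn' : ¬ (p : ℤ) ∣ n' := by
    intro h
    have h2 : (p : ℤ) ^ (b₀ + 1) ∣ n₀ := by
      rw [hn', pow_succ]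
      exact mul_dvd_mul_left _ h
    rcases (padicValInt_dvd_iff (b₀ + 1) n₀).mp h2 with h3 | h3
    · exact hn₀ne h3
    · omega
  rw [hdχ, hn'] at E3
  have E4 : n' * (S : ℤ) = (p : ℤ) ^ (a + b₀) * ((δ : ℤ) ^ 2 - (p : ℤ) * z) := by
    have hpb : (p : ℤ) ^ b₀ ≠ 0 := pow_ne_zero _ hpz
    apply mul_left_cancel₀ hpb
    push_cast at E3
    linear_combination E3
  have hw : ¬ (p : ℤ) ∣ ((δ : ℤ) ^ 2 - (p : ℤ) * z) := by
    intro h
    have h2 : (p : ℤ) ∣ (δ : ℤ) ^ 2 := by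
      have := dvd_add h (dvd_mul_right (p : ℤ) z)
      rwa [sub_add_cancel] at this
    have h3 := (Nat.prime_iff_prime_int.mp hp.out).dvd_of_dvd_pow h2
    exact hpδ (Int.natCast_dvd_natCast.mp h3)
  have hcop : IsCoprime ((p : ℤ) ^ (a + b₀)) n' :=
    IsCoprime.pow_left ((Nat.prime_iff_prime_int.mp hp.out).coprime_iff_not_dvd.mpr hpn')
  have hdS : (p : ℤ) ^ (a + b₀) ∣ (S : ℤ) :=
    hcop.dvd_of_dvd_mul_left ⟨_, E4⟩
  have hdS' : p ^ (a + b₀) ∣ S := by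
    have : ((p ^ (a + b₀) : ℕ) : ℤ) ∣ (S : ℤ) := by
      push_cast
      exact hdS
    exact Int.natCast_dvd_natCast.mp this
  obtain ⟨s, hs⟩ := hdS'
  have hps : ¬ p ∣ s := by
    intro h
    apply hw
    have h2 : n' * (s : ℤ) = (δ : ℤ) ^ 2 - (p : ℤ) * z := by
      have hpab : (p : ℤ) ^ (a + b₀) ≠ 0 := pow_ne_zero _ hpz
      apply mul_left_cancel₀ hpab
      rw [← E4, hs]
      push_cast
      ring
    rw [← h2]
    exact Dvd.dvd.mul_left (Int.natCast_dvd_natCast.mpr h) _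
  have hS0 : S ≠ 0 := by
    rw [hS]
    apply ne_of_gt
    apply Finset.sum_pos'
    · intro ξ _
      positivity
    · refine ⟨χ, Finset.mem_univ _, ?_⟩
      rw [if_pos hχB]
      exact pow_pos (Nat.pos_of_ne_zero (charDegree_ne_zero' χ)) 2
  have hs0 : s ≠ 0 := by
    rintro rfl
    exact hS0 (by rw [hs, mul_zero])
  have hfac : S.factorization p = a + b₀ := by
    rw [hs, Nat.factorization_mul (pow_ne_zero _ hp.out.ne_zero) hs0, Nat.factorization_pow,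
      Finsupp.add_apply, Finsupp.smul_apply, hp.out.factorization_self,
      Nat.factorization_eq_zero_of_not_dvd hps]
    simp
  rw [hfac]
  unfold blockDefect
  rw [← hb₀, ← ha]
  have hba : b₀ ≤ a := by
    rw [← hχb', ha]
    exact factorization_charDegree_le p χ
  omega

end Cfsg.Agent.Lib.helper23

namespace Cfsg.Agent.Lib.helper23

open Cfsg

universe u

theorem factorization_finsum_sq {G : Type u} [Group G] [Finite G] (p : ℕ) [Fact p.Prime]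
    (M : Ideal AlgInt) (hM : IsPModular p M) (B : Set (IrrCharacter G)) (hB : IsPBlock M B) :
    (∑ᶠ χ ∈ B, charDegree (χ : G → ℂ) ^ 2).factorization p
      = 2 * (Nat.card G).factorization p - blockDefect p B := by
  classical
  haveI := Fintype.ofFinite G
  haveI := Fintype.ofFinite (IrrCharacter G)
  have h := factorization_sum_sq hM B hB
  have e : (∑ᶠ χ ∈ B, charDegree (χ : G → ℂ) ^ 2)
      = ∑ χ : IrrCharacter G, if χ ∈ B then charDegree χ.1 ^ 2 else 0 := by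
    rw [finsum_mem_def, finsum_eq_sum_of_fintype]
    apply Finset.sum_congr rfl
    intro χ _
    by_cases hχ : χ ∈ B
    · simp [hχ]
    · simp [hχ]
  rw [e]
  exact h

end Cfsg.Agent.Lib.helper23
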