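import Cfsg.Agent.Lib.helper5.BlockOrth
import Cfsg.Agent.Lib.helper23.DefectBound
import Cfsg.Agent.Lib.helper23.CharMod

set_option autoImplicit false

namespace Cfsg.Agent.Lib.helper23

open Cfsg Cfsg.Agent.Lib.helper24 Cfsg.Agent.Lib.helper5
open scoped ComplexConjugate

universe u v

theorem irr_vanish_of_defect_zero {G : Type u} [Group G] [Finite G] (χ : IrrCharacter G)
    (p n : ℕ) (hp : p.Prime) (hn' : ¬ p ^ (n + 1) ∣ Nat.card G) (d : ℕ) (hd : χ.1 1 = d)
    (hdeg : p ^ n ∣ d) (hdvd : d ∣ Nat.card G) (x : G) (hx : p ∣ orderOf x) : χ.1 x = 0 := by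
  classical
  have := Fintype.ofFinite G
  have := Fintype.ofFinite (IrrCharacter G)
  obtain ⟨M, hM⟩ := exists_isPModular p hp
  have hMp := isPModular_isPrime hM
  obtain ⟨m, hm⟩ := hdvd
  have hd0 : d ≠ 0 := by
    intro h0
    have := irr_one_ne_zero χ
    rw [hd, h0] at this
    simp at this
  have hpm : ¬ p ∣ m := by
    intro hpm
    apply hn'
    rw [hm, pow_succ]
    exact Nat.mul_dvd_mul hdeg hpm
  have hdC : (d : ℂ) ≠ 0 := Nat.cast_ne_zero.mpr hd0
  have hm0 : m ≠ 0 := by
    intro h0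
    have : Nat.card G = 0 := by rw [hm, h0, mul_zero]
    exact Nat.card_pos.ne' this
  have hmC : (m : ℂ) ≠ 0 := Nat.cast_ne_zero.mpr hm0
  set v : IrrCharacter G → ℂ := fun ψ => if ψ = χ then 1 else 0 with hv
  have hvv : v * v = v := by
    funext ψ
    simp only [Pi.mul_apply, hv]
    split_ifs <;> simp
  have hcoef : ∀ g : G, coef v g = (m : ℂ)⁻¹ * conj (χ.1 g) := by
    intro g
    unfold coef
    rw [Finset.sum_eq_single χ]
    · simp only [hv, if_true, one_mul]
      rw [hd, hm]
      push_cast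
      field_simp
    · intro ψ _ hψ
      simp [hv, hψ]
    · intro h
      exact absurd (Finset.mem_univ χ) h
  have hmem : v ∈ osimaRing G M hMp := by
    intro g
    rw [hcoef]
    apply memLocalRing_mul hMp (memLocalRing_inv_natCast hM m hpm)
    apply memLocalRing_of_isIntegral hMp.ne_top
    have hint : IsIntegral ℤ (χ.1 g) := isCharacter_isIntegral (isIrrCharacter_isCharacter χ.2) g
    exact hint.map (Complex.conjAe.toAlgHom.restrictScalars ℤ)
  have h := weak_orth hM hmem hvv 1 x (by simp [hp.one_lt.ne'] ) hx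
  rw [Finset.sum_eq_single χ] at h
  · simp only [hv, if_true, one_mul] at h
    rcases mul_eq_zero.mp h with h1 | h1
    · exact absurd h1 (irr_one_ne_zero χ)
    · simpa using h1
  · intro ψ _ hψ
    simp [hv, hψ]
  · intro h
    exact absurd (Finset.mem_univ χ) h

theorem genrep_vanish_of_defect_zero {G : Type u} [Group G] [Finite G] {V : Type v}
    [AddCommGroup V] [Module ℂ V] [FiniteDimensional ℂ V] (ρ : Representation ℂ G V)
    [ρ.IsIrreducible] (p n : ℕ) (hp : p.Prime) (hn' : ¬ p ^ (n + 1) ∣ Nat.card G)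
    (hdeg : p ^ n ∣ Module.finrank ℂ V) (x : G) (hx : p ∣ orderOf x) : ρ.character x = 0 := by
  have h := irr_vanish_of_defect_zero ⟨ρ.character, isIrrCharacter_of_rep ρ⟩ p n hp hn'
    (Module.finrank ℂ V) (by simp) hdeg (genrep_finrank_dvd_card ρ) x hx
  exact h

end Cfsg.Agent.Lib.helper23
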