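import Cfsg.Agent.Lib.helper23.GaloisChar
import Cfsg.Agent.Lib.helper23.RepScalar

set_option autoImplicit false

namespace Cfsg.Agent.Lib.helper23

open Cfsg Cfsg.Agent.Lib.helper24 Polynomial

universe u v

section apps

variable {G : Type u} [Group G]

theorem sum_units_sum [Fintype G] (F : G → ℝ) :
    ∑ g : G, ∑ u : (ZMod (Nat.card G))ˣ, F (g ^ (u : ZMod (Nat.card G)).val)
      = (Fintype.card (ZMod (Nat.card G))ˣ : ℝ) * ∑ g : G, F g := by
  rw [Finset.sum_comm]
  have h : ∀ u : (ZMod (Nat.card G))ˣ,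
      ∑ g : G, F (g ^ (u : ZMod (Nat.card G)).val) = ∑ g : G, F g := by
    intro u
    exact Equiv.sum_comp (powCoprime (ZMod.val_coe_unit_coprime u).symm) F
  rw [Finset.sum_congr rfl (fun u _ => h u)]
  simp

variable {V : Type v} [AddCommGroup V] [Module ℂ V] [FiniteDimensional ℂ V]

theorem genrep_sum_normSq [Fintype G] (ρ : Representation ℂ G V) [ρ.IsIrreducible] :
    ∑ g : G, ‖ρ.character g‖ ^ 2 = (Nat.card G : ℝ) := by
  have hG : (Nat.card G : ℂ) ≠ 0 := by
    exact_mod_cast Nat.card_pos.ne'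
  have : Invertible (Nat.card G : ℂ) := invertibleOfNonzero hG
  have horth := Representation.char_orthonormal ρ ρ
  rw [if_pos ⟨Representation.Equiv.refl ρ⟩] at horth
  have hsum : ∑ g : G, ρ.character g * ρ.character g⁻¹ = (Nat.card G : ℂ) := by
    have h2 : (Nat.card G : ℂ) * ((Nat.card G : ℂ)⁻¹ * ∑ g : G, ρ.character g * ρ.character g⁻¹)
        = (Nat.card G : ℂ) * 1 := by
      rw [← horth]
    rw [← mul_assoc, mul_inv_cancel₀ hG, one_mul, mul_one] at h2
    exact h2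
  have h3 : ∀ g : G, ρ.character g * ρ.character g⁻¹ = ((‖ρ.character g‖ ^ 2 : ℝ) : ℂ) := by
    intro g
    rw [char_inv_eq_conj ρ g, Complex.mul_conj, Complex.normSq_eq_norm_sq]
  rw [Finset.sum_congr rfl (fun g _ => h3 g), ← Complex.ofReal_sum] at hsum
  have h4 : ((Nat.card G : ℝ) : ℂ) = (Nat.card G : ℂ) := by push_cast; rfl
  rw [← h4] at hsum
  exact Complex.ofReal_injective hsum

theorem genrep_exists_zero [Finite G] (ρ : Representation ℂ G V) [ρ.IsIrreducible]
    (hdeg : 1 < Module.finrank ℂ V) : ∃ g : G, ρ.character g = 0 := by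
  classical
  have : Fintype G := Fintype.ofFinite G
  by_contra hcon
  push Not at hcon
  have hN : NeZero (Nat.card G) := ⟨Nat.card_pos.ne'⟩
  have hc : (0 : ℝ) < (Fintype.card (ZMod (Nat.card G))ˣ : ℝ) := by
    exact_mod_cast Fintype.card_pos
  have h1 := sum_units_sum (G := G) (fun g => ‖ρ.character g‖ ^ 2)
  rw [genrep_sum_normSq] at h1
  have e1 : ∑ u : (ZMod (Nat.card G))ˣ,
      ‖ρ.character ((1 : G) ^ (u : ZMod (Nat.card G)).val)‖ ^ 2
      = (Fintype.card (ZMod (Nat.card G))ˣ : ℝ) * (Module.finrank ℂ V : ℝ) ^ 2 := by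
    simp [one_pow, Representation.char_one]
  have hcard : ((Finset.univ.erase (1 : G)).card : ℝ) = (Nat.card G : ℝ) - 1 := by
    rw [Finset.card_erase_of_mem (Finset.mem_univ _), Finset.card_univ,
      ← Nat.card_eq_fintype_card, Nat.cast_sub Nat.card_pos]
    simp
  have e2 : (Fintype.card (ZMod (Nat.card G))ˣ : ℝ) * ((Nat.card G : ℝ) - 1)
      ≤ ∑ g ∈ Finset.univ.erase (1 : G), ∑ u : (ZMod (Nat.card G))ˣ,
        ‖ρ.character (g ^ (u : ZMod (Nat.card G)).val)‖ ^ 2 := by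
    have e3 : (Fintype.card (ZMod (Nat.card G))ˣ : ℝ) * ((Nat.card G : ℝ) - 1)
        = ∑ _g ∈ Finset.univ.erase (1 : G), (Fintype.card (ZMod (Nat.card G))ˣ : ℝ) := by
      rw [Finset.sum_const, nsmul_eq_mul, hcard]
      ring
    rw [e3]
    exact Finset.sum_le_sum (fun g _ => sum_units_normSq_ge ρ g (hcon g))
  rw [← Finset.add_sum_erase Finset.univ _ (Finset.mem_univ (1 : G)), e1] at h1
  have hn : (2 : ℝ) ≤ (Module.finrank ℂ V : ℝ) := by exact_mod_cast hdeg
  rw [mul_sub, mul_one] at e2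
  have h5 : (Fintype.card (ZMod (Nat.card G))ˣ : ℝ) * (Module.finrank ℂ V : ℝ) ^ 2
      ≤ (Fintype.card (ZMod (Nat.card G))ˣ : ℝ) * 1 := by linarith
  have h6 : (Module.finrank ℂ V : ℝ) ^ 2 ≤ 1 := le_of_mul_le_mul_left h5 hc
  nlinarith

theorem rational_iff_conj_pow [Finite G] :
    (∀ χ : IrrCharacter G, ∀ g : G, ∃ q : ℚ, χ.1 g = (q : ℂ)) ↔
      ∀ m : ℕ, m.Coprime (Nat.card G) → ∀ g : G, IsConj g (g ^ m) := by
  constructor
  · intro H m hm g
    rw [isConj_iff_irr_eq]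
    intro χ
    obtain ⟨n, ρ, hirr, hρ⟩ := χ.2
    obtain ⟨φ, hφ⟩ := exists_algHom_root_of_unity_pow (Nat.card G) Nat.card_pos.ne' m hm
    have h1 := algHom_char φ m hφ ρ g
    obtain ⟨q, hq⟩ := H χ g
    have h2 : (⟨ρ.character g, char_mem_algClosure ρ g⟩ : algebraicClosure ℚ ℂ)
        = algebraMap ℚ (algebraicClosure ℚ ℂ) q := by
      apply Subtype.ext
      change ρ.character g = _
      rw [hρ, hq]
      rfl
    rw [h2, AlgHom.commutes] at h1
    rw [← hρ, ← h1, hρ, hq]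
    rfl
  · intro H χ g
    obtain ⟨n, ρ, hirr, hρ⟩ := χ.2
    have hfix : ∀ φ : algebraicClosure ℚ ℂ →ₐ[ℚ] ℂ,
        φ ⟨ρ.character g, char_mem_algClosure ρ g⟩
          = ((⟨ρ.character g, char_mem_algClosure ρ g⟩ : algebraicClosure ℚ ℂ) : ℂ) := by
      intro φ
      obtain ⟨m, hm, hφ⟩ := algHom_root_of_unity_pow (Nat.card G) Nat.card_pos.ne' φ
      rw [algHom_char φ m hφ ρ g]
      change ρ.character (g ^ m) = ρ.character g
      rw [hρ]
      exact (isClassFunction_of_isConj (isClassFunction_irr χ) (H m hm g)).symm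
    obtain ⟨z, hz⟩ := int_of_fixed _
      (genrep_char_isIntegral ρ g (isOfFinOrder_of_finite g)) hfix
    refine ⟨(z : ℚ), ?_⟩
    have hz' : ρ.character g = (z : ℂ) := hz
    rw [← hρ, hz']
    push_cast
    rfl

end apps

end Cfsg.Agent.Lib.helper23
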