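import Mathlib
import Cfsg.Prelude.Def_Spor_Ru

set_option autoImplicit false

namespace Cfsg.Agent.Lib.helper23

/-- Data for the Ru lattice proof (S1628): an echelon basis of the lattice and auxiliary matrices. -/
def ruB0a : Fin 28 → Fin 7 → Fin 4 → GaussianInt :=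
  ![![![⟨1, 0⟩, ⟨0, 0⟩, ⟨0, 0⟩, ⟨1, 2⟩], ![⟨0, 0⟩, ⟨0, 0⟩, ⟨2, 1⟩, ⟨-1, 2⟩], ![⟨0, 0⟩, ⟨0, 0⟩, ⟨2, -1⟩, ⟨2, -1⟩], ![⟨0, 0⟩, ⟨2, 1⟩, ⟨0, 0⟩, ⟨1, 0⟩], ![⟨0, 0⟩, ⟨-1, 0⟩, ⟨1, 0⟩, ⟨2, 0⟩], ![⟨0, 0⟩, ⟨-1, 0⟩, ⟨0, 2⟩, ⟨-1, 2⟩], ![⟨0, -1⟩, ⟨1, 2⟩, ⟨0, -1⟩, ⟨1, 0⟩]],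
  ![![⟨0, 0⟩, ⟨1, 0⟩, ⟨0, 0⟩, ⟨1, 2⟩], ![⟨0, 0⟩, ⟨0, 0⟩, ⟨1, -1⟩, ⟨2, 2⟩], ![⟨0, 0⟩, ⟨0, -1⟩, ⟨-1, 0⟩, ⟨2, 2⟩], ![⟨0, 0⟩, ⟨1, -1⟩, ⟨1, 0⟩, ⟨-1, 2⟩], ![⟨0, 0⟩, ⟨-1, 1⟩, ⟨0, 1⟩, ⟨1, 0⟩], ![⟨0, 0⟩, ⟨-1, 2⟩, ⟨-1, -1⟩, ⟨-1, 2⟩], ![⟨0, 0⟩, ⟨2, 1⟩, ⟨0, -1⟩, ⟨0, 0⟩]],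
  ![![⟨0, 0⟩, ⟨0, 0⟩, ⟨1, 0⟩, ⟨0, -1⟩], ![⟨0, 0⟩, ⟨0, 0⟩, ⟨1, 2⟩, ⟨1, 2⟩], ![⟨0, 0⟩, ⟨2, 1⟩, ⟨1, 1⟩, ⟨2, 1⟩], ![⟨0, 0⟩, ⟨2, -1⟩, ⟨2, 1⟩, ⟨0, 0⟩], ![⟨0, 0⟩, ⟨2, -1⟩, ⟨-1, 1⟩, ⟨1, 0⟩], ![⟨0, 0⟩, ⟨0, 0⟩, ⟨2, 0⟩, ⟨-1, 1⟩], ![⟨0, 0⟩, ⟨2, -1⟩, ⟨0, -1⟩, ⟨1, 1⟩]],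
  ![![⟨0, 0⟩, ⟨0, 0⟩, ⟨0, 0⟩, ⟨0, 0⟩], ![⟨0, 0⟩, ⟨0, 0⟩, ⟨0, 0⟩, ⟨2, 0⟩], ![⟨1, 0⟩, ⟨1, 2⟩, ⟨1, 2⟩, ⟨0, 1⟩], ![⟨0, 0⟩, ⟨0, 0⟩, ⟨0, 0⟩, ⟨0, 2⟩], ![⟨0, 0⟩, ⟨1, 1⟩, ⟨0, 0⟩, ⟨-1, 1⟩], ![⟨0, 0⟩, ⟨1, 1⟩, ⟨-1, -1⟩, ⟨2, 2⟩], ![⟨0, -1⟩, ⟨2, 1⟩, ⟨-1, 0⟩, ⟨2, -1⟩]],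
  ![![⟨0, 0⟩, ⟨0, 0⟩, ⟨0, 0⟩, ⟨-1, -1⟩], ![⟨1, 0⟩, ⟨0, 0⟩, ⟨0, 0⟩, ⟨-1, 2⟩], ![⟨0, 0⟩, ⟨1, -1⟩, ⟨-1, 0⟩, ⟨-1, 2⟩], ![⟨0, 0⟩, ⟨-1, 1⟩, ⟨2, 1⟩, ⟨1, 0⟩], ![⟨0, 0⟩, ⟨0, -1⟩, ⟨-1, 1⟩, ⟨2, -1⟩], ![⟨0, 0⟩, ⟨0, 1⟩, ⟨2, 1⟩, ⟨2, 0⟩], ![⟨2, -1⟩, ⟨1, -1⟩, ⟨1, 2⟩, ⟨-1, -1⟩]],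
  ![![⟨0, 0⟩, ⟨0, 0⟩, ⟨0, 0⟩, ⟨-1, 1⟩], ![⟨0, 0⟩, ⟨1, 0⟩, ⟨1, 0⟩, ⟨-1, -1⟩], ![⟨0, 0⟩, ⟨0, 0⟩, ⟨2, 1⟩, ⟨-1, 0⟩], ![⟨0, 0⟩, ⟨0, 0⟩, ⟨0, 1⟩, ⟨2, -1⟩], ![⟨0, 0⟩, ⟨1, 2⟩, ⟨1, -1⟩, ⟨1, 2⟩], ![⟨0, 0⟩, ⟨1, 2⟩, ⟨-1, 2⟩, ⟨2, 2⟩], ![⟨0, 0⟩, ⟨-1, 0⟩, ⟨-1, 1⟩, ⟨2, 1⟩]],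
  ![![⟨0, 0⟩, ⟨0, 0⟩, ⟨0, 0⟩, ⟨0, 0⟩], ![⟨0, 0⟩, ⟨0, 0⟩, ⟨1, -1⟩, ⟨-1, 1⟩], ![⟨0, 0⟩, ⟨1, -1⟩, ⟨0, 0⟩, ⟨-1, -1⟩], ![⟨1, 0⟩, ⟨-1, 2⟩, ⟨1, 2⟩, ⟨2, 1⟩], ![⟨0, 0⟩, ⟨-1, -1⟩, ⟨0, 0⟩, ⟨-1, 1⟩], ![⟨0, 0⟩, ⟨-1, -1⟩, ⟨1, 1⟩, ⟨2, 0⟩], ![⟨2, -1⟩, ⟨1, 2⟩, ⟨0, -1⟩, ⟨0, -1⟩]],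
  ![![⟨0, 0⟩, ⟨0, 0⟩, ⟨0, 0⟩, ⟨0, 0⟩], ![⟨0, 0⟩, ⟨0, 0⟩, ⟨0, 0⟩, ⟨0, 2⟩], ![⟨0, 0⟩, ⟨-1, 1⟩, ⟨-1, 1⟩, ⟨0, 0⟩], ![⟨0, 0⟩, ⟨0, 0⟩, ⟨0, 0⟩, ⟨2, 2⟩], ![⟨0, 0⟩, ⟨0, 0⟩, ⟨-1, -1⟩, ⟨1, -1⟩], ![⟨1, 0⟩, ⟨2, 1⟩, ⟨1, 2⟩, ⟨1, 2⟩], ![⟨1, 2⟩, ⟨-1, 0⟩, ⟨1, 0⟩, ⟨2, 1⟩]],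
  ![![⟨0, 0⟩, ⟨0, 0⟩, ⟨0, 0⟩, ⟨2, 0⟩], ![⟨0, 0⟩, ⟨0, 0⟩, ⟨0, 0⟩, ⟨2, 0⟩], ![⟨0, 0⟩, ⟨1, 1⟩, ⟨0, 0⟩, ⟨1, 1⟩], ![⟨0, 0⟩, ⟨0, 0⟩, ⟨0, 0⟩, ⟨2, 2⟩], ![⟨1, 0⟩, ⟨1, 0⟩, ⟨0, -1⟩, ⟨1, 2⟩], ![⟨0, 0⟩, ⟨0, 0⟩, ⟨1, 1⟩, ⟨1, -1⟩], ![⟨2, -1⟩, ⟨-1, 2⟩, ⟨0, 1⟩, ⟨2, 1⟩]],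
  ![![⟨0, 0⟩, ⟨0, 0⟩, ⟨0, 0⟩, ⟨2, 0⟩], ![⟨0, 0⟩, ⟨0, 0⟩, ⟨0, 0⟩, ⟨0, 2⟩], ![⟨0, 0⟩, ⟨0, 0⟩, ⟨0, 0⟩, ⟨2, 0⟩], ![⟨0, 0⟩, ⟨0, 0⟩, ⟨0, 0⟩, ⟨0, 2⟩], ![⟨0, 0⟩, ⟨0, 0⟩, ⟨0, 0⟩, ⟨2, 0⟩], ![⟨0, 0⟩, ⟨0, 0⟩, ⟨2, 0⟩, ⟨2, 2⟩], ![⟨1, 1⟩, ⟨-1, 1⟩, ⟨-1, -1⟩, ⟨-1, 1⟩]],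
  ![![⟨0, 0⟩, ⟨0, 0⟩, ⟨0, 0⟩, ⟨0, 0⟩], ![⟨0, 0⟩, ⟨0, 0⟩, ⟨0, 2⟩, ⟨0, 2⟩], ![⟨0, 0⟩, ⟨0, 0⟩, ⟨0, 0⟩, ⟨0, 0⟩], ![⟨0, 0⟩, ⟨0, 0⟩, ⟨0, 0⟩, ⟨0, 0⟩], ![⟨0, 0⟩, ⟨0, 0⟩, ⟨0, 0⟩, ⟨0, 0⟩], ![⟨0, 0⟩, ⟨0, 0⟩, ⟨0, 0⟩, ⟨2, 2⟩], ![⟨0, 0⟩, ⟨2, 0⟩, ⟨2, 0⟩, ⟨2, 2⟩]],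
  ![![⟨0, 0⟩, ⟨0, 0⟩, ⟨0, 0⟩, ⟨0, 0⟩], ![⟨0, 0⟩, ⟨0, 0⟩, ⟨0, 0⟩, ⟨0, 0⟩], ![⟨0, 0⟩, ⟨0, 0⟩, ⟨0, 0⟩, ⟨0, 0⟩], ![⟨0, 0⟩, ⟨0, 2⟩, ⟨0, 0⟩, ⟨0, 2⟩], ![⟨0, 0⟩, ⟨0, 0⟩, ⟨0, 0⟩, ⟨2, 2⟩], ![⟨0, 0⟩, ⟨0, 0⟩, ⟨2, 2⟩, ⟨2, 2⟩], ![⟨0, 0⟩, ⟨0, 0⟩, ⟨0, 2⟩, ⟨2, 0⟩]],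
  ![![⟨0, 0⟩, ⟨0, 0⟩, ⟨0, 0⟩, ⟨0, 0⟩], ![⟨0, 0⟩, ⟨0, 0⟩, ⟨0, 0⟩, ⟨0, 0⟩], ![⟨0, 0⟩, ⟨0, 2⟩, ⟨0, 0⟩, ⟨0, 2⟩], ![⟨0, 0⟩, ⟨0, 0⟩, ⟨0, 0⟩, ⟨2, 2⟩], ![⟨0, 0⟩, ⟨0, 0⟩, ⟨0, 0⟩, ⟨0, 0⟩], ![⟨0, 0⟩, ⟨0, 0⟩, ⟨2, 0⟩, ⟨0, 2⟩], ![⟨0, 0⟩, ⟨2, 2⟩, ⟨0, 0⟩, ⟨2, 2⟩]],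
  ![![⟨0, 0⟩, ⟨0, 0⟩, ⟨0, 0⟩, ⟨0, 0⟩], ![⟨0, 0⟩, ⟨0, 0⟩, ⟨0, 0⟩, ⟨2, 2⟩], ![⟨0, 0⟩, ⟨0, 0⟩, ⟨0, 2⟩, ⟨0, 2⟩], ![⟨0, 0⟩, ⟨0, 0⟩, ⟨0, 0⟩, ⟨2, 2⟩], ![⟨0, 0⟩, ⟨0, 0⟩, ⟨0, 0⟩, ⟨2, 2⟩], ![⟨0, 0⟩, ⟨0, 0⟩, ⟨0, 0⟩, ⟨2, 2⟩], ![⟨0, 0⟩, ⟨2, 0⟩, ⟨2, 2⟩, ⟨2, 0⟩]],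
  ![![⟨0, 0⟩, ⟨0, 0⟩, ⟨0, 0⟩, ⟨0, 0⟩], ![⟨0, 0⟩, ⟨0, 0⟩, ⟨0, 0⟩, ⟨0, 0⟩], ![⟨0, 0⟩, ⟨0, 0⟩, ⟨0, 0⟩, ⟨2, 2⟩], ![⟨0, 0⟩, ⟨0, 0⟩, ⟨0, 2⟩, ⟨2, 0⟩], ![⟨0, 0⟩, ⟨0, 0⟩, ⟨0, 0⟩, ⟨2, 2⟩], ![⟨0, 0⟩, ⟨0, 0⟩, ⟨0, 2⟩, ⟨0, 2⟩], ![⟨0, 0⟩, ⟨0, 0⟩, ⟨0, 2⟩, ⟨2, 0⟩]],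
  ![![⟨0, 0⟩, ⟨0, 0⟩, ⟨0, 0⟩, ⟨0, 0⟩], ![⟨0, 0⟩, ⟨0, 0⟩, ⟨0, 0⟩, ⟨0, 0⟩], ![⟨0, 0⟩, ⟨0, 0⟩, ⟨0, 0⟩, ⟨2, 2⟩], ![⟨0, 0⟩, ⟨0, 0⟩, ⟨0, 0⟩, ⟨2, 2⟩], ![⟨0, 0⟩, ⟨0, 2⟩, ⟨0, 0⟩, ⟨0, 2⟩], ![⟨0, 0⟩, ⟨0, 0⟩, ⟨0, 2⟩, ⟨0, 2⟩], ![⟨0, 0⟩, ⟨2, 0⟩, ⟨0, 2⟩, ⟨0, 0⟩]],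
  ![![⟨0, 0⟩, ⟨0, 0⟩, ⟨0, 0⟩, ⟨0, 0⟩], ![⟨0, 0⟩, ⟨0, 0⟩, ⟨0, 0⟩, ⟨0, 0⟩], ![⟨0, 0⟩, ⟨0, 0⟩, ⟨0, 0⟩, ⟨2, 2⟩], ![⟨0, 0⟩, ⟨0, 0⟩, ⟨0, 0⟩, ⟨0, 0⟩], ![⟨0, 0⟩, ⟨0, 0⟩, ⟨0, 2⟩, ⟨2, 0⟩], ![⟨0, 0⟩, ⟨0, 0⟩, ⟨0, 2⟩, ⟨0, 2⟩], ![⟨0, 0⟩, ⟨2, 0⟩, ⟨2, 2⟩, ⟨2, 0⟩]],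
  ![![⟨0, 0⟩, ⟨0, 0⟩, ⟨0, 0⟩, ⟨0, 0⟩], ![⟨0, 0⟩, ⟨0, 0⟩, ⟨0, 0⟩, ⟨2, 2⟩], ![⟨0, 0⟩, ⟨0, 0⟩, ⟨0, 0⟩, ⟨0, 0⟩], ![⟨0, 0⟩, ⟨0, 0⟩, ⟨0, 0⟩, ⟨0, 0⟩], ![⟨0, 0⟩, ⟨0, 0⟩, ⟨0, 0⟩, ⟨0, 0⟩], ![⟨0, 0⟩, ⟨0, 2⟩, ⟨2, 2⟩, ⟨0, 2⟩], ![⟨0, 0⟩, ⟨0, 2⟩, ⟨0, 2⟩, ⟨0, 0⟩]],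
  ![![⟨0, 0⟩, ⟨0, 0⟩, ⟨0, 0⟩, ⟨2, 2⟩], ![⟨0, 0⟩, ⟨0, 0⟩, ⟨0, 0⟩, ⟨2, 2⟩], ![⟨0, 0⟩, ⟨0, 0⟩, ⟨0, 0⟩, ⟨2, 2⟩], ![⟨0, 0⟩, ⟨0, 0⟩, ⟨0, 0⟩, ⟨2, 2⟩], ![⟨0, 0⟩, ⟨0, 0⟩, ⟨0, 0⟩, ⟨2, 2⟩], ![⟨0, 0⟩, ⟨0, 0⟩, ⟨0, 0⟩, ⟨2, 2⟩], ![⟨0, 0⟩, ⟨0, 0⟩, ⟨0, 0⟩, ⟨2, 2⟩]],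
  ![![⟨0, 0⟩, ⟨0, 0⟩, ⟨0, 0⟩, ⟨0, 0⟩], ![⟨0, 0⟩, ⟨0, 0⟩, ⟨0, 0⟩, ⟨4, 0⟩], ![⟨0, 0⟩, ⟨0, 0⟩, ⟨0, 0⟩, ⟨0, 0⟩], ![⟨0, 0⟩, ⟨0, 0⟩, ⟨0, 0⟩, ⟨0, 0⟩], ![⟨0, 0⟩, ⟨0, 0⟩, ⟨0, 0⟩, ⟨0, 0⟩], ![⟨0, 0⟩, ⟨0, 0⟩, ⟨0, 0⟩, ⟨0, 0⟩], ![⟨0, 0⟩, ⟨0, 0⟩, ⟨0, 0⟩, ⟨0, 0⟩]],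
  ![![⟨0, 0⟩, ⟨0, 0⟩, ⟨0, 0⟩, ⟨0, 0⟩], ![⟨0, 0⟩, ⟨0, 0⟩, ⟨0, 0⟩, ⟨0, 0⟩], ![⟨0, 0⟩, ⟨0, 0⟩, ⟨0, 0⟩, ⟨4, 0⟩], ![⟨0, 0⟩, ⟨0, 0⟩, ⟨0, 0⟩, ⟨0, 0⟩], ![⟨0, 0⟩, ⟨0, 0⟩, ⟨0, 0⟩, ⟨0, 0⟩], ![⟨0, 0⟩, ⟨0, 0⟩, ⟨0, 0⟩, ⟨0, 0⟩], ![⟨0, 0⟩, ⟨0, 0⟩, ⟨0, 0⟩, ⟨0, 0⟩]],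
  ![![⟨0, 0⟩, ⟨0, 0⟩, ⟨0, 0⟩, ⟨0, 0⟩], ![⟨0, 0⟩, ⟨0, 0⟩, ⟨0, 0⟩, ⟨0, 0⟩], ![⟨0, 0⟩, ⟨0, 0⟩, ⟨0, 0⟩, ⟨0, 0⟩], ![⟨0, 0⟩, ⟨0, 0⟩, ⟨0, 0⟩, ⟨4, 0⟩], ![⟨0, 0⟩, ⟨0, 0⟩, ⟨0, 0⟩, ⟨0, 0⟩], ![⟨0, 0⟩, ⟨0, 0⟩, ⟨0, 0⟩, ⟨0, 0⟩], ![⟨0, 0⟩, ⟨0, 0⟩, ⟨0, 0⟩, ⟨0, 0⟩]],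
  ![![⟨0, 0⟩, ⟨0, 0⟩, ⟨0, 0⟩, ⟨0, 0⟩], ![⟨0, 0⟩, ⟨0, 0⟩, ⟨0, 0⟩, ⟨0, 0⟩], ![⟨0, 0⟩, ⟨0, 0⟩, ⟨0, 0⟩, ⟨0, 0⟩], ![⟨0, 0⟩, ⟨0, 0⟩, ⟨0, 0⟩, ⟨0, 0⟩], ![⟨0, 0⟩, ⟨0, 0⟩, ⟨0, 0⟩, ⟨4, 0⟩], ![⟨0, 0⟩, ⟨0, 0⟩, ⟨0, 0⟩, ⟨0, 0⟩], ![⟨0, 0⟩, ⟨0, 0⟩, ⟨0, 0⟩, ⟨0, 0⟩]],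
  ![![⟨0, 0⟩, ⟨0, 0⟩, ⟨0, 0⟩, ⟨0, 0⟩], ![⟨0, 0⟩, ⟨0, 0⟩, ⟨0, 0⟩, ⟨0, 0⟩], ![⟨0, 0⟩, ⟨0, 0⟩, ⟨0, 0⟩, ⟨0, 0⟩], ![⟨0, 0⟩, ⟨0, 0⟩, ⟨0, 0⟩, ⟨0, 0⟩], ![⟨0, 0⟩, ⟨0, 0⟩, ⟨0, 0⟩, ⟨0, 0⟩], ![⟨0, 0⟩, ⟨0, 0⟩, ⟨4, 0⟩, ⟨0, 0⟩], ![⟨0, 0⟩, ⟨0, 0⟩, ⟨0, 0⟩, ⟨0, 0⟩]],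
  ![![⟨0, 0⟩, ⟨0, 0⟩, ⟨0, 0⟩, ⟨0, 0⟩], ![⟨0, 0⟩, ⟨0, 0⟩, ⟨0, 0⟩, ⟨0, 0⟩], ![⟨0, 0⟩, ⟨0, 0⟩, ⟨0, 0⟩, ⟨0, 0⟩], ![⟨0, 0⟩, ⟨0, 0⟩, ⟨0, 0⟩, ⟨0, 0⟩], ![⟨0, 0⟩, ⟨0, 0⟩, ⟨0, 0⟩, ⟨0, 0⟩], ![⟨0, 0⟩, ⟨0, 0⟩, ⟨0, 0⟩, ⟨4, 0⟩], ![⟨0, 0⟩, ⟨0, 0⟩, ⟨0, 0⟩, ⟨0, 0⟩]],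
  ![![⟨0, 0⟩, ⟨0, 0⟩, ⟨0, 0⟩, ⟨0, 0⟩], ![⟨0, 0⟩, ⟨0, 0⟩, ⟨0, 0⟩, ⟨0, 0⟩], ![⟨0, 0⟩, ⟨0, 0⟩, ⟨0, 0⟩, ⟨0, 0⟩], ![⟨0, 0⟩, ⟨0, 0⟩, ⟨0, 0⟩, ⟨0, 0⟩], ![⟨0, 0⟩, ⟨0, 0⟩, ⟨0, 0⟩, ⟨0, 0⟩], ![⟨0, 0⟩, ⟨0, 0⟩, ⟨0, 0⟩, ⟨0, 0⟩], ![⟨0, 0⟩, ⟨4, 0⟩, ⟨0, 0⟩, ⟨0, 0⟩]],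
  ![![⟨0, 0⟩, ⟨0, 0⟩, ⟨0, 0⟩, ⟨0, 0⟩], ![⟨0, 0⟩, ⟨0, 0⟩, ⟨0, 0⟩, ⟨0, 0⟩], ![⟨0, 0⟩, ⟨0, 0⟩, ⟨0, 0⟩, ⟨0, 0⟩], ![⟨0, 0⟩, ⟨0, 0⟩, ⟨0, 0⟩, ⟨0, 0⟩], ![⟨0, 0⟩, ⟨0, 0⟩, ⟨0, 0⟩, ⟨0, 0⟩], ![⟨0, 0⟩, ⟨0, 0⟩, ⟨0, 0⟩, ⟨0, 0⟩], ![⟨0, 0⟩, ⟨0, 0⟩, ⟨4, 0⟩, ⟨0, 0⟩]],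
  ![![⟨0, 0⟩, ⟨0, 0⟩, ⟨0, 0⟩, ⟨0, 0⟩], ![⟨0, 0⟩, ⟨0, 0⟩, ⟨0, 0⟩, ⟨0, 0⟩], ![⟨0, 0⟩, ⟨0, 0⟩, ⟨0, 0⟩, ⟨0, 0⟩], ![⟨0, 0⟩, ⟨0, 0⟩, ⟨0, 0⟩, ⟨0, 0⟩], ![⟨0, 0⟩, ⟨0, 0⟩, ⟨0, 0⟩, ⟨0, 0⟩], ![⟨0, 0⟩, ⟨0, 0⟩, ⟨0, 0⟩, ⟨0, 0⟩], ![⟨0, 0⟩, ⟨0, 0⟩, ⟨0, 0⟩, ⟨4, 0⟩]]]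

def ruB1a : Fin 28 → Fin 7 → Fin 4 → GaussianInt :=
  ![![![⟨1, 0⟩, ⟨0, 0⟩, ⟨0, 0⟩, ⟨1, 2⟩], ![⟨0, 0⟩, ⟨0, 0⟩, ⟨2, 1⟩, ⟨-1, 2⟩], ![⟨0, 0⟩, ⟨0, 0⟩, ⟨2, -1⟩, ⟨2, -1⟩], ![⟨0, 0⟩, ⟨2, 1⟩, ⟨0, 0⟩, ⟨1, 0⟩], ![⟨0, 0⟩, ⟨-1, 0⟩, ⟨1, 0⟩, ⟨2, 0⟩], ![⟨0, 0⟩, ⟨-1, 0⟩, ⟨0, 2⟩, ⟨-1, 2⟩], ![⟨0, -1⟩, ⟨1, 2⟩, ⟨0, -1⟩, ⟨1, 0⟩]],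
  ![![⟨0, 0⟩, ⟨1, 0⟩, ⟨0, 0⟩, ⟨1, 2⟩], ![⟨0, 0⟩, ⟨0, 0⟩, ⟨1, -1⟩, ⟨2, 2⟩], ![⟨0, 0⟩, ⟨0, -1⟩, ⟨-1, 0⟩, ⟨2, 2⟩], ![⟨0, 0⟩, ⟨1, -1⟩, ⟨1, 0⟩, ⟨-1, 2⟩], ![⟨0, 0⟩, ⟨-1, 1⟩, ⟨0, 1⟩, ⟨1, 0⟩], ![⟨0, 0⟩, ⟨-1, 2⟩, ⟨-1, -1⟩, ⟨-1, 2⟩], ![⟨0, 0⟩, ⟨2, 1⟩, ⟨0, -1⟩, ⟨0, 0⟩]],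
  ![![⟨0, 0⟩, ⟨0, 0⟩, ⟨1, 0⟩, ⟨0, -1⟩], ![⟨0, 0⟩, ⟨0, 0⟩, ⟨1, 2⟩, ⟨1, 2⟩], ![⟨0, 0⟩, ⟨2, 1⟩, ⟨1, 1⟩, ⟨2, 1⟩], ![⟨0, 0⟩, ⟨2, -1⟩, ⟨2, 1⟩, ⟨0, 0⟩], ![⟨0, 0⟩, ⟨2, -1⟩, ⟨-1, 1⟩, ⟨1, 0⟩], ![⟨0, 0⟩, ⟨0, 0⟩, ⟨2, 0⟩, ⟨-1, 1⟩], ![⟨0, 0⟩, ⟨2, -1⟩, ⟨0, -1⟩, ⟨1, 1⟩]],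
  ![![⟨0, 0⟩, ⟨0, 0⟩, ⟨0, 0⟩, ⟨0, 0⟩], ![⟨0, 0⟩, ⟨0, 0⟩, ⟨0, 0⟩, ⟨2, 0⟩], ![⟨1, 0⟩, ⟨1, 2⟩, ⟨1, 2⟩, ⟨0, 1⟩], ![⟨0, 0⟩, ⟨0, 0⟩, ⟨0, 0⟩, ⟨0, 2⟩], ![⟨0, 0⟩, ⟨1, 1⟩, ⟨0, 0⟩, ⟨-1, 1⟩], ![⟨0, 0⟩, ⟨1, 1⟩, ⟨-1, -1⟩, ⟨2, 2⟩], ![⟨0, -1⟩, ⟨2, 1⟩, ⟨-1, 0⟩, ⟨2, -1⟩]],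
  ![![⟨0, 0⟩, ⟨0, 0⟩, ⟨0, 0⟩, ⟨-1, -1⟩], ![⟨1, 0⟩, ⟨0, 0⟩, ⟨0, 0⟩, ⟨-1, 2⟩], ![⟨0, 0⟩, ⟨1, -1⟩, ⟨-1, 0⟩, ⟨-1, 2⟩], ![⟨0, 0⟩, ⟨-1, 1⟩, ⟨2, 1⟩, ⟨1, 0⟩], ![⟨0, 0⟩, ⟨0, -1⟩, ⟨-1, 1⟩, ⟨2, -1⟩], ![⟨0, 0⟩, ⟨0, 1⟩, ⟨2, 1⟩, ⟨2, 0⟩], ![⟨2, -1⟩, ⟨1, -1⟩, ⟨1, 2⟩, ⟨-1, -1⟩]],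
  ![![⟨0, 0⟩, ⟨0, 0⟩, ⟨0, 0⟩, ⟨-1, 1⟩], ![⟨0, 0⟩, ⟨1, 0⟩, ⟨1, 0⟩, ⟨-1, -1⟩], ![⟨0, 0⟩, ⟨0, 0⟩, ⟨2, 1⟩, ⟨-1, 0⟩], ![⟨0, 0⟩, ⟨0, 0⟩, ⟨0, 1⟩, ⟨2, -1⟩], ![⟨0, 0⟩, ⟨1, 2⟩, ⟨1, -1⟩, ⟨1, 2⟩], ![⟨0, 0⟩, ⟨1, 2⟩, ⟨-1, 2⟩, ⟨2, 2⟩], ![⟨0, 0⟩, ⟨-1, 0⟩, ⟨-1, 1⟩, ⟨2, 1⟩]],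
  ![![⟨0, 0⟩, ⟨0, 0⟩, ⟨0, 0⟩, ⟨0, 0⟩], ![⟨0, 0⟩, ⟨0, 0⟩, ⟨1, -1⟩, ⟨-1, 1⟩], ![⟨0, 0⟩, ⟨1, -1⟩, ⟨0, 0⟩, ⟨-1, -1⟩], ![⟨1, 0⟩, ⟨-1, 2⟩, ⟨1, 2⟩, ⟨2, 1⟩], ![⟨0, 0⟩, ⟨-1, -1⟩, ⟨0, 0⟩, ⟨-1, 1⟩], ![⟨0, 0⟩, ⟨-1, -1⟩, ⟨1, 1⟩, ⟨2, 0⟩], ![⟨2, -1⟩, ⟨1, 2⟩, ⟨0, -1⟩, ⟨0, -1⟩]],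
  ![![⟨0, 0⟩, ⟨0, 0⟩, ⟨0, 0⟩, ⟨0, 0⟩], ![⟨0, 0⟩, ⟨0, 0⟩, ⟨0, 0⟩, ⟨0, 2⟩], ![⟨0, 0⟩, ⟨-1, 1⟩, ⟨-1, 1⟩, ⟨0, 0⟩], ![⟨0, 0⟩, ⟨0, 0⟩, ⟨0, 0⟩, ⟨2, 2⟩], ![⟨0, 0⟩, ⟨0, 0⟩, ⟨-1, -1⟩, ⟨1, -1⟩], ![⟨1, 0⟩, ⟨2, 1⟩, ⟨1, 2⟩, ⟨1, 2⟩], ![⟨1, 2⟩, ⟨-1, 0⟩, ⟨1, 0⟩, ⟨2, 1⟩]],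
  ![![⟨0, 0⟩, ⟨0, 0⟩, ⟨0, 0⟩, ⟨2, 0⟩], ![⟨0, 0⟩, ⟨0, 0⟩, ⟨0, 0⟩, ⟨2, 0⟩], ![⟨0, 0⟩, ⟨1, 1⟩, ⟨0, 0⟩, ⟨1, 1⟩], ![⟨0, 0⟩, ⟨0, 0⟩, ⟨0, 0⟩, ⟨2, 2⟩], ![⟨1, 0⟩, ⟨1, 0⟩, ⟨0, -1⟩, ⟨1, 2⟩], ![⟨0, 0⟩, ⟨0, 0⟩, ⟨1, 1⟩, ⟨1, -1⟩], ![⟨2, -1⟩, ⟨-1, 2⟩, ⟨0, 1⟩, ⟨2, 1⟩]],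
  ![![⟨0, 0⟩, ⟨0, 0⟩, ⟨0, 0⟩, ⟨1, -1⟩], ![⟨0, 0⟩, ⟨0, 0⟩, ⟨0, 0⟩, ⟨1, 1⟩], ![⟨0, 0⟩, ⟨0, 0⟩, ⟨0, 0⟩, ⟨1, -1⟩], ![⟨0, 0⟩, ⟨0, 0⟩, ⟨0, 0⟩, ⟨1, 1⟩], ![⟨0, 0⟩, ⟨0, 0⟩, ⟨0, 0⟩, ⟨1, -1⟩], ![⟨0, 0⟩, ⟨0, 0⟩, ⟨1, -1⟩, ⟨2, 0⟩], ![⟨1, 0⟩, ⟨0, 1⟩, ⟨-1, 0⟩, ⟨0, 1⟩]],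
  ![![⟨0, 0⟩, ⟨0, 0⟩, ⟨0, 0⟩, ⟨0, 0⟩], ![⟨0, 0⟩, ⟨0, 0⟩, ⟨1, 1⟩, ⟨1, 1⟩], ![⟨0, 0⟩, ⟨0, 0⟩, ⟨0, 0⟩, ⟨0, 0⟩], ![⟨0, 0⟩, ⟨0, 0⟩, ⟨0, 0⟩, ⟨0, 0⟩], ![⟨0, 0⟩, ⟨0, 0⟩, ⟨0, 0⟩, ⟨0, 0⟩], ![⟨0, 0⟩, ⟨0, 0⟩, ⟨0, 0⟩, ⟨2, 0⟩], ![⟨0, 0⟩, ⟨1, -1⟩, ⟨1, -1⟩, ⟨2, 0⟩]],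
  ![![⟨0, 0⟩, ⟨0, 0⟩, ⟨0, 0⟩, ⟨0, 0⟩], ![⟨0, 0⟩, ⟨0, 0⟩, ⟨0, 0⟩, ⟨0, 0⟩], ![⟨0, 0⟩, ⟨0, 0⟩, ⟨0, 0⟩, ⟨0, 0⟩], ![⟨0, 0⟩, ⟨1, 1⟩, ⟨0, 0⟩, ⟨1, 1⟩], ![⟨0, 0⟩, ⟨0, 0⟩, ⟨0, 0⟩, ⟨2, 0⟩], ![⟨0, 0⟩, ⟨0, 0⟩, ⟨2, 0⟩, ⟨2, 0⟩], ![⟨0, 0⟩, ⟨0, 0⟩, ⟨1, 1⟩, ⟨1, -1⟩]],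
  ![![⟨0, 0⟩, ⟨0, 0⟩, ⟨0, 0⟩, ⟨0, 0⟩], ![⟨0, 0⟩, ⟨0, 0⟩, ⟨0, 0⟩, ⟨0, 0⟩], ![⟨0, 0⟩, ⟨1, 1⟩, ⟨0, 0⟩, ⟨1, 1⟩], ![⟨0, 0⟩, ⟨0, 0⟩, ⟨0, 0⟩, ⟨2, 0⟩], ![⟨0, 0⟩, ⟨0, 0⟩, ⟨0, 0⟩, ⟨0, 0⟩], ![⟨0, 0⟩, ⟨0, 0⟩, ⟨1, -1⟩, ⟨1, 1⟩], ![⟨0, 0⟩, ⟨2, 0⟩, ⟨0, 0⟩, ⟨2, 0⟩]],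
  ![![⟨0, 0⟩, ⟨0, 0⟩, ⟨0, 0⟩, ⟨0, 0⟩], ![⟨0, 0⟩, ⟨0, 0⟩, ⟨0, 0⟩, ⟨2, 0⟩], ![⟨0, 0⟩, ⟨0, 0⟩, ⟨1, 1⟩, ⟨1, 1⟩], ![⟨0, 0⟩, ⟨0, 0⟩, ⟨0, 0⟩, ⟨2, 0⟩], ![⟨0, 0⟩, ⟨0, 0⟩, ⟨0, 0⟩, ⟨2, 0⟩], ![⟨0, 0⟩, ⟨0, 0⟩, ⟨0, 0⟩, ⟨2, 0⟩], ![⟨0, 0⟩, ⟨1, -1⟩, ⟨2, 0⟩, ⟨1, -1⟩]],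
  ![![⟨0, 0⟩, ⟨0, 0⟩, ⟨0, 0⟩, ⟨0, 0⟩], ![⟨0, 0⟩, ⟨0, 0⟩, ⟨0, 0⟩, ⟨0, 0⟩], ![⟨0, 0⟩, ⟨0, 0⟩, ⟨0, 0⟩, ⟨2, 0⟩], ![⟨0, 0⟩, ⟨0, 0⟩, ⟨1, 1⟩, ⟨1, -1⟩], ![⟨0, 0⟩, ⟨0, 0⟩, ⟨0, 0⟩, ⟨2, 0⟩], ![⟨0, 0⟩, ⟨0, 0⟩, ⟨1, 1⟩, ⟨1, 1⟩], ![⟨0, 0⟩, ⟨0, 0⟩, ⟨1, 1⟩, ⟨1, -1⟩]],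
  ![![⟨0, 0⟩, ⟨0, 0⟩, ⟨0, 0⟩, ⟨0, 0⟩], ![⟨0, 0⟩, ⟨0, 0⟩, ⟨0, 0⟩, ⟨0, 0⟩], ![⟨0, 0⟩, ⟨0, 0⟩, ⟨0, 0⟩, ⟨2, 0⟩], ![⟨0, 0⟩, ⟨0, 0⟩, ⟨0, 0⟩, ⟨2, 0⟩], ![⟨0, 0⟩, ⟨1, 1⟩, ⟨0, 0⟩, ⟨1, 1⟩], ![⟨0, 0⟩, ⟨0, 0⟩, ⟨1, 1⟩, ⟨1, 1⟩], ![⟨0, 0⟩, ⟨1, -1⟩, ⟨1, 1⟩, ⟨0, 0⟩]],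
  ![![⟨0, 0⟩, ⟨0, 0⟩, ⟨0, 0⟩, ⟨0, 0⟩], ![⟨0, 0⟩, ⟨0, 0⟩, ⟨0, 0⟩, ⟨0, 0⟩], ![⟨0, 0⟩, ⟨0, 0⟩, ⟨0, 0⟩, ⟨2, 0⟩], ![⟨0, 0⟩, ⟨0, 0⟩, ⟨0, 0⟩, ⟨0, 0⟩], ![⟨0, 0⟩, ⟨0, 0⟩, ⟨1, 1⟩, ⟨1, -1⟩], ![⟨0, 0⟩, ⟨0, 0⟩, ⟨1, 1⟩, ⟨1, 1⟩], ![⟨0, 0⟩, ⟨1, -1⟩, ⟨2, 0⟩, ⟨1, -1⟩]],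
  ![![⟨0, 0⟩, ⟨0, 0⟩, ⟨0, 0⟩, ⟨0, 0⟩], ![⟨0, 0⟩, ⟨0, 0⟩, ⟨0, 0⟩, ⟨2, 0⟩], ![⟨0, 0⟩, ⟨0, 0⟩, ⟨0, 0⟩, ⟨0, 0⟩], ![⟨0, 0⟩, ⟨0, 0⟩, ⟨0, 0⟩, ⟨0, 0⟩], ![⟨0, 0⟩, ⟨0, 0⟩, ⟨0, 0⟩, ⟨0, 0⟩], ![⟨0, 0⟩, ⟨1, 1⟩, ⟨2, 0⟩, ⟨1, 1⟩], ![⟨0, 0⟩, ⟨1, 1⟩, ⟨1, 1⟩, ⟨0, 0⟩]],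
  ![![⟨0, 0⟩, ⟨0, 0⟩, ⟨0, 0⟩, ⟨2, 0⟩], ![⟨0, 0⟩, ⟨0, 0⟩, ⟨0, 0⟩, ⟨2, 0⟩], ![⟨0, 0⟩, ⟨0, 0⟩, ⟨0, 0⟩, ⟨2, 0⟩], ![⟨0, 0⟩, ⟨0, 0⟩, ⟨0, 0⟩, ⟨2, 0⟩], ![⟨0, 0⟩, ⟨0, 0⟩, ⟨0, 0⟩, ⟨2, 0⟩], ![⟨0, 0⟩, ⟨0, 0⟩, ⟨0, 0⟩, ⟨2, 0⟩], ![⟨0, 0⟩, ⟨0, 0⟩, ⟨0, 0⟩, ⟨2, 0⟩]],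
  ![![⟨0, 0⟩, ⟨0, 0⟩, ⟨0, 0⟩, ⟨0, 0⟩], ![⟨0, 0⟩, ⟨0, 0⟩, ⟨0, 0⟩, ⟨2, -2⟩], ![⟨0, 0⟩, ⟨0, 0⟩, ⟨0, 0⟩, ⟨0, 0⟩], ![⟨0, 0⟩, ⟨0, 0⟩, ⟨0, 0⟩, ⟨0, 0⟩], ![⟨0, 0⟩, ⟨0, 0⟩, ⟨0, 0⟩, ⟨0, 0⟩], ![⟨0, 0⟩, ⟨0, 0⟩, ⟨0, 0⟩, ⟨0, 0⟩], ![⟨0, 0⟩, ⟨0, 0⟩, ⟨0, 0⟩, ⟨0, 0⟩]],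
  ![![⟨0, 0⟩, ⟨0, 0⟩, ⟨0, 0⟩, ⟨0, 0⟩], ![⟨0, 0⟩, ⟨0, 0⟩, ⟨0, 0⟩, ⟨0, 0⟩], ![⟨0, 0⟩, ⟨0, 0⟩, ⟨0, 0⟩, ⟨2, -2⟩], ![⟨0, 0⟩, ⟨0, 0⟩, ⟨0, 0⟩, ⟨0, 0⟩], ![⟨0, 0⟩, ⟨0, 0⟩, ⟨0, 0⟩, ⟨0, 0⟩], ![⟨0, 0⟩, ⟨0, 0⟩, ⟨0, 0⟩, ⟨0, 0⟩], ![⟨0, 0⟩, ⟨0, 0⟩, ⟨0, 0⟩, ⟨0, 0⟩]],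
  ![![⟨0, 0⟩, ⟨0, 0⟩, ⟨0, 0⟩, ⟨0, 0⟩], ![⟨0, 0⟩, ⟨0, 0⟩, ⟨0, 0⟩, ⟨0, 0⟩], ![⟨0, 0⟩, ⟨0, 0⟩, ⟨0, 0⟩, ⟨0, 0⟩], ![⟨0, 0⟩, ⟨0, 0⟩, ⟨0, 0⟩, ⟨2, -2⟩], ![⟨0, 0⟩, ⟨0, 0⟩, ⟨0, 0⟩, ⟨0, 0⟩], ![⟨0, 0⟩, ⟨0, 0⟩, ⟨0, 0⟩, ⟨0, 0⟩], ![⟨0, 0⟩, ⟨0, 0⟩, ⟨0, 0⟩, ⟨0, 0⟩]],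
  ![![⟨0, 0⟩, ⟨0, 0⟩, ⟨0, 0⟩, ⟨0, 0⟩], ![⟨0, 0⟩, ⟨0, 0⟩, ⟨0, 0⟩, ⟨0, 0⟩], ![⟨0, 0⟩, ⟨0, 0⟩, ⟨0, 0⟩, ⟨0, 0⟩], ![⟨0, 0⟩, ⟨0, 0⟩, ⟨0, 0⟩, ⟨0, 0⟩], ![⟨0, 0⟩, ⟨0, 0⟩, ⟨0, 0⟩, ⟨2, -2⟩], ![⟨0, 0⟩, ⟨0, 0⟩, ⟨0, 0⟩, ⟨0, 0⟩], ![⟨0, 0⟩, ⟨0, 0⟩, ⟨0, 0⟩, ⟨0, 0⟩]],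
  ![![⟨0, 0⟩, ⟨0, 0⟩, ⟨0, 0⟩, ⟨0, 0⟩], ![⟨0, 0⟩, ⟨0, 0⟩, ⟨0, 0⟩, ⟨0, 0⟩], ![⟨0, 0⟩, ⟨0, 0⟩, ⟨0, 0⟩, ⟨0, 0⟩], ![⟨0, 0⟩, ⟨0, 0⟩, ⟨0, 0⟩, ⟨0, 0⟩], ![⟨0, 0⟩, ⟨0, 0⟩, ⟨0, 0⟩, ⟨0, 0⟩], ![⟨0, 0⟩, ⟨0, 0⟩, ⟨2, -2⟩, ⟨0, 0⟩], ![⟨0, 0⟩, ⟨0, 0⟩, ⟨0, 0⟩, ⟨0, 0⟩]],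
  ![![⟨0, 0⟩, ⟨0, 0⟩, ⟨0, 0⟩, ⟨0, 0⟩], ![⟨0, 0⟩, ⟨0, 0⟩, ⟨0, 0⟩, ⟨0, 0⟩], ![⟨0, 0⟩, ⟨0, 0⟩, ⟨0, 0⟩, ⟨0, 0⟩], ![⟨0, 0⟩, ⟨0, 0⟩, ⟨0, 0⟩, ⟨0, 0⟩], ![⟨0, 0⟩, ⟨0, 0⟩, ⟨0, 0⟩, ⟨0, 0⟩], ![⟨0, 0⟩, ⟨0, 0⟩, ⟨0, 0⟩, ⟨2, -2⟩], ![⟨0, 0⟩, ⟨0, 0⟩, ⟨0, 0⟩, ⟨0, 0⟩]],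
  ![![⟨0, 0⟩, ⟨0, 0⟩, ⟨0, 0⟩, ⟨0, 0⟩], ![⟨0, 0⟩, ⟨0, 0⟩, ⟨0, 0⟩, ⟨0, 0⟩], ![⟨0, 0⟩, ⟨0, 0⟩, ⟨0, 0⟩, ⟨0, 0⟩], ![⟨0, 0⟩, ⟨0, 0⟩, ⟨0, 0⟩, ⟨0, 0⟩], ![⟨0, 0⟩, ⟨0, 0⟩, ⟨0, 0⟩, ⟨0, 0⟩], ![⟨0, 0⟩, ⟨0, 0⟩, ⟨0, 0⟩, ⟨0, 0⟩], ![⟨0, 0⟩, ⟨2, -2⟩, ⟨0, 0⟩, ⟨0, 0⟩]],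
  ![![⟨0, 0⟩, ⟨0, 0⟩, ⟨0, 0⟩, ⟨0, 0⟩], ![⟨0, 0⟩, ⟨0, 0⟩, ⟨0, 0⟩, ⟨0, 0⟩], ![⟨0, 0⟩, ⟨0, 0⟩, ⟨0, 0⟩, ⟨0, 0⟩], ![⟨0, 0⟩, ⟨0, 0⟩, ⟨0, 0⟩, ⟨0, 0⟩], ![⟨0, 0⟩, ⟨0, 0⟩, ⟨0, 0⟩, ⟨0, 0⟩], ![⟨0, 0⟩, ⟨0, 0⟩, ⟨0, 0⟩, ⟨0, 0⟩], ![⟨0, 0⟩, ⟨0, 0⟩, ⟨2, -2⟩, ⟨0, 0⟩]],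
  ![![⟨0, 0⟩, ⟨0, 0⟩, ⟨0, 0⟩, ⟨0, 0⟩], ![⟨0, 0⟩, ⟨0, 0⟩, ⟨0, 0⟩, ⟨0, 0⟩], ![⟨0, 0⟩, ⟨0, 0⟩, ⟨0, 0⟩, ⟨0, 0⟩], ![⟨0, 0⟩, ⟨0, 0⟩, ⟨0, 0⟩, ⟨0, 0⟩], ![⟨0, 0⟩, ⟨0, 0⟩, ⟨0, 0⟩, ⟨0, 0⟩], ![⟨0, 0⟩, ⟨0, 0⟩, ⟨0, 0⟩, ⟨0, 0⟩], ![⟨0, 0⟩, ⟨0, 0⟩, ⟨0, 0⟩, ⟨2, -2⟩]]]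

def ruTa : Fin 20 → Fin 28 → GaussianInt :=
  ![![⟨4, 0⟩, ⟨0, 0⟩, ⟨0, 0⟩, ⟨0, 0⟩, ⟨0, 0⟩, ⟨0, 0⟩, ⟨0, 0⟩, ⟨0, 0⟩, ⟨0, 0⟩, ⟨2, 2⟩, ⟨-2, 4⟩, ⟨-2, 4⟩, ⟨0, 0⟩, ⟨2, 4⟩, ⟨0, 0⟩, ⟨0, -2⟩, ⟨0, 2⟩, ⟨0, -2⟩, ⟨-5, -1⟩, ⟨6, -1⟩, ⟨1, 2⟩, ⟨4, 1⟩, ⟨2, -3⟩, ⟨1, -3⟩, ⟨9, -6⟩, ⟨-1, -6⟩, ⟨3, -3⟩, ⟨5, -3⟩],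
  ![⟨0, -1⟩, ⟨1, 0⟩, ⟨1, 0⟩, ⟨0, 0⟩, ⟨0, 0⟩, ⟨0, 0⟩, ⟨1, 0⟩, ⟨1, 0⟩, ⟨0, 0⟩, ⟨-1, 0⟩, ⟨1, 2⟩, ⟨1, 1⟩, ⟨0, 1⟩, ⟨0, -1⟩, ⟨-1, 2⟩, ⟨0, 0⟩, ⟨0, -1⟩, ⟨-1, 0⟩, ⟨0, 0⟩, ⟨0, -1⟩, ⟨1, 0⟩, ⟨0, -2⟩, ⟨1, 0⟩, ⟨0, -1⟩, ⟨1, -2⟩, ⟨-2, 0⟩, ⟨0, 1⟩, ⟨0, -2⟩],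
  ![⟨0, -1⟩, ⟨1, 0⟩, ⟨-1, 0⟩, ⟨0, 0⟩, ⟨0, 0⟩, ⟨0, 0⟩, ⟨1, 0⟩, ⟨1, 0⟩, ⟨0, 0⟩, ⟨-1, 0⟩, ⟨3, 1⟩, ⟨0, 0⟩, ⟨1, -1⟩, ⟨1, -2⟩, ⟨0, 0⟩, ⟨-1, -2⟩, ⟨1, 0⟩, ⟨-2, 0⟩, ⟨-1, 0⟩, ⟨0, 0⟩, ⟨-1, 1⟩, ⟨-3, 2⟩, ⟨-2, 2⟩, ⟨0, 1⟩, ⟨-4, -1⟩, ⟨-4, 2⟩, ⟨-5, 1⟩, ⟨-3, 0⟩],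
  ![⟨0, -1⟩, ⟨-1, 0⟩, ⟨1, 0⟩, ⟨0, 0⟩, ⟨0, 0⟩, ⟨0, 0⟩, ⟨1, 0⟩, ⟨1, 0⟩, ⟨0, 0⟩, ⟨-1, 0⟩, ⟨0, 1⟩, ⟨0, 0⟩, ⟨-1, 1⟩, ⟨0, 0⟩, ⟨-2, 1⟩, ⟨1, 1⟩, ⟨1, -1⟩, ⟨0, 1⟩, ⟨1, 1⟩, ⟨1, -2⟩, ⟨2, 0⟩, ⟨1, -2⟩, ⟨2, 0⟩, ⟨0, -2⟩, ⟨1, -1⟩, ⟨0, 0⟩, ⟨0, 0⟩, ⟨1, -1⟩],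
  ![⟨0, -1⟩, ⟨-1, 0⟩, ⟨-1, 0⟩, ⟨0, 0⟩, ⟨0, 0⟩, ⟨0, 0⟩, ⟨1, 0⟩, ⟨1, 0⟩, ⟨0, 0⟩, ⟨-1, 0⟩, ⟨2, 0⟩, ⟨-1, -1⟩, ⟨0, -1⟩, ⟨1, -1⟩, ⟨-1, -1⟩, ⟨0, -1⟩, ⟨2, 0⟩, ⟨1, 1⟩, ⟨1, 0⟩, ⟨-1, -2⟩, ⟨-1, 1⟩, ⟨-4, 2⟩, ⟨-2, 2⟩, ⟨-1, -1⟩, ⟨-5, -1⟩, ⟨-2, 1⟩, ⟨-4, -1⟩, ⟨-3, 1⟩],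
  ![⟨1, 0⟩, ⟨1, 0⟩, ⟨1, 0⟩, ⟨1, 0⟩, ⟨1, 0⟩, ⟨0, 0⟩, ⟨0, 0⟩, ⟨0, 0⟩, ⟨1, 0⟩, ⟨0, 4⟩, ⟨-1, 2⟩, ⟨0, 2⟩, ⟨-1, 3⟩, ⟨-1, 1⟩, ⟨-1, 3⟩, ⟨0, 1⟩, ⟨-1, 0⟩, ⟨-2, 0⟩, ⟨-3, -2⟩, ⟨4, 2⟩, ⟨4, -1⟩, ⟨7, -2⟩, ⟨4, -2⟩, ⟨4, -3⟩, ⟨9, 0⟩, ⟨3, -2⟩, ⟨4, 2⟩, ⟨5, -1⟩],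
  ![⟨1, 0⟩, ⟨1, 0⟩, ⟨1, 0⟩, ⟨0, 0⟩, ⟨0, 0⟩, ⟨-1, 0⟩, ⟨-1, 0⟩, ⟨-1, 0⟩, ⟨0, 0⟩, ⟨2, 0⟩, ⟨-1, 1⟩, ⟨2, 3⟩, ⟨0, 1⟩, ⟨1, 1⟩, ⟨1, 1⟩, ⟨1, 0⟩, ⟨-2, 0⟩, ⟨0, -2⟩, ⟨-2, 1⟩, ⟨0, -1⟩, ⟨0, -1⟩, ⟨4, -4⟩, ⟨1, -4⟩, ⟨-1, -1⟩, ⟨4, -4⟩, ⟨-1, -2⟩, ⟨3, -1⟩, ⟨3, -3⟩],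
  ![⟨1, 0⟩, ⟨1, 0⟩, ⟨1, 0⟩, ⟨0, 0⟩, ⟨0, 0⟩, ⟨0, 1⟩, ⟨0, 1⟩, ⟨0, 1⟩, ⟨0, 0⟩, ⟨0, -1⟩, ⟨-2, 3⟩, ⟨1, 2⟩, ⟨0, 1⟩, ⟨0, 0⟩, ⟨-1, 0⟩, ⟨0, 0⟩, ⟨-1, 1⟩, ⟨-2, -2⟩, ⟨0, 0⟩, ⟨1, 2⟩, ⟨0, 1⟩, ⟨2, -3⟩, ⟨1, -1⟩, ⟨2, 1⟩, ⟨4, -2⟩, ⟨0, -2⟩, ⟨2, 0⟩, ⟨3, -4⟩],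
  ![⟨1, 0⟩, ⟨1, 0⟩, ⟨-1, 0⟩, ⟨0, 0⟩, ⟨0, 0⟩, ⟨1, 0⟩, ⟨-1, 0⟩, ⟨0, 0⟩, ⟨0, -1⟩, ⟨2, -1⟩, ⟨1, 1⟩, ⟨0, 1⟩, ⟨1, -1⟩, ⟨1, 1⟩, ⟨1, -1⟩, ⟨-2, -1⟩, ⟨0, 1⟩, ⟨-3, 0⟩, ⟨-2, 1⟩, ⟨3, 0⟩, ⟨0, 1⟩, ⟨0, 1⟩, ⟨-2, 0⟩, ⟨1, 2⟩, ⟨0, -2⟩, ⟨-1, -1⟩, ⟨0, 0⟩, ⟨-1, -2⟩],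
  ![⟨1, 0⟩, ⟨1, 0⟩, ⟨-1, 0⟩, ⟨0, 0⟩, ⟨0, 0⟩, ⟨0, -1⟩, ⟨0, 1⟩, ⟨0, 0⟩, ⟨-1, 0⟩, ⟨-1, -1⟩, ⟨1, 2⟩, ⟨0, -1⟩, ⟨1, -1⟩, ⟨2, 1⟩, ⟨0, -1⟩, ⟨0, -1⟩, ⟨0, 0⟩, ⟨0, 0⟩, ⟨-1, -1⟩, ⟨1, -1⟩, ⟨-1, 1⟩, ⟨-2, 1⟩, ⟨-2, 2⟩, ⟨-1, 1⟩, ⟨-2, -2⟩, ⟨-3, -2⟩, ⟨-3, -3⟩, ⟨-2, 1⟩],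
  ![⟨1, 0⟩, ⟨1, 0⟩, ⟨-1, 0⟩, ⟨0, -1⟩, ⟨1, 0⟩, ⟨0, 0⟩, ⟨0, 0⟩, ⟨0, 1⟩, ⟨0, 0⟩, ⟨1, 0⟩, ⟨1, 1⟩, ⟨-1, 0⟩, ⟨3, 0⟩, ⟨2, 0⟩, ⟨0, 0⟩, ⟨0, -1⟩, ⟨0, 1⟩, ⟨-2, -1⟩, ⟨-2, 0⟩, ⟨2, 0⟩, ⟨0, -2⟩, ⟨-2, -2⟩, ⟨-2, 0⟩, ⟨0, 1⟩, ⟨-1, -2⟩, ⟨-4, -1⟩, ⟨-2, -1⟩, ⟨0, -2⟩],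
  ![⟨1, 0⟩, ⟨1, 0⟩, ⟨-1, 0⟩, ⟨1, 0⟩, ⟨0, -1⟩, ⟨0, 0⟩, ⟨0, 0⟩, ⟨1, 0⟩, ⟨0, 0⟩, ⟨1, 1⟩, ⟨1, 1⟩, ⟨-1, 1⟩, ⟨0, -2⟩, ⟨-1, 0⟩, ⟨2, 0⟩, ⟨-2, -2⟩, ⟨0, 1⟩, ⟨-2, 1⟩, ⟨-3, -1⟩, ⟨3, 1⟩, ⟨-2, 2⟩, ⟨0, 4⟩, ⟨0, 2⟩, ⟨2, 1⟩, ⟨1, 0⟩, ⟨1, 1⟩, ⟨0, 2⟩, ⟨0, 1⟩],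
  ![⟨1, 0⟩, ⟨-1, 0⟩, ⟨1, 0⟩, ⟨0, 0⟩, ⟨0, -1⟩, ⟨0, 0⟩, ⟨0, 0⟩, ⟨0, -1⟩, ⟨0, 0⟩, ⟨1, 3⟩, ⟨-2, 1⟩, ⟨-1, 2⟩, ⟨-1, 1⟩, ⟨-1, 2⟩, ⟨0, 1⟩, ⟨1, 0⟩, ⟨-1, 0⟩, ⟨2, 1⟩, ⟨-2, -1⟩, ⟨3, -1⟩, ⟨1, 1⟩, ⟨4, 1⟩, ⟨4, -1⟩, ⟨0, -4⟩, ⟨7, -1⟩, ⟨4, -2⟩, ⟨4, 0⟩, ⟨5, 0⟩],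
  ![⟨1, 0⟩, ⟨-1, 0⟩, ⟨1, 0⟩, ⟨0, 0⟩, ⟨-1, 0⟩, ⟨0, 0⟩, ⟨0, 0⟩, ⟨-1, 0⟩, ⟨0, 0⟩, ⟨3, 0⟩, ⟨-2, 1⟩, ⟨0, 2⟩, ⟨-1, 1⟩, ⟨0, 3⟩, ⟨0, -1⟩, ⟨0, 1⟩, ⟨0, 1⟩, ⟨2, -1⟩, ⟨-2, 2⟩, ⟨3, -2⟩, ⟨2, 1⟩, ⟨6, -2⟩, ⟨3, -3⟩, ⟨-1, -2⟩, ⟨6, -4⟩, ⟨2, -5⟩, ⟨5, -2⟩, ⟨5, -3⟩],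
  ![⟨1, 0⟩, ⟨-1, 0⟩, ⟨1, 0⟩, ⟨1, 0⟩, ⟨0, 0⟩, ⟨0, 1⟩, ⟨0, 1⟩, ⟨0, 0⟩, ⟨0, -1⟩, ⟨1, 1⟩, ⟨-3, 2⟩, ⟨0, 1⟩, ⟨-2, 2⟩, ⟨-2, 2⟩, ⟨-1, -1⟩, ⟨1, 1⟩, ⟨0, 0⟩, ⟨0, 0⟩, ⟨0, 1⟩, ⟨4, 1⟩, ⟨1, 2⟩, ⟨5, -2⟩, ⟨3, -1⟩, ⟨1, -2⟩, ⟨7, -2⟩, ⟨4, -3⟩, ⟨4, 0⟩, ⟨6, -1⟩],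
  ![⟨1, 0⟩, ⟨-1, 0⟩, ⟨1, 0⟩, ⟨0, -1⟩, ⟨0, 0⟩, ⟨1, 0⟩, ⟨1, 0⟩, ⟨0, 0⟩, ⟨1, 0⟩, ⟨0, 3⟩, ⟨-2, 2⟩, ⟨-2, 1⟩, ⟨0, 3⟩, ⟨0, 4⟩, ⟨-2, 1⟩, ⟨1, 2⟩, ⟨1, 0⟩, ⟨1, 0⟩, ⟨-2, -1⟩, ⟨5, 0⟩, ⟨5, -1⟩, ⟨5, -3⟩, ⟨5, -3⟩, ⟨2, -5⟩, ⟨9, -2⟩, ⟨2, -6⟩, ⟨4, -2⟩, ⟨5, -2⟩],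
  ![⟨1, 0⟩, ⟨-1, 0⟩, ⟨-1, 0⟩, ⟨0, -1⟩, ⟨0, 0⟩, ⟨0, 1⟩, ⟨0, -1⟩, ⟨-1, 0⟩, ⟨0, 0⟩, ⟨4, 1⟩, ⟨0, -1⟩, ⟨-2, 1⟩, ⟨1, 0⟩, ⟨1, 2⟩, ⟨1, -1⟩, ⟨0, -2⟩, ⟨0, 2⟩, ⟨1, -2⟩, ⟨-2, 1⟩, ⟨1, -1⟩, ⟨0, 0⟩, ⟨0, 0⟩, ⟨0, -3⟩, ⟨-2, 0⟩, ⟨0, -3⟩, ⟨-1, -2⟩, ⟨1, -1⟩, ⟨3, -2⟩],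
  ![⟨1, 0⟩, ⟨-1, 0⟩, ⟨-1, 0⟩, ⟨-1, 0⟩, ⟨0, 0⟩, ⟨-1, 0⟩, ⟨-1, 0⟩, ⟨0, 1⟩, ⟨0, 0⟩, ⟨1, -3⟩, ⟨-1, -1⟩, ⟨-1, 0⟩, ⟨1, -3⟩, ⟨3, -1⟩, ⟨2, -2⟩, ⟨1, -1⟩, ⟨1, 1⟩, ⟨1, -1⟩, ⟨1, 2⟩, ⟨-3, -2⟩, ⟨-5, -2⟩, ⟨-6, 0⟩, ⟨-5, -1⟩, ⟨-2, 1⟩, ⟨-4, -2⟩, ⟨-4, 1⟩, ⟨-3, -4⟩, ⟨-3, 0⟩],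
  ![⟨1, 0⟩, ⟨-1, 0⟩, ⟨-1, 0⟩, ⟨0, 0⟩, ⟨0, -1⟩, ⟨0, 0⟩, ⟨0, 0⟩, ⟨0, 0⟩, ⟨1, 0⟩, ⟨2, 3⟩, ⟨0, 0⟩, ⟨-2, 0⟩, ⟨0, -1⟩, ⟨1, 1⟩, ⟨1, -1⟩, ⟨0, -1⟩, ⟨1, 1⟩, ⟨1, 0⟩, ⟨-3, -1⟩, ⟨2, 0⟩, ⟨-2, 0⟩, ⟨0, 3⟩, ⟨-1, 0⟩, ⟨-1, -2⟩, ⟨1, -1⟩, ⟨1, -1⟩, ⟨-2, -1⟩, ⟨1, 2⟩],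
  ![⟨1, 0⟩, ⟨-1, 0⟩, ⟨-1, 0⟩, ⟨0, 0⟩, ⟨1, 0⟩, ⟨0, 0⟩, ⟨0, 0⟩, ⟨0, 0⟩, ⟨0, -1⟩, ⟨2, 2⟩, ⟨0, 0⟩, ⟨-2, -1⟩, ⟨1, 0⟩, ⟨1, 0⟩, ⟨0, -1⟩, ⟨1, -1⟩, ⟨1, 0⟩, ⟨1, 0⟩, ⟨-1, 0⟩, ⟨2, -1⟩, ⟨-2, -1⟩, ⟨-2, 1⟩, ⟨-3, 1⟩, ⟨-3, -2⟩, ⟨-1, -2⟩, ⟨-1, -1⟩, ⟨-3, -1⟩, ⟨1, 2⟩]]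

def ruCRj : Fin 28 → Fin 28 → GaussianInt :=
  ![![⟨0, 0⟩, ⟨0, 1⟩, ⟨1, 2⟩, ⟨0, 0⟩, ⟨0, 0⟩, ⟨0, 0⟩, ⟨-1, 2⟩, ⟨0, -1⟩, ⟨0, -1⟩, ⟨-2, 1⟩, ⟨-3, 0⟩, ⟨0, 1⟩, ⟨-4, 2⟩, ⟨-2, -1⟩, ⟨-3, -3⟩, ⟨0, 3⟩, ⟨0, -4⟩, ⟨2, 1⟩, ⟨1, -1⟩, ⟨0, 2⟩, ⟨-1, 5⟩, ⟨7, 4⟩, ⟨2, 6⟩, ⟨0, -2⟩, ⟨4, 5⟩, ⟨6, 0⟩, ⟨-1, 4⟩, ⟨5, 7⟩],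
  ![⟨0, 1⟩, ⟨0, 0⟩, ⟨1, 2⟩, ⟨1, 0⟩, ⟨0, 0⟩, ⟨0, 0⟩, ⟨1, 1⟩, ⟨-2, -1⟩, ⟨-1, -1⟩, ⟨3, 5⟩, ⟨-2, -2⟩, ⟨-3, 0⟩, ⟨-2, 3⟩, ⟨-2, 1⟩, ⟨-3, 0⟩, ⟨0, 2⟩, ⟨-2, -2⟩, ⟨3, -1⟩, ⟨-3, -1⟩, ⟨3, 2⟩, ⟨4, 3⟩, ⟨10, 2⟩, ⟨7, 3⟩, ⟨-1, 0⟩, ⟨7, 5⟩, ⟨5, -3⟩, ⟨2, 8⟩, ⟨11, 6⟩],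
  ![⟨0, 0⟩, ⟨0, 0⟩, ⟨0, -1⟩, ⟨-1, 2⟩, ⟨0, 0⟩, ⟨0, 0⟩, ⟨1, 2⟩, ⟨0, 0⟩, ⟨1, 2⟩, ⟨-7, 2⟩, ⟨1, 2⟩, ⟨1, -3⟩, ⟨-1, -1⟩, ⟨1, -3⟩, ⟨-1, -1⟩, ⟨1, -1⟩, ⟨0, 1⟩, ⟨1, -1⟩, ⟨1, -5⟩, ⟨-4, 4⟩, ⟨-2, 2⟩, ⟨-5, 5⟩, ⟨-2, 3⟩, ⟨0, 0⟩, ⟨-4, 3⟩, ⟨0, 2⟩, ⟨-7, -2⟩, ⟨-5, 5⟩],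
  ![⟨0, 0⟩, ⟨0, 0⟩, ⟨0, 0⟩, ⟨-2, 1⟩, ⟨0, 0⟩, ⟨0, 0⟩, ⟨0, 0⟩, ⟨-1, 1⟩, ⟨-1, 1⟩, ⟨0, -2⟩, ⟨0, -1⟩, ⟨0, 0⟩, ⟨3, -3⟩, ⟨3, -2⟩, ⟨1, 0⟩, ⟨0, -2⟩, ⟨0, 2⟩, ⟨0, -3⟩, ⟨1, 0⟩, ⟨-4, 0⟩, ⟨-3, -3⟩, ⟨-6, 1⟩, ⟨-4, -1⟩, ⟨-2, 4⟩, ⟨-5, -1⟩, ⟨-5, 2⟩, ⟨-3, -2⟩, ⟨-4, -2⟩],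
  ![⟨0, 0⟩, ⟨0, 0⟩, ⟨-1, -1⟩, ⟨1, 1⟩, ⟨0, 0⟩, ⟨0, 1⟩, ⟨-1, -1⟩, ⟨-1, 0⟩, ⟨1, 0⟩, ⟨4, 2⟩, ⟨2, 0⟩, ⟨1, 0⟩, ⟨0, -1⟩, ⟨0, 0⟩, ⟨3, -1⟩, ⟨-2, -2⟩, ⟨-1, 1⟩, ⟨-2, -2⟩, ⟨-3, 1⟩, ⟨1, 1⟩, ⟨-1, 1⟩, ⟨1, 1⟩, ⟨-2, -2⟩, ⟨-2, 3⟩, ⟨-3, -3⟩, ⟨1, 2⟩, ⟨-1, 1⟩, ⟨0, -1⟩],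
  ![⟨0, 0⟩, ⟨0, 0⟩, ⟨-1, 1⟩, ⟨0, 0⟩, ⟨0, 1⟩, ⟨0, 0⟩, ⟨0, 0⟩, ⟨-2, 1⟩, ⟨-2, 1⟩, ⟨1, -5⟩, ⟨0, -1⟩, ⟨-1, -1⟩, ⟨1, -2⟩, ⟨2, 0⟩, ⟨-2, -3⟩, ⟨-2, -1⟩, ⟨1, 1⟩, ⟨0, -3⟩, ⟨2, 2⟩, ⟨-3, -1⟩, ⟨0, 2⟩, ⟨-1, 1⟩, ⟨-2, 3⟩, ⟨-1, 8⟩, ⟨-7, 1⟩, ⟨-5, 0⟩, ⟨-2, 0⟩, ⟨0, -1⟩],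
  ![⟨0, 0⟩, ⟨0, 0⟩, ⟨0, 0⟩, ⟨1, 1⟩, ⟨0, 0⟩, ⟨0, 0⟩, ⟨-2, -1⟩, ⟨1, -1⟩, ⟨1, -1⟩, ⟨1, 3⟩, ⟨0, -1⟩, ⟨2, 2⟩, ⟨-3, -1⟩, ⟨-3, 0⟩, ⟨3, -1⟩, ⟨-2, 1⟩, ⟨1, -1⟩, ⟨-2, 2⟩, ⟨-2, 0⟩, ⟨3, 2⟩, ⟨-2, 1⟩, ⟨5, 4⟩, ⟨-1, 0⟩, ⟨2, -3⟩, ⟨3, 0⟩, ⟨5, 4⟩, ⟨2, 2⟩, ⟨-1, 4⟩],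
  ![⟨0, 0⟩, ⟨0, 0⟩, ⟨0, 0⟩, ⟨-1, -1⟩, ⟨0, 0⟩, ⟨0, 0⟩, ⟨0, 0⟩, ⟨-1, 2⟩, ⟨0, 0⟩, ⟨2, -4⟩, ⟨1, 0⟩, ⟨0, 0⟩, ⟨3, 0⟩, ⟨3, 0⟩, ⟨1, -1⟩, ⟨1, 0⟩, ⟨0, 1⟩, ⟨0, -2⟩, ⟨1, 3⟩, ⟨-2, -3⟩, ⟨-1, -4⟩, ⟨-4, -6⟩, ⟨-3, -3⟩, ⟨-2, 2⟩, ⟨-4, -5⟩, ⟨-6, -2⟩, ⟨-1, -4⟩, ⟨-2, -6⟩],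
  ![⟨0, 0⟩, ⟨0, 0⟩, ⟨2, 0⟩, ⟨-1, 1⟩, ⟨0, 0⟩, ⟨0, 0⟩, ⟨0, 0⟩, ⟨0, 0⟩, ⟨0, 1⟩, ⟨-4, 0⟩, ⟨-2, 0⟩, ⟨1, 2⟩, ⟨-1, 0⟩, ⟨0, -1⟩, ⟨0, 1⟩, ⟨1, 1⟩, ⟨0, -1⟩, ⟨0, -1⟩, ⟨2, -2⟩, ⟨-3, 2⟩, ⟨-1, -1⟩, ⟨0, 1⟩, ⟨1, -1⟩, ⟨2, -2⟩, ⟨2, 1⟩, ⟨0, 3⟩, ⟨1, 0⟩, ⟨-2, 0⟩],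
  ![⟨0, 0⟩, ⟨0, 0⟩, ⟨2, 0⟩, ⟨0, 0⟩, ⟨0, 0⟩, ⟨0, 0⟩, ⟨0, 0⟩, ⟨0, 0⟩, ⟨0, 0⟩, ⟨-1, 0⟩, ⟨-1, 1⟩, ⟨1, 2⟩, ⟨-1, 2⟩, ⟨-1, 0⟩, ⟨0, 2⟩, ⟨1, 2⟩, ⟨-1, -2⟩, ⟨0, 0⟩, ⟨1, 0⟩, ⟨0, 0⟩, ⟨1, -1⟩, ⟨3, -3⟩, ⟨3, -2⟩, ⟨2, -2⟩, ⟨4, -1⟩, ⟨1, 0⟩, ⟨3, 1⟩, ⟨2, -2⟩],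
  ![⟨0, 0⟩, ⟨0, 0⟩, ⟨0, 0⟩, ⟨0, 0⟩, ⟨0, 0⟩, ⟨0, 0⟩, ⟨0, 0⟩, ⟨0, 0⟩, ⟨0, 0⟩, ⟨1, 1⟩, ⟨1, 0⟩, ⟨0, 0⟩, ⟨0, 0⟩, ⟨0, 0⟩, ⟨0, 0⟩, ⟨0, 0⟩, ⟨0, 0⟩, ⟨0, 0⟩, ⟨-1, 0⟩, ⟨1, -1⟩, ⟨0, 0⟩, ⟨1, 0⟩, ⟨0, 0⟩, ⟨0, 0⟩, ⟨0, -1⟩, ⟨0, 0⟩, ⟨0, 1⟩, ⟨0, 0⟩],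
  ![⟨0, 0⟩, ⟨0, 0⟩, ⟨0, 0⟩, ⟨0, 0⟩, ⟨0, 0⟩, ⟨0, 0⟩, ⟨-2, 0⟩, ⟨0, 0⟩, ⟨0, 0⟩, ⟨1, -3⟩, ⟨-1, -1⟩, ⟨2, 1⟩, ⟨-1, -1⟩, ⟨0, 0⟩, ⟨3, -1⟩, ⟨-1, 1⟩, ⟨1, -1⟩, ⟨-1, 1⟩, ⟨1, 2⟩, ⟨-1, -1⟩, ⟨-3, -1⟩, ⟨0, -1⟩, ⟨-3, -1⟩, ⟨1, 0⟩, ⟨-2, -2⟩, ⟨1, 2⟩, ⟨2, -2⟩, ⟨-3, -1⟩],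
  ![⟨0, 0⟩, ⟨0, 0⟩, ⟨0, 0⟩, ⟨-2, 0⟩, ⟨0, 0⟩, ⟨0, 0⟩, ⟨0, 0⟩, ⟨0, 0⟩, ⟨0, 0⟩, ⟨-1, 1⟩, ⟨0, 0⟩, ⟨0, 0⟩, ⟨2, -1⟩, ⟨3, -1⟩, ⟨1, -1⟩, ⟨1, -1⟩, ⟨0, 0⟩, ⟨1, -1⟩, ⟨0, -1⟩, ⟨-2, 0⟩, ⟨-3, -2⟩, ⟨-5, 1⟩, ⟨-4, -1⟩, ⟨-3, -1⟩, ⟨-3, -2⟩, ⟨-3, 1⟩, ⟨-4, -2⟩, ⟨-3, 1⟩],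
  ![⟨0, 0⟩, ⟨0, 0⟩, ⟨0, 0⟩, ⟨0, 0⟩, ⟨0, 0⟩, ⟨0, 0⟩, ⟨0, 0⟩, ⟨0, 0⟩, ⟨0, 0⟩, ⟨1, 1⟩, ⟨1, -1⟩, ⟨0, 0⟩, ⟨0, 0⟩, ⟨1, 0⟩, ⟨1, -1⟩, ⟨0, 0⟩, ⟨1, -1⟩, ⟨0, 0⟩, ⟨-1, 0⟩, ⟨0, -1⟩, ⟨-2, -1⟩, ⟨0, 0⟩, ⟨-2, 0⟩, ⟨-1, -1⟩, ⟨-2, -2⟩, ⟨-1, 1⟩, ⟨-2, 0⟩, ⟨-2, 1⟩],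
  ![⟨0, 0⟩, ⟨0, 0⟩, ⟨0, 0⟩, ⟨0, 0⟩, ⟨0, 0⟩, ⟨0, 0⟩, ⟨0, 0⟩, ⟨0, 0⟩, ⟨0, 0⟩, ⟨0, 0⟩, ⟨0, 0⟩, ⟨0, 0⟩, ⟨0, 0⟩, ⟨1, -1⟩, ⟨0, -1⟩, ⟨0, 0⟩, ⟨1, -1⟩, ⟨0, 0⟩, ⟨0, 0⟩, ⟨-1, 0⟩, ⟨-2, 0⟩, ⟨-1, 0⟩, ⟨-2, 1⟩, ⟨-1, 0⟩, ⟨-2, -1⟩, ⟨-1, 1⟩, ⟨-2, 0⟩, ⟨-1, 1⟩],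
  ![⟨0, 0⟩, ⟨0, 0⟩, ⟨0, 0⟩, ⟨0, 0⟩, ⟨0, 0⟩, ⟨0, 0⟩, ⟨0, 0⟩, ⟨0, 0⟩, ⟨-2, 0⟩, ⟨2, -2⟩, ⟨0, 0⟩, ⟨0, 0⟩, ⟨1, -1⟩, ⟨1, -1⟩, ⟨1, -1⟩, ⟨0, -1⟩, ⟨0, 0⟩, ⟨0, 0⟩, ⟨1, 1⟩, ⟨-1, -2⟩, ⟨-3, 0⟩, ⟨-3, 0⟩, ⟨-3, 1⟩, ⟨-2, 2⟩, ⟨-4, -3⟩, ⟨-2, 1⟩, ⟨-1, 0⟩, ⟨-1, -1⟩],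
  ![⟨0, 0⟩, ⟨0, 0⟩, ⟨0, 0⟩, ⟨0, 0⟩, ⟨0, 0⟩, ⟨0, 0⟩, ⟨0, 0⟩, ⟨0, 0⟩, ⟨0, 0⟩, ⟨1, 1⟩, ⟨0, 0⟩, ⟨0, 0⟩, ⟨0, 0⟩, ⟨1, -1⟩, ⟨0, 0⟩, ⟨0, 0⟩, ⟨0, -1⟩, ⟨0, 0⟩, ⟨-1, 0⟩, ⟨0, 0⟩, ⟨-1, 0⟩, ⟨0, 0⟩, ⟨-1, 0⟩, ⟨-1, 0⟩, ⟨-1, -1⟩, ⟨0, 1⟩, ⟨-1, 1⟩, ⟨0, 1⟩],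
  ![⟨0, 0⟩, ⟨0, 0⟩, ⟨0, 0⟩, ⟨0, 0⟩, ⟨0, 0⟩, ⟨0, 0⟩, ⟨0, 0⟩, ⟨-2, 0⟩, ⟨0, 0⟩, ⟨2, 2⟩, ⟨1, -1⟩, ⟨0, 0⟩, ⟨1, 1⟩, ⟨1, 1⟩, ⟨0, 0⟩, ⟨0, 0⟩, ⟨-1, 1⟩, ⟨1, -2⟩, ⟨-2, 0⟩, ⟨0, 0⟩, ⟨2, -1⟩, ⟨3, -1⟩, ⟨1, -2⟩, ⟨-2, 1⟩, ⟨0, -2⟩, ⟨-1, -2⟩, ⟨0, 0⟩, ⟨2, -1⟩],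
  ![⟨0, 0⟩, ⟨0, 0⟩, ⟨2, 2⟩, ⟨0, 0⟩, ⟨0, 0⟩, ⟨0, 0⟩, ⟨0, 0⟩, ⟨0, 0⟩, ⟨0, 0⟩, ⟨0, 0⟩, ⟨-2, -2⟩, ⟨-1, 3⟩, ⟨-3, 1⟩, ⟨-1, -1⟩, ⟨-2, 0⟩, ⟨-1, 3⟩, ⟨1, -3⟩, ⟨0, 0⟩, ⟨0, 1⟩, ⟨0, 0⟩, ⟨1, 1⟩, ⟨7, 1⟩, ⟨4, 2⟩, ⟨3, -1⟩, ⟨4, 4⟩, ⟨2, 2⟩, ⟨2, 6⟩, ⟨4, 2⟩],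
  ![⟨0, 0⟩, ⟨0, 0⟩, ⟨0, 0⟩, ⟨0, 0⟩, ⟨0, 0⟩, ⟨0, 0⟩, ⟨0, 0⟩, ⟨0, 0⟩, ⟨0, 0⟩, ⟨0, 0⟩, ⟨0, -2⟩, ⟨0, 0⟩, ⟨0, 0⟩, ⟨0, 0⟩, ⟨0, 0⟩, ⟨0, 0⟩, ⟨0, 0⟩, ⟨0, 0⟩, ⟨0, 0⟩, ⟨-1, 0⟩, ⟨0, 0⟩, ⟨0, 0⟩, ⟨0, 0⟩, ⟨0, 0⟩, ⟨-1, 1⟩, ⟨0, 1⟩, ⟨0, 1⟩, ⟨-1, 1⟩],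
  ![⟨0, 0⟩, ⟨0, 0⟩, ⟨0, 0⟩, ⟨0, 0⟩, ⟨0, 0⟩, ⟨0, 0⟩, ⟨0, 0⟩, ⟨0, 0⟩, ⟨0, 0⟩, ⟨0, 0⟩, ⟨0, 0⟩, ⟨0, 0⟩, ⟨0, 0⟩, ⟨0, -2⟩, ⟨0, 0⟩, ⟨0, 0⟩, ⟨0, 0⟩, ⟨0, 0⟩, ⟨0, 0⟩, ⟨-1, 1⟩, ⟨-1, 0⟩, ⟨-1, 1⟩, ⟨-1, 1⟩, ⟨0, 0⟩, ⟨-1, 1⟩, ⟨0, 1⟩, ⟨-1, 1⟩, ⟨0, 1⟩],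
  ![⟨0, 0⟩, ⟨0, 0⟩, ⟨0, 0⟩, ⟨0, 0⟩, ⟨0, 0⟩, ⟨0, 0⟩, ⟨0, 0⟩, ⟨0, 0⟩, ⟨0, 0⟩, ⟨0, 0⟩, ⟨0, 0⟩, ⟨0, 0⟩, ⟨0, 0⟩, ⟨0, 0⟩, ⟨0, -2⟩, ⟨0, 0⟩, ⟨0, 0⟩, ⟨0, 0⟩, ⟨0, 0⟩, ⟨0, 0⟩, ⟨-1, 1⟩, ⟨0, 1⟩, ⟨-1, 1⟩, ⟨-1, 0⟩, ⟨-1, 0⟩, ⟨0, 0⟩, ⟨-1, 0⟩, ⟨0, 1⟩],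
  ![⟨0, 0⟩, ⟨0, 0⟩, ⟨0, 0⟩, ⟨0, 0⟩, ⟨0, 0⟩, ⟨0, 0⟩, ⟨0, 0⟩, ⟨0, 0⟩, ⟨0, 0⟩, ⟨0, 0⟩, ⟨0, 0⟩, ⟨0, 0⟩, ⟨0, 0⟩, ⟨0, 0⟩, ⟨0, 0⟩, ⟨0, 0⟩, ⟨0, -2⟩, ⟨0, 0⟩, ⟨0, 0⟩, ⟨0, 0⟩, ⟨-1, 1⟩, ⟨0, 0⟩, ⟨0, 1⟩, ⟨-1, 0⟩, ⟨-1, 0⟩, ⟨0, 1⟩, ⟨-1, 1⟩, ⟨0, 1⟩],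
  ![⟨0, 0⟩, ⟨0, 0⟩, ⟨0, 0⟩, ⟨0, 0⟩, ⟨0, 0⟩, ⟨0, 0⟩, ⟨0, 0⟩, ⟨0, 0⟩, ⟨0, 0⟩, ⟨0, 0⟩, ⟨0, 0⟩, ⟨0, 0⟩, ⟨0, 0⟩, ⟨0, 0⟩, ⟨0, 0⟩, ⟨0, 0⟩, ⟨0, 0⟩, ⟨0, 0⟩, ⟨0, 0⟩, ⟨0, 0⟩, ⟨0, 0⟩, ⟨0, 0⟩, ⟨0, 0⟩, ⟨0, 0⟩, ⟨-1, 0⟩, ⟨0, 0⟩, ⟨0, 0⟩, ⟨0, 0⟩],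
  ![⟨0, 0⟩, ⟨0, 0⟩, ⟨0, 0⟩, ⟨0, 0⟩, ⟨0, 0⟩, ⟨0, 0⟩, ⟨0, 0⟩, ⟨0, 0⟩, ⟨0, 0⟩, ⟨0, 0⟩, ⟨0, 0⟩, ⟨0, 0⟩, ⟨0, 0⟩, ⟨0, 0⟩, ⟨0, 0⟩, ⟨0, 0⟩, ⟨0, 0⟩, ⟨0, 0⟩, ⟨0, 0⟩, ⟨0, 0⟩, ⟨0, 0⟩, ⟨0, 0⟩, ⟨0, 0⟩, ⟨1, 0⟩, ⟨0, 0⟩, ⟨0, 0⟩, ⟨0, 0⟩, ⟨0, 0⟩],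
  ![⟨0, 0⟩, ⟨0, 0⟩, ⟨0, 0⟩, ⟨0, 0⟩, ⟨0, 0⟩, ⟨0, 0⟩, ⟨0, 0⟩, ⟨0, 0⟩, ⟨0, 0⟩, ⟨2, 2⟩, ⟨0, 0⟩, ⟨0, 0⟩, ⟨0, 0⟩, ⟨0, 0⟩, ⟨0, 0⟩, ⟨0, 0⟩, ⟨0, 0⟩, ⟨0, 0⟩, ⟨-2, 0⟩, ⟨2, 0⟩, ⟨0, 0⟩, ⟨2, 0⟩, ⟨0, 0⟩, ⟨-1, -1⟩, ⟨1, -1⟩, ⟨1, 0⟩, ⟨0, 1⟩, ⟨2, 1⟩],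
  ![⟨0, 0⟩, ⟨0, 0⟩, ⟨0, 0⟩, ⟨0, 0⟩, ⟨0, 0⟩, ⟨0, 0⟩, ⟨0, 0⟩, ⟨0, 0⟩, ⟨0, 0⟩, ⟨0, 0⟩, ⟨0, 0⟩, ⟨0, 0⟩, ⟨0, 0⟩, ⟨0, 0⟩, ⟨0, 0⟩, ⟨0, 0⟩, ⟨0, 0⟩, ⟨0, 0⟩, ⟨0, 0⟩, ⟨0, 0⟩, ⟨0, 0⟩, ⟨0, 0⟩, ⟨0, 0⟩, ⟨0, 0⟩, ⟨0, 0⟩, ⟨0, 0⟩, ⟨0, 0⟩, ⟨-1, 0⟩],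
  ![⟨0, 0⟩, ⟨0, 0⟩, ⟨0, 0⟩, ⟨0, 0⟩, ⟨0, 0⟩, ⟨0, 0⟩, ⟨0, 0⟩, ⟨0, 0⟩, ⟨0, 0⟩, ⟨0, 0⟩, ⟨0, 0⟩, ⟨0, 0⟩, ⟨0, 0⟩, ⟨0, 0⟩, ⟨0, 0⟩, ⟨0, 0⟩, ⟨0, 0⟩, ⟨0, 0⟩, ⟨0, 0⟩, ⟨0, 0⟩, ⟨0, 0⟩, ⟨0, 0⟩, ⟨0, 0⟩, ⟨0, 0⟩, ⟨0, 0⟩, ⟨0, 0⟩, ⟨1, 0⟩, ⟨0, 0⟩]]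

def ruCRk : Fin 28 → Fin 28 → GaussianInt :=
  ![![⟨0, 0⟩, ⟨-1, -2⟩, ⟨0, 1⟩, ⟨1, 2⟩, ⟨-1, 2⟩, ⟨1, -2⟩, ⟨0, 0⟩, ⟨-2, 0⟩, ⟨0, 1⟩, ⟨-1, -1⟩, ⟨1, -2⟩, ⟨1, -1⟩, ⟨-4, -1⟩, ⟨0, 2⟩, ⟨-2, -2⟩, ⟨-4, 6⟩, ⟨3, 1⟩, ⟨-1, 1⟩, ⟨-1, 2⟩, ⟨3, 0⟩, ⟨8, 2⟩, ⟨11, 2⟩, ⟨4, 1⟩, ⟨6, 1⟩, ⟨1, 3⟩, ⟨1, -2⟩, ⟨4, 0⟩, ⟨-1, 3⟩],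
  ![⟨0, 0⟩, ⟨-1, -2⟩, ⟨0, 0⟩, ⟨0, -1⟩, ⟨1, 1⟩, ⟨-2, -2⟩, ⟨0, 1⟩, ⟨1, -1⟩, ⟨-1, 0⟩, ⟨-4, -1⟩, ⟨1, -2⟩, ⟨0, -4⟩, ⟨-2, 2⟩, ⟨2, 0⟩, ⟨0, 0⟩, ⟨4, 4⟩, ⟨0, -3⟩, ⟨3, 5⟩, ⟨3, 1⟩, ⟨-2, -5⟩, ⟨0, -3⟩, ⟨-3, -5⟩, ⟨-1, 2⟩, ⟨1, -6⟩, ⟨-3, 1⟩, ⟨-1, 1⟩, ⟨-2, -4⟩, ⟨-2, 6⟩],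
  ![⟨0, 1⟩, ⟨0, 1⟩, ⟨0, 0⟩, ⟨-1, 1⟩, ⟨-2, 1⟩, ⟨-1, -2⟩, ⟨-1, 2⟩, ⟨0, 2⟩, ⟨-1, -1⟩, ⟨-1, -10⟩, ⟨-2, 0⟩, ⟨2, -1⟩, ⟨-1, -1⟩, ⟨4, -1⟩, ⟨0, -4⟩, ⟨3, 2⟩, ⟨2, -1⟩, ⟨2, -1⟩, ⟨5, 4⟩, ⟨-6, -4⟩, ⟨-5, -1⟩, ⟨-4, -6⟩, ⟨-6, 0⟩, ⟨-2, 2⟩, ⟨-6, -3⟩, ⟨-5, -4⟩, ⟨-4, -8⟩, ⟨-6, -2⟩],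
  ![⟨0, 0⟩, ⟨0, 0⟩, ⟨0, 0⟩, ⟨-2, 1⟩, ⟨0, 0⟩, ⟨-2, 0⟩, ⟨0, 0⟩, ⟨1, -1⟩, ⟨0, 0⟩, ⟨-4, 0⟩, ⟨0, -1⟩, ⟨-1, 0⟩, ⟨0, -2⟩, ⟨2, -4⟩, ⟨1, 0⟩, ⟨2, -3⟩, ⟨-1, -2⟩, ⟨2, 0⟩, ⟨2, -1⟩, ⟨-6, 0⟩, ⟨-6, 1⟩, ⟨-8, 5⟩, ⟨-3, 3⟩, ⟨-3, 0⟩, ⟨-4, 3⟩, ⟨-3, 6⟩, ⟨-7, 1⟩, ⟨-3, 5⟩],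
  ![⟨0, 0⟩, ⟨1, 1⟩, ⟨0, 0⟩, ⟨0, -1⟩, ⟨0, 0⟩, ⟨1, -2⟩, ⟨-1, 2⟩, ⟨-1, 2⟩, ⟨-1, -1⟩, ⟨2, -5⟩, ⟨0, 2⟩, ⟨2, 0⟩, ⟨1, 1⟩, ⟨4, 2⟩, ⟨-1, -1⟩, ⟨2, 4⟩, ⟨1, 0⟩, ⟨-1, 2⟩, ⟨1, 2⟩, ⟨2, -5⟩, ⟨1, -5⟩, ⟨1, -9⟩, ⟨-3, -3⟩, ⟨2, -1⟩, ⟨0, -6⟩, ⟨-3, -6⟩, ⟨2, -7⟩, ⟨-2, -5⟩],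
  ![⟨0, 0⟩, ⟨1, -1⟩, ⟨0, 0⟩, ⟨-1, 2⟩, ⟨0, 1⟩, ⟨1, 1⟩, ⟨-1, 0⟩, ⟨-2, -1⟩, ⟨1, 1⟩, ⟨-3, 2⟩, ⟨0, 0⟩, ⟨3, 1⟩, ⟨-1, -2⟩, ⟨-1, -1⟩, ⟨0, -1⟩, ⟨-5, 0⟩, ⟨-1, 2⟩, ⟨-3, -2⟩, ⟨-1, -2⟩, ⟨0, 7⟩, ⟨3, 4⟩, ⟨4, 7⟩, ⟨1, 1⟩, ⟨3, 4⟩, ⟨1, 5⟩, ⟨2, 3⟩, ⟨1, 3⟩, ⟨-2, 2⟩],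
  ![⟨0, 0⟩, ⟨0, 0⟩, ⟨0, 0⟩, ⟨0, 0⟩, ⟨1, 1⟩, ⟨1, -1⟩, ⟨-2, 1⟩, ⟨-1, 1⟩, ⟨0, 0⟩, ⟨0, -4⟩, ⟨-1, 0⟩, ⟨2, 0⟩, ⟨0, 0⟩, ⟨2, 1⟩, ⟨0, -1⟩, ⟨-1, 3⟩, ⟨1, 0⟩, ⟨-2, 2⟩, ⟨2, 2⟩, ⟨1, -2⟩, ⟨2, -3⟩, ⟨1, -4⟩, ⟨-3, -2⟩, ⟨3, 0⟩, ⟨-1, -2⟩, ⟨0, -1⟩, ⟨3, -4⟩, ⟨-3, -2⟩],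
  ![⟨0, 0⟩, ⟨0, 0⟩, ⟨0, 0⟩, ⟨-1, -1⟩, ⟨0, 0⟩, ⟨0, -2⟩, ⟨0, 0⟩, ⟨-2, 1⟩, ⟨1, -1⟩, ⟨5, 1⟩, ⟨1, 0⟩, ⟨-1, 1⟩, ⟨3, 2⟩, ⟨5, 2⟩, ⟨0, 1⟩, ⟨3, 3⟩, ⟨1, 0⟩, ⟨1, 0⟩, ⟨-4, 3⟩, ⟨3, -5⟩, ⟨2, -8⟩, ⟨3, -9⟩, ⟨0, -6⟩, ⟨-2, -4⟩, ⟨4, -7⟩, ⟨-5, -7⟩, ⟨0, -5⟩, ⟨2, -4⟩],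
  ![⟨0, 0⟩, ⟨-2, 0⟩, ⟨0, 0⟩, ⟨0, 0⟩, ⟨0, 0⟩, ⟨-2, 0⟩, ⟨0, 0⟩, ⟨-1, 1⟩, ⟨1, 0⟩, ⟨1, 1⟩, ⟨-1, -2⟩, ⟨-2, 0⟩, ⟨-1, 1⟩, ⟨2, -1⟩, ⟨1, -1⟩, ⟨2, 1⟩, ⟨1, 0⟩, ⟨4, -1⟩, ⟨0, 2⟩, ⟨-3, -2⟩, ⟨-1, -3⟩, ⟨1, -2⟩, ⟨0, -2⟩, ⟨-2, -3⟩, ⟨1, -1⟩, ⟨-1, -1⟩, ⟨-2, -2⟩, ⟨2, 2⟩],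
  ![⟨0, 0⟩, ⟨-2, 0⟩, ⟨0, 0⟩, ⟨0, 0⟩, ⟨0, 0⟩, ⟨0, -2⟩, ⟨0, 0⟩, ⟨0, 2⟩, ⟨0, 0⟩, ⟨1, -4⟩, ⟨0, -1⟩, ⟨-2, -1⟩, ⟨0, 0⟩, ⟨3, 1⟩, ⟨0, 0⟩, ⟨2, 4⟩, ⟨3, 0⟩, ⟨0, 3⟩, ⟨2, 3⟩, ⟨1, -6⟩, ⟨1, -6⟩, ⟨-1, -6⟩, ⟨-1, -2⟩, ⟨3, -2⟩, ⟨0, -2⟩, ⟨-2, -3⟩, ⟨1, -5⟩, ⟨-3, -3⟩],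
  ![⟨0, 0⟩, ⟨0, 0⟩, ⟨0, 0⟩, ⟨0, 0⟩, ⟨-2, 0⟩, ⟨0, -2⟩, ⟨0, 0⟩, ⟨0, 0⟩, ⟨0, 0⟩, ⟨2, -2⟩, ⟨1, 0⟩, ⟨1, 1⟩, ⟨-1, -1⟩, ⟨2, 2⟩, ⟨1, -1⟩, ⟨0, 2⟩, ⟨2, 0⟩, ⟨1, 3⟩, ⟨-2, 2⟩, ⟨2, -5⟩, ⟨0, -1⟩, ⟨3, -2⟩, ⟨0, -2⟩, ⟨1, -3⟩, ⟨1, -4⟩, ⟨-1, -4⟩, ⟨2, -4⟩, ⟨-2, -1⟩],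
  ![⟨0, 0⟩, ⟨0, 0⟩, ⟨0, 0⟩, ⟨0, 0⟩, ⟨0, 0⟩, ⟨0, 0⟩, ⟨0, 0⟩, ⟨-2, 2⟩, ⟨0, 0⟩, ⟨3, -1⟩, ⟨0, 0⟩, ⟨-1, 0⟩, ⟨2, 0⟩, ⟨2, 0⟩, ⟨0, 0⟩, ⟨-1, 1⟩, ⟨0, 2⟩, ⟨-2, -2⟩, ⟨-1, 2⟩, ⟨1, 0⟩, ⟨2, -3⟩, ⟨2, -3⟩, ⟨0, -2⟩, ⟨1, 4⟩, ⟨1, -1⟩, ⟨-3, -2⟩, ⟨1, 0⟩, ⟨2, -4⟩],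
  ![⟨0, 0⟩, ⟨0, 0⟩, ⟨0, 0⟩, ⟨0, 0⟩, ⟨0, 0⟩, ⟨0, 0⟩, ⟨0, 0⟩, ⟨0, 2⟩, ⟨0, 0⟩, ⟨1, -3⟩, ⟨0, 0⟩, ⟨-1, 1⟩, ⟨0, -1⟩, ⟨1, -1⟩, ⟨0, 0⟩, ⟨0, 0⟩, ⟨1, 1⟩, ⟨-3, -1⟩, ⟨1, 2⟩, ⟨0, 0⟩, ⟨-1, -1⟩, ⟨-1, -2⟩, ⟨-1, -1⟩, ⟨3, 3⟩, ⟨-1, 0⟩, ⟨-3, 1⟩, ⟨0, 0⟩, ⟨0, -3⟩],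
  ![⟨0, 0⟩, ⟨0, 0⟩, ⟨0, 0⟩, ⟨-2, 0⟩, ⟨0, 0⟩, ⟨-2, -2⟩, ⟨0, 0⟩, ⟨0, 0⟩, ⟨0, 0⟩, ⟨-1, 1⟩, ⟨1, -1⟩, ⟨-1, 1⟩, ⟨1, -1⟩, ⟨5, -2⟩, ⟨1, 1⟩, ⟨3, 1⟩, ⟨0, -2⟩, ⟨3, 1⟩, ⟨-1, 0⟩, ⟨-3, -4⟩, ⟨-3, -5⟩, ⟨-3, -1⟩, ⟨-2, -1⟩, ⟨-2, -4⟩, ⟨-1, -2⟩, ⟨-5, 1⟩, ⟨-5, -3⟩, ⟨-2, 3⟩],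
  ![⟨0, 0⟩, ⟨0, 0⟩, ⟨0, 0⟩, ⟨0, 0⟩, ⟨0, 0⟩, ⟨0, 0⟩, ⟨-2, 0⟩, ⟨-2, 0⟩, ⟨0, 0⟩, ⟨3, -1⟩, ⟨-1, -1⟩, ⟨2, 2⟩, ⟨-1, 1⟩, ⟨1, 1⟩, ⟨2, -1⟩, ⟨-2, 2⟩, ⟨-1, 1⟩, ⟨-1, -1⟩, ⟨-1, 2⟩, ⟨0, 0⟩, ⟨2, -1⟩, ⟨6, -2⟩, ⟨0, -3⟩, ⟨1, 1⟩, ⟨2, -1⟩, ⟨2, -1⟩, ⟨4, -1⟩, ⟨2, -2⟩],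
  ![⟨0, 0⟩, ⟨0, 0⟩, ⟨0, 0⟩, ⟨0, 0⟩, ⟨0, 0⟩, ⟨0, 0⟩, ⟨0, 0⟩, ⟨-2, 0⟩, ⟨0, 0⟩, ⟨2, 2⟩, ⟨0, 0⟩, ⟨-1, 1⟩, ⟨0, 2⟩, ⟨1, 1⟩, ⟨0, 0⟩, ⟨-1, 0⟩, ⟨-1, 1⟩, ⟨0, -2⟩, ⟨-2, 0⟩, ⟨1, 1⟩, ⟨3, 0⟩, ⟨5, 0⟩, ⟨2, -1⟩, ⟨0, 1⟩, ⟨3, 0⟩, ⟨1, -2⟩, ⟨1, 1⟩, ⟨5, -1⟩],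
  ![⟨0, 0⟩, ⟨0, 0⟩, ⟨0, 0⟩, ⟨0, 0⟩, ⟨0, 0⟩, ⟨0, 0⟩, ⟨0, 0⟩, ⟨-2, 0⟩, ⟨-2, 0⟩, ⟨4, 0⟩, ⟨0, 0⟩, ⟨0, 0⟩, ⟨1, 1⟩, ⟨1, 1⟩, ⟨0, 0⟩, ⟨0, 0⟩, ⟨-2, 1⟩, ⟨0, -2⟩, ⟨-1, 1⟩, ⟨1, -1⟩, ⟨2, 0⟩, ⟨3, -2⟩, ⟨1, -1⟩, ⟨-2, 3⟩, ⟨0, -2⟩, ⟨-1, -2⟩, ⟨2, 1⟩, ⟨5, -2⟩],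
  ![⟨0, 0⟩, ⟨0, 0⟩, ⟨0, 0⟩, ⟨0, 0⟩, ⟨0, 0⟩, ⟨-2, -2⟩, ⟨0, 0⟩, ⟨-2, 2⟩, ⟨0, 0⟩, ⟨3, -1⟩, ⟨1, -1⟩, ⟨0, 0⟩, ⟨2, 0⟩, ⟨5, -1⟩, ⟨1, 1⟩, ⟨3, 1⟩, ⟨0, 0⟩, ⟨1, -2⟩, ⟨-2, 3⟩, ⟨-2, -4⟩, ⟨-1, -7⟩, ⟨0, -7⟩, ⟨-2, -4⟩, ⟨-3, 0⟩, ⟨-2, -4⟩, ⟨-7, -2⟩, ⟨-3, -4⟩, ⟨0, -1⟩],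
  ![⟨0, 0⟩, ⟨-2, -2⟩, ⟨0, 0⟩, ⟨0, 0⟩, ⟨0, 0⟩, ⟨-2, -2⟩, ⟨0, 0⟩, ⟨0, 0⟩, ⟨0, 0⟩, ⟨0, 0⟩, ⟨1, -3⟩, ⟨-1, -1⟩, ⟨-2, 0⟩, ⟨2, 0⟩, ⟨2, 0⟩, ⟨2, 4⟩, ⟨1, -1⟩, ⟨3, 5⟩, ⟨0, 3⟩, ⟨0, -6⟩, ⟨0, -4⟩, ⟨1, -3⟩, ⟨1, -1⟩, ⟨2, -6⟩, ⟨1, -1⟩, ⟨0, 0⟩, ⟨1, -3⟩, ⟨-1, 3⟩],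
  ![⟨0, 0⟩, ⟨0, 0⟩, ⟨0, 0⟩, ⟨0, 0⟩, ⟨0, 0⟩, ⟨-4, 0⟩, ⟨0, 0⟩, ⟨0, 0⟩, ⟨0, 0⟩, ⟨0, 0⟩, ⟨0, -2⟩, ⟨0, 0⟩, ⟨0, 0⟩, ⟨2, -4⟩, ⟨2, 0⟩, ⟨4, -2⟩, ⟨-2, -2⟩, ⟨4, -2⟩, ⟨0, 2⟩, ⟨-7, -2⟩, ⟨-6, -2⟩, ⟨-4, -2⟩, ⟨-2, 0⟩, ⟨-6, -1⟩, ⟨-4, -1⟩, ⟨-4, 3⟩, ⟨-6, 0⟩, ⟨1, 4⟩],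
  ![⟨0, 0⟩, ⟨0, 0⟩, ⟨0, 0⟩, ⟨0, 0⟩, ⟨0, 0⟩, ⟨0, 0⟩, ⟨0, 0⟩, ⟨0, 0⟩, ⟨0, 0⟩, ⟨0, 0⟩, ⟨0, 0⟩, ⟨0, 0⟩, ⟨0, 2⟩, ⟨0, 0⟩, ⟨0, 0⟩, ⟨0, 0⟩, ⟨0, 0⟩, ⟨0, 0⟩, ⟨0, 0⟩, ⟨0, 0⟩, ⟨1, 0⟩, ⟨1, -1⟩, ⟨0, 0⟩, ⟨0, -1⟩, ⟨1, 0⟩, ⟨1, -1⟩, ⟨0, 0⟩, ⟨1, -1⟩],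
  ![⟨0, 0⟩, ⟨0, 0⟩, ⟨0, 0⟩, ⟨0, 0⟩, ⟨0, 0⟩, ⟨0, 0⟩, ⟨0, 0⟩, ⟨0, 0⟩, ⟨0, 0⟩, ⟨0, 0⟩, ⟨0, 0⟩, ⟨0, 2⟩, ⟨0, 0⟩, ⟨0, 0⟩, ⟨0, 0⟩, ⟨0, 0⟩, ⟨0, 0⟩, ⟨0, 0⟩, ⟨0, 0⟩, ⟨0, 0⟩, ⟨0, 0⟩, ⟨1, 0⟩, ⟨1, -1⟩, ⟨1, -1⟩, ⟨1, -1⟩, ⟨0, 0⟩, ⟨1, 0⟩, ⟨0, -1⟩],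
  ![⟨0, 0⟩, ⟨0, 0⟩, ⟨0, 0⟩, ⟨0, 0⟩, ⟨0, 0⟩, ⟨0, 0⟩, ⟨0, 0⟩, ⟨0, 0⟩, ⟨0, 0⟩, ⟨0, 0⟩, ⟨0, 0⟩, ⟨0, 0⟩, ⟨0, 0⟩, ⟨0, 0⟩, ⟨0, 0⟩, ⟨0, 2⟩, ⟨0, 0⟩, ⟨0, 0⟩, ⟨0, 0⟩, ⟨0, 0⟩, ⟨1, -1⟩, ⟨1, -1⟩, ⟨1, 0⟩, ⟨1, 0⟩, ⟨1, 0⟩, ⟨0, -1⟩, ⟨1, 0⟩, ⟨0, 0⟩],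
  ![⟨0, 0⟩, ⟨0, 0⟩, ⟨0, 0⟩, ⟨0, 0⟩, ⟨0, 0⟩, ⟨0, 0⟩, ⟨0, 0⟩, ⟨0, 4⟩, ⟨0, 0⟩, ⟨2, -6⟩, ⟨0, 0⟩, ⟨0, 0⟩, ⟨2, -2⟩, ⟨2, -2⟩, ⟨0, 0⟩, ⟨0, 0⟩, ⟨2, 2⟩, ⟨-4, -2⟩, ⟨2, 4⟩, ⟨-1, -1⟩, ⟨-2, -4⟩, ⟨-4, -6⟩, ⟨-4, -2⟩, ⟨2, 5⟩, ⟨-4, -2⟩, ⟨-6, 1⟩, ⟨-1, -2⟩, ⟨-3, -7⟩],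
  ![⟨0, 0⟩, ⟨0, 0⟩, ⟨0, 0⟩, ⟨0, 0⟩, ⟨0, 0⟩, ⟨0, 0⟩, ⟨0, 0⟩, ⟨0, 0⟩, ⟨0, 0⟩, ⟨0, 0⟩, ⟨0, 0⟩, ⟨0, 0⟩, ⟨0, 0⟩, ⟨0, 0⟩, ⟨0, 0⟩, ⟨0, 0⟩, ⟨0, 0⟩, ⟨0, 2⟩, ⟨0, 0⟩, ⟨1, -1⟩, ⟨0, 0⟩, ⟨0, 0⟩, ⟨0, 0⟩, ⟨1, -1⟩, ⟨1, 0⟩, ⟨1, 0⟩, ⟨1, 0⟩, ⟨0, 0⟩],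
  ![⟨0, 0⟩, ⟨0, 0⟩, ⟨0, 0⟩, ⟨0, 0⟩, ⟨0, 0⟩, ⟨0, 0⟩, ⟨0, 0⟩, ⟨0, 0⟩, ⟨0, 0⟩, ⟨0, 0⟩, ⟨0, 0⟩, ⟨0, 0⟩, ⟨0, 0⟩, ⟨0, 0⟩, ⟨0, 0⟩, ⟨0, 0⟩, ⟨0, 0⟩, ⟨0, 0⟩, ⟨0, 0⟩, ⟨0, 0⟩, ⟨0, 0⟩, ⟨0, 0⟩, ⟨0, 0⟩, ⟨0, 0⟩, ⟨0, 0⟩, ⟨0, 0⟩, ⟨0, 0⟩, ⟨1, 0⟩],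
  ![⟨0, 0⟩, ⟨0, 0⟩, ⟨0, 0⟩, ⟨0, 0⟩, ⟨0, 0⟩, ⟨0, 0⟩, ⟨0, 0⟩, ⟨0, 0⟩, ⟨0, 0⟩, ⟨2, 2⟩, ⟨0, 0⟩, ⟨0, 0⟩, ⟨0, 0⟩, ⟨0, 0⟩, ⟨0, 0⟩, ⟨0, 0⟩, ⟨0, 0⟩, ⟨0, 0⟩, ⟨-2, 0⟩, ⟨2, 0⟩, ⟨0, 0⟩, ⟨2, 0⟩, ⟨0, 0⟩, ⟨-1, -1⟩, ⟨1, -1⟩, ⟨1, 0⟩, ⟨0, 1⟩, ⟨2, 1⟩],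
  ![⟨0, 0⟩, ⟨0, 0⟩, ⟨0, 0⟩, ⟨0, 0⟩, ⟨0, 0⟩, ⟨0, 0⟩, ⟨0, 0⟩, ⟨0, 0⟩, ⟨0, 0⟩, ⟨0, 0⟩, ⟨0, 0⟩, ⟨0, 0⟩, ⟨0, 0⟩, ⟨0, 0⟩, ⟨0, 0⟩, ⟨0, 0⟩, ⟨0, 0⟩, ⟨0, 0⟩, ⟨0, 0⟩, ⟨0, 0⟩, ⟨0, 0⟩, ⟨0, 0⟩, ⟨0, 0⟩, ⟨0, 0⟩, ⟨0, 0⟩, ⟨-1, 0⟩, ⟨0, 0⟩, ⟨0, 0⟩]]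

def ruCSign : Fin 28 → Fin 28 → GaussianInt :=
  ![![⟨-1, 0⟩, ⟨0, 0⟩, ⟨0, 0⟩, ⟨0, 0⟩, ⟨0, 0⟩, ⟨0, 0⟩, ⟨0, 0⟩, ⟨0, 0⟩, ⟨0, 0⟩, ⟨0, 0⟩, ⟨1, -2⟩, ⟨0, 0⟩, ⟨0, 0⟩, ⟨-1, -2⟩, ⟨0, 0⟩, ⟨0, 1⟩, ⟨0, -1⟩, ⟨0, 0⟩, ⟨0, 0⟩, ⟨-2, 2⟩, ⟨0, 0⟩, ⟨0, 1⟩, ⟨1, 2⟩, ⟨0, 0⟩, ⟨-2, 2⟩, ⟨0, 2⟩, ⟨-1, 3⟩, ⟨-1, 2⟩],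
  ![⟨0, 0⟩, ⟨-1, 0⟩, ⟨0, 0⟩, ⟨0, 0⟩, ⟨0, 0⟩, ⟨0, 0⟩, ⟨0, 0⟩, ⟨0, 0⟩, ⟨0, 0⟩, ⟨0, 0⟩, ⟨-1, -1⟩, ⟨0, 0⟩, ⟨-1, 0⟩, ⟨0, 1⟩, ⟨0, 0⟩, ⟨1, 1⟩, ⟨1, 0⟩, ⟨0, 0⟩, ⟨0, 0⟩, ⟨1, 1⟩, ⟨1, 0⟩, ⟨1, -1⟩, ⟨1, -1⟩, ⟨1, -1⟩, ⟨1, 0⟩, ⟨0, 0⟩, ⟨1, -1⟩, ⟨0, 1⟩],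
  ![⟨0, 0⟩, ⟨0, 0⟩, ⟨-1, 0⟩, ⟨0, 0⟩, ⟨0, 0⟩, ⟨0, 0⟩, ⟨0, 0⟩, ⟨0, 0⟩, ⟨0, 0⟩, ⟨0, 0⟩, ⟨2, -1⟩, ⟨0, 0⟩, ⟨1, -2⟩, ⟨1, -1⟩, ⟨0, 0⟩, ⟨-1, -2⟩, ⟨1, 1⟩, ⟨0, 0⟩, ⟨0, 0⟩, ⟨-1, 0⟩, ⟨-1, 0⟩, ⟨-3, 2⟩, ⟨-2, 0⟩, ⟨-1, 1⟩, ⟨-4, -1⟩, ⟨-3, 2⟩, ⟨-3, 0⟩, ⟨-4, 0⟩],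
  ![⟨0, 0⟩, ⟨0, 0⟩, ⟨0, 0⟩, ⟨1, 0⟩, ⟨0, 0⟩, ⟨0, 0⟩, ⟨0, 0⟩, ⟨0, 0⟩, ⟨0, 0⟩, ⟨1, 1⟩, ⟨0, 0⟩, ⟨0, 0⟩, ⟨0, 0⟩, ⟨0, 0⟩, ⟨0, 0⟩, ⟨0, 0⟩, ⟨0, 0⟩, ⟨-1, 1⟩, ⟨-1, 0⟩, ⟨2, 0⟩, ⟨0, 0⟩, ⟨1, -1⟩, ⟨0, 0⟩, ⟨1, 0⟩, ⟨0, -1⟩, ⟨0, 0⟩, ⟨1, 1⟩, ⟨0, 1⟩],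
  ![⟨0, 0⟩, ⟨0, 0⟩, ⟨0, 0⟩, ⟨0, 0⟩, ⟨1, 0⟩, ⟨0, 0⟩, ⟨0, 0⟩, ⟨0, 0⟩, ⟨0, 0⟩, ⟨-1, 3⟩, ⟨0, 0⟩, ⟨-1, -1⟩, ⟨0, 0⟩, ⟨0, 0⟩, ⟨-1, 2⟩, ⟨0, 0⟩, ⟨0, 0⟩, ⟨-1, 0⟩, ⟨0, -2⟩, ⟨1, 2⟩, ⟨1, -1⟩, ⟨0, 1⟩, ⟨1, 0⟩, ⟨1, 0⟩, ⟨1, 2⟩, ⟨0, 2⟩, ⟨-1, 1⟩, ⟨1, 2⟩],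
  ![⟨0, 0⟩, ⟨0, 0⟩, ⟨0, 0⟩, ⟨0, 0⟩, ⟨0, 0⟩, ⟨1, 0⟩, ⟨0, 0⟩, ⟨0, 0⟩, ⟨0, 0⟩, ⟨0, 0⟩, ⟨0, 0⟩, ⟨0, 0⟩, ⟨0, 0⟩, ⟨0, 0⟩, ⟨-1, 0⟩, ⟨0, 0⟩, ⟨0, 0⟩, ⟨-2, 1⟩, ⟨0, -1⟩, ⟨1, 1⟩, ⟨0, 1⟩, ⟨-1, 1⟩, ⟨0, 1⟩, ⟨2, 0⟩, ⟨-1, 1⟩, ⟨1, 1⟩, ⟨1, 1⟩, ⟨-1, 0⟩],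
  ![⟨0, 0⟩, ⟨0, 0⟩, ⟨0, 0⟩, ⟨0, 0⟩, ⟨0, 0⟩, ⟨0, 0⟩, ⟨-1, 0⟩, ⟨0, 0⟩, ⟨0, 0⟩, ⟨0, 0⟩, ⟨-1, -1⟩, ⟨0, 0⟩, ⟨-1, -1⟩, ⟨0, 0⟩, ⟨0, 0⟩, ⟨-1, 1⟩, ⟨0, 0⟩, ⟨0, 0⟩, ⟨0, 0⟩, ⟨-1, 1⟩, ⟨0, 0⟩, ⟨1, 1⟩, ⟨0, 1⟩, ⟨1, 1⟩, ⟨0, 2⟩, ⟨1, 1⟩, ⟨1, 1⟩, ⟨0, 2⟩],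
  ![⟨0, 0⟩, ⟨0, 0⟩, ⟨0, 0⟩, ⟨0, 0⟩, ⟨0, 0⟩, ⟨0, 0⟩, ⟨0, 0⟩, ⟨-1, 0⟩, ⟨0, 0⟩, ⟨0, 0⟩, ⟨0, 0⟩, ⟨0, 0⟩, ⟨1, 1⟩, ⟨1, 1⟩, ⟨0, 0⟩, ⟨0, 0⟩, ⟨-1, 1⟩, ⟨0, 0⟩, ⟨0, 0⟩, ⟨0, 0⟩, ⟨2, -1⟩, ⟨0, -2⟩, ⟨1, -2⟩, ⟨0, 0⟩, ⟨1, -1⟩, ⟨0, -2⟩, ⟨1, -1⟩, ⟨0, -2⟩],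
  ![⟨0, 0⟩, ⟨0, 0⟩, ⟨0, 0⟩, ⟨0, 0⟩, ⟨0, 0⟩, ⟨0, 0⟩, ⟨0, 0⟩, ⟨0, 0⟩, ⟨1, 0⟩, ⟨-1, 3⟩, ⟨0, 0⟩, ⟨0, 0⟩, ⟨0, 0⟩, ⟨0, 0⟩, ⟨0, 0⟩, ⟨0, 0⟩, ⟨0, 0⟩, ⟨0, 0⟩, ⟨-2, -1⟩, ⟨2, 2⟩, ⟨1, 0⟩, ⟨1, 1⟩, ⟨1, 0⟩, ⟨0, -2⟩, ⟨2, 1⟩, ⟨1, 0⟩, ⟨-1, 0⟩, ⟨0, 2⟩],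
  ![⟨0, 0⟩, ⟨0, 0⟩, ⟨0, 0⟩, ⟨0, 0⟩, ⟨0, 0⟩, ⟨0, 0⟩, ⟨0, 0⟩, ⟨0, 0⟩, ⟨0, 0⟩, ⟨-1, 0⟩, ⟨0, 0⟩, ⟨0, 0⟩, ⟨0, 0⟩, ⟨0, 0⟩, ⟨0, 0⟩, ⟨0, 0⟩, ⟨0, 0⟩, ⟨0, 0⟩, ⟨0, 0⟩, ⟨0, 1⟩, ⟨1, 0⟩, ⟨0, 0⟩, ⟨1, 0⟩, ⟨0, 0⟩, ⟨0, 0⟩, ⟨0, 0⟩, ⟨0, 0⟩, ⟨0, 0⟩],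
  ![⟨0, 0⟩, ⟨0, 0⟩, ⟨0, 0⟩, ⟨0, 0⟩, ⟨0, 0⟩, ⟨0, 0⟩, ⟨0, 0⟩, ⟨0, 0⟩, ⟨0, 0⟩, ⟨0, 0⟩, ⟨1, 0⟩, ⟨0, 0⟩, ⟨0, 0⟩, ⟨0, 0⟩, ⟨0, 0⟩, ⟨0, 0⟩, ⟨0, 0⟩, ⟨0, 0⟩, ⟨0, 0⟩, ⟨0, 0⟩, ⟨0, 0⟩, ⟨0, 0⟩, ⟨0, 0⟩, ⟨0, 0⟩, ⟨-1, -1⟩, ⟨-1, 0⟩, ⟨-1, 0⟩, ⟨-1, -1⟩],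
  ![⟨0, 0⟩, ⟨0, 0⟩, ⟨0, 0⟩, ⟨0, 0⟩, ⟨0, 0⟩, ⟨0, 0⟩, ⟨0, 0⟩, ⟨0, 0⟩, ⟨0, 0⟩, ⟨0, 0⟩, ⟨0, 0⟩, ⟨-1, 0⟩, ⟨0, 0⟩, ⟨0, 0⟩, ⟨0, 0⟩, ⟨0, 0⟩, ⟨0, 0⟩, ⟨0, 0⟩, ⟨0, 0⟩, ⟨0, 0⟩, ⟨0, 0⟩, ⟨0, 0⟩, ⟨1, 1⟩, ⟨0, 0⟩, ⟨0, 0⟩, ⟨0, 0⟩, ⟨0, 0⟩, ⟨0, 0⟩],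
  ![⟨0, 0⟩, ⟨0, 0⟩, ⟨0, 0⟩, ⟨0, 0⟩, ⟨0, 0⟩, ⟨0, 0⟩, ⟨0, 0⟩, ⟨0, 0⟩, ⟨0, 0⟩, ⟨0, 0⟩, ⟨0, 0⟩, ⟨0, 0⟩, ⟨1, 0⟩, ⟨0, 0⟩, ⟨0, 0⟩, ⟨0, 0⟩, ⟨0, 0⟩, ⟨0, 0⟩, ⟨0, 0⟩, ⟨0, 0⟩, ⟨0, 0⟩, ⟨-1, -1⟩, ⟨0, 0⟩, ⟨-1, 0⟩, ⟨0, -1⟩, ⟨-1, -1⟩, ⟨0, 0⟩, ⟨-1, -1⟩],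
  ![⟨0, 0⟩, ⟨0, 0⟩, ⟨0, 0⟩, ⟨0, 0⟩, ⟨0, 0⟩, ⟨0, 0⟩, ⟨0, 0⟩, ⟨0, 0⟩, ⟨0, 0⟩, ⟨0, 0⟩, ⟨0, 0⟩, ⟨0, 0⟩, ⟨0, 0⟩, ⟨1, 0⟩, ⟨0, 0⟩, ⟨0, 0⟩, ⟨0, 0⟩, ⟨0, 0⟩, ⟨0, 0⟩, ⟨0, 0⟩, ⟨0, 0⟩, ⟨-1, -1⟩, ⟨0, 0⟩, ⟨0, 0⟩, ⟨-1, -1⟩, ⟨-1, 0⟩, ⟨-1, -1⟩, ⟨-1, 0⟩],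
  ![⟨0, 0⟩, ⟨0, 0⟩, ⟨0, 0⟩, ⟨0, 0⟩, ⟨0, 0⟩, ⟨0, 0⟩, ⟨0, 0⟩, ⟨0, 0⟩, ⟨0, 0⟩, ⟨0, 0⟩, ⟨0, 0⟩, ⟨0, 0⟩, ⟨0, 0⟩, ⟨0, 0⟩, ⟨-1, 0⟩, ⟨0, 0⟩, ⟨0, 0⟩, ⟨0, 0⟩, ⟨0, 0⟩, ⟨0, 0⟩, ⟨1, 1⟩, ⟨0, 0⟩, ⟨1, 1⟩, ⟨0, 0⟩, ⟨0, 0⟩, ⟨0, 0⟩, ⟨0, 0⟩, ⟨0, 0⟩],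
  ![⟨0, 0⟩, ⟨0, 0⟩, ⟨0, 0⟩, ⟨0, 0⟩, ⟨0, 0⟩, ⟨0, 0⟩, ⟨0, 0⟩, ⟨0, 0⟩, ⟨0, 0⟩, ⟨0, 0⟩, ⟨0, 0⟩, ⟨0, 0⟩, ⟨0, 0⟩, ⟨0, 0⟩, ⟨0, 0⟩, ⟨1, 0⟩, ⟨0, 0⟩, ⟨0, 0⟩, ⟨0, 0⟩, ⟨0, 0⟩, ⟨0, 0⟩, ⟨-1, -1⟩, ⟨0, 0⟩, ⟨0, -1⟩, ⟨0, -1⟩, ⟨-1, 0⟩, ⟨0, -1⟩, ⟨0, 0⟩],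
  ![⟨0, 0⟩, ⟨0, 0⟩, ⟨0, 0⟩, ⟨0, 0⟩, ⟨0, 0⟩, ⟨0, 0⟩, ⟨0, 0⟩, ⟨0, 0⟩, ⟨0, 0⟩, ⟨0, 0⟩, ⟨0, 0⟩, ⟨0, 0⟩, ⟨0, 0⟩, ⟨0, 0⟩, ⟨0, 0⟩, ⟨0, 0⟩, ⟨1, 0⟩, ⟨0, 0⟩, ⟨0, 0⟩, ⟨0, 0⟩, ⟨0, 0⟩, ⟨0, 0⟩, ⟨0, 0⟩, ⟨0, -1⟩, ⟨0, -1⟩, ⟨-1, 0⟩, ⟨-1, -1⟩, ⟨-1, 0⟩],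
  ![⟨0, 0⟩, ⟨0, 0⟩, ⟨0, 0⟩, ⟨0, 0⟩, ⟨0, 0⟩, ⟨0, 0⟩, ⟨0, 0⟩, ⟨0, 0⟩, ⟨0, 0⟩, ⟨0, 0⟩, ⟨0, 0⟩, ⟨0, 0⟩, ⟨0, 0⟩, ⟨0, 0⟩, ⟨0, 0⟩, ⟨0, 0⟩, ⟨0, 0⟩, ⟨-1, 0⟩, ⟨0, 0⟩, ⟨1, 1⟩, ⟨0, 0⟩, ⟨0, 0⟩, ⟨0, 0⟩, ⟨0, 0⟩, ⟨0, 0⟩, ⟨0, 0⟩, ⟨0, 0⟩, ⟨0, 0⟩],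
  ![⟨0, 0⟩, ⟨0, 0⟩, ⟨0, 0⟩, ⟨0, 0⟩, ⟨0, 0⟩, ⟨0, 0⟩, ⟨0, 0⟩, ⟨0, 0⟩, ⟨0, 0⟩, ⟨0, 0⟩, ⟨0, 0⟩, ⟨0, 0⟩, ⟨0, 0⟩, ⟨0, 0⟩, ⟨0, 0⟩, ⟨0, 0⟩, ⟨0, 0⟩, ⟨0, 0⟩, ⟨-1, 0⟩, ⟨1, 1⟩, ⟨1, 1⟩, ⟨0, 0⟩, ⟨1, 1⟩, ⟨0, 0⟩, ⟨0, 0⟩, ⟨0, 0⟩, ⟨0, 0⟩, ⟨0, 0⟩],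
  ![⟨0, 0⟩, ⟨0, 0⟩, ⟨0, 0⟩, ⟨0, 0⟩, ⟨0, 0⟩, ⟨0, 0⟩, ⟨0, 0⟩, ⟨0, 0⟩, ⟨0, 0⟩, ⟨0, 0⟩, ⟨0, 0⟩, ⟨0, 0⟩, ⟨0, 0⟩, ⟨0, 0⟩, ⟨0, 0⟩, ⟨0, 0⟩, ⟨0, 0⟩, ⟨0, 0⟩, ⟨0, 0⟩, ⟨1, 0⟩, ⟨0, 0⟩, ⟨0, 0⟩, ⟨0, 0⟩, ⟨0, 0⟩, ⟨0, 0⟩, ⟨0, 0⟩, ⟨0, 0⟩, ⟨0, 0⟩],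
  ![⟨0, 0⟩, ⟨0, 0⟩, ⟨0, 0⟩, ⟨0, 0⟩, ⟨0, 0⟩, ⟨0, 0⟩, ⟨0, 0⟩, ⟨0, 0⟩, ⟨0, 0⟩, ⟨0, 0⟩, ⟨0, 0⟩, ⟨0, 0⟩, ⟨0, 0⟩, ⟨0, 0⟩, ⟨0, 0⟩, ⟨0, 0⟩, ⟨0, 0⟩, ⟨0, 0⟩, ⟨0, 0⟩, ⟨0, 0⟩, ⟨1, 0⟩, ⟨0, 0⟩, ⟨0, 0⟩, ⟨0, 0⟩, ⟨0, 0⟩, ⟨0, 0⟩, ⟨0, 0⟩, ⟨0, 0⟩],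
  ![⟨0, 0⟩, ⟨0, 0⟩, ⟨0, 0⟩, ⟨0, 0⟩, ⟨0, 0⟩, ⟨0, 0⟩, ⟨0, 0⟩, ⟨0, 0⟩, ⟨0, 0⟩, ⟨0, 0⟩, ⟨0, 0⟩, ⟨0, 0⟩, ⟨0, 0⟩, ⟨0, 0⟩, ⟨0, 0⟩, ⟨0, 0⟩, ⟨0, 0⟩, ⟨0, 0⟩, ⟨0, 0⟩, ⟨0, 0⟩, ⟨0, 0⟩, ⟨-1, 0⟩, ⟨0, 0⟩, ⟨0, 0⟩, ⟨0, 0⟩, ⟨0, 0⟩, ⟨0, 0⟩, ⟨0, 0⟩],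
  ![⟨0, 0⟩, ⟨0, 0⟩, ⟨0, 0⟩, ⟨0, 0⟩, ⟨0, 0⟩, ⟨0, 0⟩, ⟨0, 0⟩, ⟨0, 0⟩, ⟨0, 0⟩, ⟨0, 0⟩, ⟨0, 0⟩, ⟨0, 0⟩, ⟨0, 0⟩, ⟨0, 0⟩, ⟨0, 0⟩, ⟨0, 0⟩, ⟨0, 0⟩, ⟨0, 0⟩, ⟨0, 0⟩, ⟨0, 0⟩, ⟨0, 0⟩, ⟨0, 0⟩, ⟨1, 0⟩, ⟨0, 0⟩, ⟨0, 0⟩, ⟨0, 0⟩, ⟨0, 0⟩, ⟨0, 0⟩],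
  ![⟨0, 0⟩, ⟨0, 0⟩, ⟨0, 0⟩, ⟨0, 0⟩, ⟨0, 0⟩, ⟨0, 0⟩, ⟨0, 0⟩, ⟨0, 0⟩, ⟨0, 0⟩, ⟨0, 0⟩, ⟨0, 0⟩, ⟨0, 0⟩, ⟨0, 0⟩, ⟨0, 0⟩, ⟨0, 0⟩, ⟨0, 0⟩, ⟨0, 0⟩, ⟨0, 0⟩, ⟨0, 0⟩, ⟨0, 0⟩, ⟨0, 0⟩, ⟨0, 0⟩, ⟨0, 0⟩, ⟨-1, 0⟩, ⟨0, 0⟩, ⟨0, 0⟩, ⟨0, 0⟩, ⟨0, 0⟩],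
  ![⟨0, 0⟩, ⟨0, 0⟩, ⟨0, 0⟩, ⟨0, 0⟩, ⟨0, 0⟩, ⟨0, 0⟩, ⟨0, 0⟩, ⟨0, 0⟩, ⟨0, 0⟩, ⟨0, 0⟩, ⟨0, 0⟩, ⟨0, 0⟩, ⟨0, 0⟩, ⟨0, 0⟩, ⟨0, 0⟩, ⟨0, 0⟩, ⟨0, 0⟩, ⟨0, 0⟩, ⟨0, 0⟩, ⟨0, 0⟩, ⟨0, 0⟩, ⟨0, 0⟩, ⟨0, 0⟩, ⟨0, 0⟩, ⟨-1, 0⟩, ⟨0, 0⟩, ⟨0, 0⟩, ⟨0, 0⟩],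
  ![⟨0, 0⟩, ⟨0, 0⟩, ⟨0, 0⟩, ⟨0, 0⟩, ⟨0, 0⟩, ⟨0, 0⟩, ⟨0, 0⟩, ⟨0, 0⟩, ⟨0, 0⟩, ⟨0, 0⟩, ⟨0, 0⟩, ⟨0, 0⟩, ⟨0, 0⟩, ⟨0, 0⟩, ⟨0, 0⟩, ⟨0, 0⟩, ⟨0, 0⟩, ⟨0, 0⟩, ⟨0, 0⟩, ⟨0, 0⟩, ⟨0, 0⟩, ⟨0, 0⟩, ⟨0, 0⟩, ⟨0, 0⟩, ⟨0, 0⟩, ⟨-1, 0⟩, ⟨0, 0⟩, ⟨0, 0⟩],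
  ![⟨0, 0⟩, ⟨0, 0⟩, ⟨0, 0⟩, ⟨0, 0⟩, ⟨0, 0⟩, ⟨0, 0⟩, ⟨0, 0⟩, ⟨0, 0⟩, ⟨0, 0⟩, ⟨0, 0⟩, ⟨0, 0⟩, ⟨0, 0⟩, ⟨0, 0⟩, ⟨0, 0⟩, ⟨0, 0⟩, ⟨0, 0⟩, ⟨0, 0⟩, ⟨0, 0⟩, ⟨0, 0⟩, ⟨0, 0⟩, ⟨0, 0⟩, ⟨0, 0⟩, ⟨0, 0⟩, ⟨0, 0⟩, ⟨0, 0⟩, ⟨0, 0⟩, ⟨-1, 0⟩, ⟨0, 0⟩],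
  ![⟨0, 0⟩, ⟨0, 0⟩, ⟨0, 0⟩, ⟨0, 0⟩, ⟨0, 0⟩, ⟨0, 0⟩, ⟨0, 0⟩, ⟨0, 0⟩, ⟨0, 0⟩, ⟨0, 0⟩, ⟨0, 0⟩, ⟨0, 0⟩, ⟨0, 0⟩, ⟨0, 0⟩, ⟨0, 0⟩, ⟨0, 0⟩, ⟨0, 0⟩, ⟨0, 0⟩, ⟨0, 0⟩, ⟨0, 0⟩, ⟨0, 0⟩, ⟨0, 0⟩, ⟨0, 0⟩, ⟨0, 0⟩, ⟨0, 0⟩, ⟨0, 0⟩, ⟨0, 0⟩, ⟨-1, 0⟩]]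

def ruCShift : Fin 28 → Fin 28 → GaussianInt :=
  ![![⟨0, 0⟩, ⟨0, 0⟩, ⟨2, 1⟩, ⟨0, 0⟩, ⟨0, 0⟩, ⟨0, 0⟩, ⟨0, 0⟩, ⟨0, -1⟩, ⟨0, 0⟩, ⟨0, 1⟩, ⟨-3, -1⟩, ⟨0, 3⟩, ⟨-2, 1⟩, ⟨-2, 1⟩, ⟨-2, 1⟩, ⟨0, 3⟩, ⟨0, -2⟩, ⟨2, 0⟩, ⟨0, 1⟩, ⟨1, -1⟩, ⟨3, 0⟩, ⟨8, -1⟩, ⟨6, 0⟩, ⟨1, -3⟩, ⟨7, 1⟩, ⟨3, -1⟩, ⟨5, 3⟩, ⟨5, 1⟩],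
  ![⟨0, 0⟩, ⟨0, 0⟩, ⟨1, -1⟩, ⟨0, 0⟩, ⟨0, 0⟩, ⟨0, -1⟩, ⟨0, 0⟩, ⟨0, 0⟩, ⟨0, 0⟩, ⟨0, 0⟩, ⟨0, 2⟩, ⟨2, 1⟩, ⟨0, 1⟩, ⟨1, 1⟩, ⟨1, 2⟩, ⟨3, 2⟩, ⟨-1, 0⟩, ⟨1, 0⟩, ⟨1, 0⟩, ⟨0, -2⟩, ⟨0, -4⟩, ⟨0, -6⟩, ⟨0, -5⟩, ⟨0, -4⟩, ⟨2, -6⟩, ⟨-1, -3⟩, ⟨3, -5⟩, ⟨-1, -3⟩],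
  ![⟨0, 0⟩, ⟨0, 0⟩, ⟨1, 2⟩, ⟨0, 0⟩, ⟨0, 0⟩, ⟨2, 1⟩, ⟨0, 0⟩, ⟨0, 0⟩, ⟨0, 0⟩, ⟨0, 0⟩, ⟨-2, -1⟩, ⟨-2, 1⟩, ⟨-3, -1⟩, ⟨-3, 0⟩, ⟨-3, 0⟩, ⟨-4, 2⟩, ⟨1, -1⟩, ⟨-3, -1⟩, ⟨1, 0⟩, ⟨3, 4⟩, ⟨3, 4⟩, ⟨6, 5⟩, ⟨4, 4⟩, ⟨5, 4⟩, ⟨3, 8⟩, ⟨4, 3⟩, ⟨3, 8⟩, ⟨4, 1⟩],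
  ![⟨0, 0⟩, ⟨0, 0⟩, ⟨0, 0⟩, ⟨0, 0⟩, ⟨1, 0⟩, ⟨1, 2⟩, ⟨0, 0⟩, ⟨0, -1⟩, ⟨0, 0⟩, ⟨-1, 3⟩, ⟨0, 0⟩, ⟨0, -1⟩, ⟨0, 1⟩, ⟨-3, 0⟩, ⟨-1, 0⟩, ⟨-1, -2⟩, ⟨-2, 1⟩, ⟨-1, -2⟩, ⟨1, -3⟩, ⟨0, 5⟩, ⟨1, 4⟩, ⟨-1, 4⟩, ⟨1, 2⟩, ⟨-1, 2⟩, ⟨0, 3⟩, ⟨3, 2⟩, ⟨0, 4⟩, ⟨2, 1⟩],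
  ![⟨1, 0⟩, ⟨0, 0⟩, ⟨0, 0⟩, ⟨0, 0⟩, ⟨0, 0⟩, ⟨1, -1⟩, ⟨0, 0⟩, ⟨2, -1⟩, ⟨0, 0⟩, ⟨-3, 1⟩, ⟨0, 2⟩, ⟨-1, 1⟩, ⟨-1, 0⟩, ⟨0, 1⟩, ⟨0, 1⟩, ⟨0, 1⟩, ⟨2, -2⟩, ⟨-1, 3⟩, ⟨0, -2⟩, ⟨3, 0⟩, ⟨0, 0⟩, ⟨0, 2⟩, ⟨1, 1⟩, ⟨4, -4⟩, ⟨3, -1⟩, ⟨1, 0⟩, ⟨0, -1⟩, ⟨-3, 1⟩],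
  ![⟨0, 0⟩, ⟨1, 0⟩, ⟨1, 0⟩, ⟨0, 0⟩, ⟨0, 0⟩, ⟨0, 0⟩, ⟨0, 0⟩, ⟨0, 0⟩, ⟨0, 0⟩, ⟨0, 0⟩, ⟨0, 0⟩, ⟨2, 1⟩, ⟨0, 1⟩, ⟨0, 0⟩, ⟨-1, 1⟩, ⟨1, 0⟩, ⟨0, 0⟩, ⟨-1, 0⟩, ⟨-1, 0⟩, ⟨0, 0⟩, ⟨1, -1⟩, ⟨2, -2⟩, ⟨1, -1⟩, ⟨0, -1⟩, ⟨2, -1⟩, ⟨-1, 0⟩, ⟨1, 0⟩, ⟨0, -1⟩],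
  ![⟨0, 0⟩, ⟨0, 0⟩, ⟨1, -1⟩, ⟨1, 0⟩, ⟨0, 0⟩, ⟨1, -1⟩, ⟨0, 0⟩, ⟨2, -1⟩, ⟨0, 0⟩, ⟨-3, 1⟩, ⟨0, 2⟩, ⟨1, 1⟩, ⟨-1, 2⟩, ⟨-1, 2⟩, ⟨0, 2⟩, ⟨0, 3⟩, ⟨1, -2⟩, ⟨0, 4⟩, ⟨1, -2⟩, ⟨2, -2⟩, ⟨3, -1⟩, ⟨2, -2⟩, ⟨3, -1⟩, ⟨4, -6⟩, ⟨5, -3⟩, ⟨3, -2⟩, ⟨4, -2⟩, ⟨-3, -1⟩],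
  ![⟨0, 0⟩, ⟨0, 0⟩, ⟨0, 0⟩, ⟨0, 0⟩, ⟨0, 0⟩, ⟨-1, 1⟩, ⟨0, 0⟩, ⟨1, 2⟩, ⟨1, 0⟩, ⟨-1, -2⟩, ⟨0, 0⟩, ⟨0, 0⟩, ⟨0, -1⟩, ⟨0, -3⟩, ⟨0, 0⟩, ⟨1, -2⟩, ⟨2, 0⟩, ⟨-2, -1⟩, ⟨2, 2⟩, ⟨-2, 1⟩, ⟨-4, -1⟩, ⟨-4, -2⟩, ⟨-3, 0⟩, ⟨1, 1⟩, ⟨-2, 0⟩, ⟨-3, 4⟩, ⟨-4, 0⟩, ⟨-2, -2⟩],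
  ![⟨0, 0⟩, ⟨0, 0⟩, ⟨0, 0⟩, ⟨0, 0⟩, ⟨0, 0⟩, ⟨1, 1⟩, ⟨1, 0⟩, ⟨2, -1⟩, ⟨0, 0⟩, ⟨-4, 2⟩, ⟨0, 1⟩, ⟨-1, -1⟩, ⟨-1, 0⟩, ⟨-3, 0⟩, ⟨-2, 0⟩, ⟨-1, -1⟩, ⟨1, -1⟩, ⟨0, 2⟩, ⟨2, -4⟩, ⟨1, 3⟩, ⟨0, 5⟩, ⟨-2, 6⟩, ⟨1, 4⟩, ⟨2, -1⟩, ⟨1, 4⟩, ⟨3, 2⟩, ⟨-1, 3⟩, ⟨-1, 3⟩],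
  ![⟨0, 0⟩, ⟨0, 0⟩, ⟨0, 0⟩, ⟨0, 0⟩, ⟨0, 0⟩, ⟨0, 0⟩, ⟨0, 0⟩, ⟨1, 1⟩, ⟨0, 0⟩, ⟨-1, -2⟩, ⟨0, 0⟩, ⟨0, 0⟩, ⟨0, -1⟩, ⟨0, -1⟩, ⟨0, 0⟩, ⟨0, 0⟩, ⟨1, -1⟩, ⟨-1, 1⟩, ⟨2, 1⟩, ⟨0, -1⟩, ⟨-2, 0⟩, ⟨-2, -1⟩, ⟨-1, 1⟩, ⟨1, 0⟩, ⟨-2, 0⟩, ⟨-1, 2⟩, ⟨-1, 0⟩, ⟨-2, -1⟩],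
  ![⟨0, 0⟩, ⟨0, 0⟩, ⟨0, 2⟩, ⟨0, 0⟩, ⟨0, 0⟩, ⟨0, 0⟩, ⟨0, 0⟩, ⟨0, 0⟩, ⟨0, 0⟩, ⟨0, 0⟩, ⟨-1, -2⟩, ⟨-2, 1⟩, ⟨-2, -1⟩, ⟨-1, -1⟩, ⟨-2, -1⟩, ⟨-2, 1⟩, ⟨1, -1⟩, ⟨0, -1⟩, ⟨0, 1⟩, ⟨0, 1⟩, ⟨1, 2⟩, ⟨4, 4⟩, ⟨3, 4⟩, ⟨2, 2⟩, ⟨1, 6⟩, ⟨1, 2⟩, ⟨-1, 5⟩, ⟨3, 3⟩],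
  ![⟨0, 0⟩, ⟨0, 0⟩, ⟨0, 0⟩, ⟨0, 0⟩, ⟨0, 0⟩, ⟨0, 0⟩, ⟨0, 0⟩, ⟨0, 0⟩, ⟨0, 0⟩, ⟨0, 0⟩, ⟨0, 0⟩, ⟨0, 0⟩, ⟨1, 0⟩, ⟨0, 0⟩, ⟨0, 0⟩, ⟨0, 0⟩, ⟨1, -1⟩, ⟨0, 0⟩, ⟨0, 0⟩, ⟨0, 0⟩, ⟨-1, 0⟩, ⟨0, 0⟩, ⟨0, 1⟩, ⟨-1, 0⟩, ⟨0, -1⟩, ⟨-1, 0⟩, ⟨-1, 0⟩, ⟨-1, 0⟩],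
  ![⟨0, 0⟩, ⟨0, 0⟩, ⟨0, 0⟩, ⟨0, 0⟩, ⟨0, 0⟩, ⟨0, 2⟩, ⟨0, 0⟩, ⟨0, 0⟩, ⟨0, 0⟩, ⟨0, 0⟩, ⟨-1, 0⟩, ⟨0, 0⟩, ⟨0, 0⟩, ⟨-2, -1⟩, ⟨0, -1⟩, ⟨-1, -2⟩, ⟨-1, 0⟩, ⟨0, -3⟩, ⟨1, 0⟩, ⟨-2, 4⟩, ⟨-1, 4⟩, ⟨-1, 2⟩, ⟨0, 2⟩, ⟨-2, 3⟩, ⟨-1, 2⟩, ⟨1, 2⟩, ⟨-1, 3⟩, ⟨2, 0⟩],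
  ![⟨0, 0⟩, ⟨0, 0⟩, ⟨0, 0⟩, ⟨0, 0⟩, ⟨0, 0⟩, ⟨0, 0⟩, ⟨0, 0⟩, ⟨0, 0⟩, ⟨0, 0⟩, ⟨0, 0⟩, ⟨1, 0⟩, ⟨0, 0⟩, ⟨0, 0⟩, ⟨0, 0⟩, ⟨0, 0⟩, ⟨0, 0⟩, ⟨0, 0⟩, ⟨0, -1⟩, ⟨1, 0⟩, ⟨-1, 0⟩, ⟨0, 0⟩, ⟨0, 0⟩, ⟨0, 0⟩, ⟨0, 1⟩, ⟨-1, -1⟩, ⟨-1, 0⟩, ⟨-1, 0⟩, ⟨-1, -1⟩],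
  ![⟨0, 0⟩, ⟨0, 0⟩, ⟨0, 0⟩, ⟨0, 0⟩, ⟨0, 0⟩, ⟨0, 0⟩, ⟨0, 0⟩, ⟨0, 0⟩, ⟨0, 0⟩, ⟨0, 0⟩, ⟨0, 0⟩, ⟨0, 0⟩, ⟨0, 0⟩, ⟨1, 0⟩, ⟨0, 0⟩, ⟨0, 0⟩, ⟨1, 0⟩, ⟨0, 0⟩, ⟨0, 0⟩, ⟨0, 0⟩, ⟨0, -1⟩, ⟨0, 0⟩, ⟨-1, 0⟩, ⟨0, 0⟩, ⟨0, -1⟩, ⟨-1, 0⟩, ⟨-1, -1⟩, ⟨-1, 0⟩],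
  ![⟨0, 0⟩, ⟨0, 0⟩, ⟨0, 0⟩, ⟨0, 0⟩, ⟨0, 0⟩, ⟨0, 0⟩, ⟨0, 0⟩, ⟨0, 0⟩, ⟨0, 0⟩, ⟨0, 0⟩, ⟨0, 0⟩, ⟨1, 0⟩, ⟨0, 0⟩, ⟨0, 0⟩, ⟨0, 0⟩, ⟨0, 0⟩, ⟨1, 0⟩, ⟨0, -1⟩, ⟨0, 0⟩, ⟨0, 1⟩, ⟨0, 0⟩, ⟨0, 0⟩, ⟨-1, 0⟩, ⟨-1, 0⟩, ⟨-1, -1⟩, ⟨-1, 0⟩, ⟨-1, -1⟩, ⟨-1, 0⟩],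
  ![⟨0, 0⟩, ⟨0, 0⟩, ⟨0, 0⟩, ⟨0, 0⟩, ⟨0, 0⟩, ⟨0, 0⟩, ⟨0, 0⟩, ⟨0, 0⟩, ⟨0, 0⟩, ⟨0, 0⟩, ⟨0, 0⟩, ⟨0, 0⟩, ⟨0, 0⟩, ⟨0, 0⟩, ⟨1, 0⟩, ⟨0, 0⟩, ⟨1, 0⟩, ⟨0, -1⟩, ⟨0, 0⟩, ⟨0, 1⟩, ⟨-1, -1⟩, ⟨0, 0⟩, ⟨-1, 0⟩, ⟨0, 0⟩, ⟨0, -1⟩, ⟨-1, 0⟩, ⟨-1, -1⟩, ⟨-1, 0⟩],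
  ![⟨0, 0⟩, ⟨0, 0⟩, ⟨0, 0⟩, ⟨0, 0⟩, ⟨0, 0⟩, ⟨0, 0⟩, ⟨0, 0⟩, ⟨0, 0⟩, ⟨0, 0⟩, ⟨0, 0⟩, ⟨0, 0⟩, ⟨0, 0⟩, ⟨0, 0⟩, ⟨0, 0⟩, ⟨0, 0⟩, ⟨1, 0⟩, ⟨1, -1⟩, ⟨1, 0⟩, ⟨1, 0⟩, ⟨-1, -1⟩, ⟨-2, -1⟩, ⟨-1, -1⟩, ⟨-1, 0⟩, ⟨-1, -1⟩, ⟨-1, -2⟩, ⟨-1, 0⟩, ⟨-1, -1⟩, ⟨-1, 0⟩],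
  ![⟨0, 0⟩, ⟨0, 0⟩, ⟨0, 0⟩, ⟨0, 0⟩, ⟨0, 0⟩, ⟨0, 0⟩, ⟨0, 0⟩, ⟨0, 0⟩, ⟨0, 0⟩, ⟨0, 0⟩, ⟨0, 0⟩, ⟨0, 0⟩, ⟨0, 0⟩, ⟨0, 0⟩, ⟨0, 0⟩, ⟨0, 0⟩, ⟨0, 0⟩, ⟨0, 0⟩, ⟨1, 0⟩, ⟨0, 0⟩, ⟨0, 0⟩, ⟨0, 0⟩, ⟨0, 0⟩, ⟨0, 0⟩, ⟨0, 0⟩, ⟨0, 0⟩, ⟨0, 0⟩, ⟨0, 0⟩],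
  ![⟨0, 0⟩, ⟨0, 0⟩, ⟨0, 0⟩, ⟨0, 0⟩, ⟨0, 0⟩, ⟨0, 0⟩, ⟨0, 0⟩, ⟨0, 0⟩, ⟨0, 0⟩, ⟨0, 0⟩, ⟨0, 0⟩, ⟨0, 0⟩, ⟨0, 0⟩, ⟨0, 0⟩, ⟨0, 0⟩, ⟨0, 0⟩, ⟨0, 0⟩, ⟨0, 0⟩, ⟨1, -1⟩, ⟨-1, 0⟩, ⟨-1, 0⟩, ⟨-1, 0⟩, ⟨-1, 0⟩, ⟨0, 0⟩, ⟨-1, 0⟩, ⟨0, 0⟩, ⟨0, 0⟩, ⟨-1, 0⟩],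
  ![⟨0, 0⟩, ⟨0, 0⟩, ⟨0, 0⟩, ⟨0, 0⟩, ⟨0, 0⟩, ⟨0, 0⟩, ⟨0, 0⟩, ⟨0, 0⟩, ⟨0, 0⟩, ⟨0, 0⟩, ⟨0, 0⟩, ⟨0, 0⟩, ⟨0, 0⟩, ⟨0, 0⟩, ⟨0, 0⟩, ⟨0, 0⟩, ⟨0, 0⟩, ⟨0, 0⟩, ⟨0, 0⟩, ⟨1, 0⟩, ⟨0, 0⟩, ⟨0, 0⟩, ⟨0, 0⟩, ⟨0, 0⟩, ⟨0, 0⟩, ⟨0, 0⟩, ⟨0, 0⟩, ⟨0, 0⟩],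
  ![⟨0, 0⟩, ⟨0, 0⟩, ⟨0, 0⟩, ⟨0, 0⟩, ⟨0, 0⟩, ⟨0, 0⟩, ⟨0, 0⟩, ⟨0, 0⟩, ⟨0, 0⟩, ⟨0, 0⟩, ⟨0, 0⟩, ⟨0, 0⟩, ⟨0, 0⟩, ⟨0, 0⟩, ⟨0, 0⟩, ⟨0, 0⟩, ⟨0, 0⟩, ⟨0, 0⟩, ⟨0, 0⟩, ⟨0, 0⟩, ⟨1, 0⟩, ⟨0, 0⟩, ⟨0, 0⟩, ⟨0, 0⟩, ⟨0, 0⟩, ⟨0, 0⟩, ⟨0, 0⟩, ⟨0, 0⟩],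
  ![⟨0, 0⟩, ⟨0, 0⟩, ⟨0, 0⟩, ⟨0, 0⟩, ⟨0, 0⟩, ⟨0, 0⟩, ⟨0, 0⟩, ⟨0, 0⟩, ⟨0, 0⟩, ⟨0, 0⟩, ⟨0, 0⟩, ⟨0, 0⟩, ⟨0, 0⟩, ⟨0, 0⟩, ⟨0, 0⟩, ⟨0, 0⟩, ⟨0, 0⟩, ⟨0, 0⟩, ⟨0, 0⟩, ⟨0, 0⟩, ⟨0, 0⟩, ⟨1, 0⟩, ⟨0, 0⟩, ⟨0, 0⟩, ⟨0, 0⟩, ⟨0, 0⟩, ⟨0, 0⟩, ⟨0, 0⟩],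
  ![⟨0, 0⟩, ⟨0, 0⟩, ⟨0, 0⟩, ⟨0, 0⟩, ⟨0, 0⟩, ⟨0, 0⟩, ⟨0, 0⟩, ⟨0, 0⟩, ⟨0, 0⟩, ⟨0, 0⟩, ⟨0, 0⟩, ⟨0, 0⟩, ⟨0, 0⟩, ⟨0, 0⟩, ⟨0, 0⟩, ⟨0, 0⟩, ⟨0, -2⟩, ⟨0, 0⟩, ⟨0, 0⟩, ⟨0, 0⟩, ⟨-1, 1⟩, ⟨0, 0⟩, ⟨0, 1⟩, ⟨-1, 0⟩, ⟨-1, 0⟩, ⟨0, 1⟩, ⟨-1, 1⟩, ⟨0, 1⟩],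
  ![⟨0, 0⟩, ⟨0, 0⟩, ⟨0, 0⟩, ⟨0, 0⟩, ⟨0, 0⟩, ⟨0, 0⟩, ⟨0, 0⟩, ⟨0, 0⟩, ⟨0, 0⟩, ⟨0, 0⟩, ⟨0, 0⟩, ⟨0, 0⟩, ⟨0, 0⟩, ⟨0, 0⟩, ⟨0, 0⟩, ⟨0, 0⟩, ⟨0, 0⟩, ⟨0, 0⟩, ⟨0, 0⟩, ⟨0, 0⟩, ⟨0, 0⟩, ⟨0, 0⟩, ⟨1, 0⟩, ⟨0, 0⟩, ⟨0, 0⟩, ⟨0, 0⟩, ⟨0, 0⟩, ⟨0, 0⟩],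
  ![⟨0, 0⟩, ⟨0, 0⟩, ⟨0, 0⟩, ⟨0, 0⟩, ⟨0, 0⟩, ⟨0, 0⟩, ⟨0, 0⟩, ⟨0, 0⟩, ⟨0, 0⟩, ⟨0, 0⟩, ⟨0, 0⟩, ⟨0, 0⟩, ⟨0, 0⟩, ⟨0, 0⟩, ⟨0, 0⟩, ⟨0, 0⟩, ⟨0, 0⟩, ⟨0, -2⟩, ⟨0, 0⟩, ⟨-1, 1⟩, ⟨0, 0⟩, ⟨0, 0⟩, ⟨0, 0⟩, ⟨-1, 1⟩, ⟨-1, 0⟩, ⟨-1, 0⟩, ⟨-1, 0⟩, ⟨0, 0⟩],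
  ![⟨0, 0⟩, ⟨0, 0⟩, ⟨0, 0⟩, ⟨0, 0⟩, ⟨0, 0⟩, ⟨0, 0⟩, ⟨0, 0⟩, ⟨0, 0⟩, ⟨0, 0⟩, ⟨0, 0⟩, ⟨0, 0⟩, ⟨0, 0⟩, ⟨0, 0⟩, ⟨0, 0⟩, ⟨0, 0⟩, ⟨0, 0⟩, ⟨0, 0⟩, ⟨0, 0⟩, ⟨0, 0⟩, ⟨0, 0⟩, ⟨0, 0⟩, ⟨0, 0⟩, ⟨0, 0⟩, ⟨1, 0⟩, ⟨0, 0⟩, ⟨0, 0⟩, ⟨0, 0⟩, ⟨0, 0⟩],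
  ![⟨0, 0⟩, ⟨0, 0⟩, ⟨0, 0⟩, ⟨0, 0⟩, ⟨0, 0⟩, ⟨0, 0⟩, ⟨0, 0⟩, ⟨0, 0⟩, ⟨0, 0⟩, ⟨0, 0⟩, ⟨0, 0⟩, ⟨0, 0⟩, ⟨0, 0⟩, ⟨0, 0⟩, ⟨0, 0⟩, ⟨0, 0⟩, ⟨0, 0⟩, ⟨0, 0⟩, ⟨0, 0⟩, ⟨0, 0⟩, ⟨0, 0⟩, ⟨0, 0⟩, ⟨0, 0⟩, ⟨0, 0⟩, ⟨1, 0⟩, ⟨0, 0⟩, ⟨0, 0⟩, ⟨0, 0⟩]]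

def ruUa : Fin 28 → Fin 28 → GaussianInt :=
  ![![⟨7, 0⟩, ⟨5, 2⟩, ⟨4, 1⟩, ⟨0, 1⟩, ⟨-1, 1⟩, ⟨3, -1⟩, ⟨3, 0⟩, ⟨2, 1⟩, ⟨2, -1⟩, ⟨4, 2⟩, ⟨3, 1⟩, ⟨3, 0⟩, ⟨3, 0⟩, ⟨2, 0⟩, ⟨4, -2⟩, ⟨3, -1⟩, ⟨4, -1⟩, ⟨3, 3⟩, ⟨5, 0⟩, ⟨-1, 2⟩, ⟨2, -1⟩, ⟨1, 0⟩, ⟨2, 0⟩, ⟨0, 2⟩, ⟨-1, 2⟩, ⟨1, 2⟩, ⟨0, -1⟩, ⟨1, 0⟩],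
  ![⟨0, 0⟩, ⟨7, 0⟩, ⟨4, -1⟩, ⟨4, 4⟩, ⟨0, -2⟩, ⟨-2, 3⟩, ⟨-1, -2⟩, ⟨1, 3⟩, ⟨1, 2⟩, ⟨4, 2⟩, ⟨2, 0⟩, ⟨0, 1⟩, ⟨3, 0⟩, ⟨5, 2⟩, ⟨2, 1⟩, ⟨4, 3⟩, ⟨4, 1⟩, ⟨3, 0⟩, ⟨7, 3⟩, ⟨2, 2⟩, ⟨2, 2⟩, ⟨-1, 2⟩, ⟨1, 0⟩, ⟨-1, -1⟩, ⟨-1, 2⟩, ⟨2, 1⟩, ⟨0, -1⟩, ⟨0, 0⟩],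
  ![⟨0, 0⟩, ⟨0, 0⟩, ⟨7, 0⟩, ⟨3, 0⟩, ⟨3, -1⟩, ⟨-1, -1⟩, ⟨-1, -1⟩, ⟨2, -2⟩, ⟨2, -2⟩, ⟨3, 0⟩, ⟨4, -1⟩, ⟨1, -1⟩, ⟨4, -3⟩, ⟨4, -1⟩, ⟨3, -2⟩, ⟨2, -3⟩, ⟨4, -1⟩, ⟨2, -1⟩, ⟨4, 0⟩, ⟨1, 2⟩, ⟨2, 1⟩, ⟨0, 0⟩, ⟨1, 0⟩, ⟨2, 0⟩, ⟨-1, 1⟩, ⟨2, -1⟩, ⟨0, -1⟩, ⟨1, 1⟩],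
  ![⟨0, 0⟩, ⟨0, 0⟩, ⟨0, 0⟩, ⟨6, 0⟩, ⟨-1, 2⟩, ⟨4, 2⟩, ⟨1, 1⟩, ⟨2, -3⟩, ⟨4, 1⟩, ⟨1, -2⟩, ⟨3, -2⟩, ⟨3, 1⟩, ⟨5, -3⟩, ⟨7, 1⟩, ⟨2, 2⟩, ⟨4, 2⟩, ⟨2, 1⟩, ⟨2, -3⟩, ⟨5, 0⟩, ⟨2, 0⟩, ⟨0, 1⟩, ⟨0, 2⟩, ⟨-1, 1⟩, ⟨-1, -1⟩, ⟨2, 2⟩, ⟨2, 1⟩, ⟨-1, 0⟩, ⟨2, -1⟩],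
  ![⟨0, 0⟩, ⟨0, 0⟩, ⟨0, 0⟩, ⟨0, 0⟩, ⟨7, 0⟩, ⟨0, -5⟩, ⟨5, -3⟩, ⟨3, -2⟩, ⟨1, -2⟩, ⟨2, -1⟩, ⟨2, 0⟩, ⟨4, -4⟩, ⟨1, -2⟩, ⟨5, -1⟩, ⟨3, -4⟩, ⟨2, -3⟩, ⟨4, -1⟩, ⟨3, -1⟩, ⟨1, 0⟩, ⟨-1, 2⟩, ⟨-1, 2⟩, ⟨1, 0⟩, ⟨2, -1⟩, ⟨2, 1⟩, ⟨2, 0⟩, ⟨1, -1⟩, ⟨1, 2⟩, ⟨-1, -1⟩],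
  ![⟨0, 0⟩, ⟨0, 0⟩, ⟨0, 0⟩, ⟨0, 0⟩, ⟨0, 0⟩, ⟨7, 0⟩, ⟨1, 1⟩, ⟨4, 1⟩, ⟨3, 2⟩, ⟨0, 1⟩, ⟨2, 0⟩, ⟨5, 2⟩, ⟨2, -1⟩, ⟨4, 0⟩, ⟨6, 1⟩, ⟨4, -2⟩, ⟨2, 2⟩, ⟨2, 1⟩, ⟨4, 0⟩, ⟨-1, -1⟩, ⟨-1, 0⟩, ⟨2, -1⟩, ⟨1, 2⟩, ⟨-1, 2⟩, ⟨2, 2⟩, ⟨-1, 0⟩, ⟨-1, 1⟩, ⟨2, 1⟩],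
  ![⟨0, 0⟩, ⟨0, 0⟩, ⟨0, 0⟩, ⟨0, 0⟩, ⟨0, 0⟩, ⟨0, 0⟩, ⟨6, 0⟩, ⟨1, -4⟩, ⟨3, -1⟩, ⟨2, -2⟩, ⟨1, -1⟩, ⟨3, -1⟩, ⟨2, -1⟩, ⟨2, 1⟩, ⟨1, -1⟩, ⟨1, 0⟩, ⟨-1, -1⟩, ⟨1, 0⟩, ⟨1, 0⟩, ⟨-1, 1⟩, ⟨-1, -1⟩, ⟨2, 1⟩, ⟨-1, 1⟩, ⟨1, 1⟩, ⟨2, 0⟩, ⟨1, 2⟩, ⟨0, -1⟩, ⟨0, -1⟩],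
  ![⟨0, 0⟩, ⟨0, 0⟩, ⟨0, 0⟩, ⟨0, 0⟩, ⟨0, 0⟩, ⟨0, 0⟩, ⟨0, 0⟩, ⟨6, 0⟩, ⟨4, 3⟩, ⟨5, 0⟩, ⟨4, 0⟩, ⟨5, -1⟩, ⟨5, 1⟩, ⟨6, 1⟩, ⟨4, -1⟩, ⟨3, -2⟩, ⟨3, -1⟩, ⟨4, 0⟩, ⟨6, 0⟩, ⟨0, 2⟩, ⟨0, 0⟩, ⟨2, 2⟩, ⟨1, -1⟩, ⟨1, 2⟩, ⟨1, 2⟩, ⟨-1, 0⟩, ⟨1, 0⟩, ⟨2, 1⟩],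
  ![⟨0, 0⟩, ⟨0, 0⟩, ⟨0, 0⟩, ⟨0, 0⟩, ⟨0, 0⟩, ⟨0, 0⟩, ⟨0, 0⟩, ⟨0, 0⟩, ⟨6, 0⟩, ⟨4, -3⟩, ⟨1, -1⟩, ⟨5, -1⟩, ⟨5, 0⟩, ⟨6, 0⟩, ⟨5, 1⟩, ⟨4, -1⟩, ⟨2, 2⟩, ⟨3, -1⟩, ⟨8, -3⟩, ⟨2, 0⟩, ⟨1, 1⟩, ⟨2, 2⟩, ⟨1, 2⟩, ⟨1, 1⟩, ⟨1, -1⟩, ⟨-1, 2⟩, ⟨0, 1⟩, ⟨2, 1⟩],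
  ![⟨0, 0⟩, ⟨0, 0⟩, ⟨0, 0⟩, ⟨0, 0⟩, ⟨0, 0⟩, ⟨0, 0⟩, ⟨0, 0⟩, ⟨0, 0⟩, ⟨0, 0⟩, ⟨5, 0⟩, ⟨2, 1⟩, ⟨4, -1⟩, ⟨3, 1⟩, ⟨3, 1⟩, ⟨2, -2⟩, ⟨2, -2⟩, ⟨1, -2⟩, ⟨3, 0⟩, ⟨7, 0⟩, ⟨0, 2⟩, ⟨2, 0⟩, ⟨0, 2⟩, ⟨2, 0⟩, ⟨2, 0⟩, ⟨2, 2⟩, ⟨-1, 1⟩, ⟨-1, -1⟩, ⟨-1, 1⟩],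
  ![⟨0, 0⟩, ⟨0, 0⟩, ⟨0, 0⟩, ⟨0, 0⟩, ⟨0, 0⟩, ⟨0, 0⟩, ⟨0, 0⟩, ⟨0, 0⟩, ⟨0, 0⟩, ⟨0, 0⟩, ⟨4, 0⟩, ⟨3, 0⟩, ⟨4, -2⟩, ⟨6, 1⟩, ⟨2, -1⟩, ⟨2, -2⟩, ⟨4, -1⟩, ⟨2, -2⟩, ⟨5, 1⟩, ⟨0, 2⟩, ⟨0, 0⟩, ⟨0, 0⟩, ⟨0, 0⟩, ⟨0, 0⟩, ⟨2, 2⟩, ⟨2, 0⟩, ⟨2, 0⟩, ⟨2, 2⟩],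
  ![⟨0, 0⟩, ⟨0, 0⟩, ⟨0, 0⟩, ⟨0, 0⟩, ⟨0, 0⟩, ⟨0, 0⟩, ⟨0, 0⟩, ⟨0, 0⟩, ⟨0, 0⟩, ⟨0, 0⟩, ⟨0, 0⟩, ⟨5, 0⟩, ⟨4, 0⟩, ⟨7, 2⟩, ⟨6, -1⟩, ⟨5, -2⟩, ⟨5, 0⟩, ⟨4, -1⟩, ⟨6, 0⟩, ⟨0, 0⟩, ⟨0, 0⟩, ⟨0, 2⟩, ⟨2, 2⟩, ⟨2, 2⟩, ⟨2, 2⟩, ⟨0, 0⟩, ⟨0, 2⟩, ⟨2, 0⟩],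
  ![⟨0, 0⟩, ⟨0, 0⟩, ⟨0, 0⟩, ⟨0, 0⟩, ⟨0, 0⟩, ⟨0, 0⟩, ⟨0, 0⟩, ⟨0, 0⟩, ⟨0, 0⟩, ⟨0, 0⟩, ⟨0, 0⟩, ⟨0, 0⟩, ⟨5, 0⟩, ⟨6, 3⟩, ⟨4, 2⟩, ⟨5, 1⟩, ⟨4, 2⟩, ⟨3, -2⟩, ⟨6, 2⟩, ⟨0, 0⟩, ⟨0, 2⟩, ⟨2, 2⟩, ⟨0, 0⟩, ⟨2, 0⟩, ⟨0, 2⟩, ⟨2, 2⟩, ⟨0, 0⟩, ⟨2, 2⟩],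
  ![⟨0, 0⟩, ⟨0, 0⟩, ⟨0, 0⟩, ⟨0, 0⟩, ⟨0, 0⟩, ⟨0, 0⟩, ⟨0, 0⟩, ⟨0, 0⟩, ⟨0, 0⟩, ⟨0, 0⟩, ⟨0, 0⟩, ⟨0, 0⟩, ⟨0, 0⟩, ⟨7, 0⟩, ⟨7, 0⟩, ⟨7, -2⟩, ⟨7, 1⟩, ⟨4, -3⟩, ⟨10, 0⟩, ⟨2, 2⟩, ⟨0, 2⟩, ⟨2, 2⟩, ⟨2, 2⟩, ⟨0, 0⟩, ⟨2, 2⟩, ⟨2, 0⟩, ⟨2, 2⟩, ⟨2, 0⟩],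
  ![⟨0, 0⟩, ⟨0, 0⟩, ⟨0, 0⟩, ⟨0, 0⟩, ⟨0, 0⟩, ⟨0, 0⟩, ⟨0, 0⟩, ⟨0, 0⟩, ⟨0, 0⟩, ⟨0, 0⟩, ⟨0, 0⟩, ⟨0, 0⟩, ⟨0, 0⟩, ⟨0, 0⟩, ⟨5, 0⟩, ⟨7, -2⟩, ⟨7, 2⟩, ⟨3, 1⟩, ⟨7, -1⟩, ⟨0, 0⟩, ⟨2, 2⟩, ⟨2, 0⟩, ⟨2, 2⟩, ⟨0, 2⟩, ⟨0, 2⟩, ⟨0, 0⟩, ⟨0, 2⟩, ⟨2, 0⟩],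
  ![⟨0, 0⟩, ⟨0, 0⟩, ⟨0, 0⟩, ⟨0, 0⟩, ⟨0, 0⟩, ⟨0, 0⟩, ⟨0, 0⟩, ⟨0, 0⟩, ⟨0, 0⟩, ⟨0, 0⟩, ⟨0, 0⟩, ⟨0, 0⟩, ⟨0, 0⟩, ⟨0, 0⟩, ⟨0, 0⟩, ⟨5, 0⟩, ⟨6, 2⟩, ⟨3, 0⟩, ⟨6, 2⟩, ⟨0, 0⟩, ⟨2, 2⟩, ⟨2, 2⟩, ⟨0, 2⟩, ⟨0, 2⟩, ⟨0, 2⟩, ⟨2, 0⟩, ⟨0, 2⟩, ⟨0, 0⟩],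
  ![⟨0, 0⟩, ⟨0, 0⟩, ⟨0, 0⟩, ⟨0, 0⟩, ⟨0, 0⟩, ⟨0, 0⟩, ⟨0, 0⟩, ⟨0, 0⟩, ⟨0, 0⟩, ⟨0, 0⟩, ⟨0, 0⟩, ⟨0, 0⟩, ⟨0, 0⟩, ⟨0, 0⟩, ⟨0, 0⟩, ⟨0, 0⟩, ⟨5, 0⟩, ⟨3, -1⟩, ⟨5, -1⟩, ⟨0, 0⟩, ⟨2, 2⟩, ⟨0, 0⟩, ⟨2, 0⟩, ⟨0, 2⟩, ⟨0, 2⟩, ⟨2, 0⟩, ⟨2, 2⟩, ⟨2, 0⟩],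
  ![⟨0, 0⟩, ⟨0, 0⟩, ⟨0, 0⟩, ⟨0, 0⟩, ⟨0, 0⟩, ⟨0, 0⟩, ⟨0, 0⟩, ⟨0, 0⟩, ⟨0, 0⟩, ⟨0, 0⟩, ⟨0, 0⟩, ⟨0, 0⟩, ⟨0, 0⟩, ⟨0, 0⟩, ⟨0, 0⟩, ⟨0, 0⟩, ⟨0, 0⟩, ⟨4, 0⟩, ⟨3, 1⟩, ⟨2, 2⟩, ⟨0, 0⟩, ⟨0, 0⟩, ⟨0, 0⟩, ⟨2, 2⟩, ⟨0, 2⟩, ⟨0, 2⟩, ⟨0, 2⟩, ⟨0, 0⟩],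
  ![⟨0, 0⟩, ⟨0, 0⟩, ⟨0, 0⟩, ⟨0, 0⟩, ⟨0, 0⟩, ⟨0, 0⟩, ⟨0, 0⟩, ⟨0, 0⟩, ⟨0, 0⟩, ⟨0, 0⟩, ⟨0, 0⟩, ⟨0, 0⟩, ⟨0, 0⟩, ⟨0, 0⟩, ⟨0, 0⟩, ⟨0, 0⟩, ⟨0, 0⟩, ⟨0, 0⟩, ⟨7, 0⟩, ⟨2, 2⟩, ⟨2, 2⟩, ⟨2, 2⟩, ⟨2, 2⟩, ⟨0, 0⟩, ⟨2, 2⟩, ⟨0, 0⟩, ⟨0, 0⟩, ⟨2, 2⟩],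
  ![⟨0, 0⟩, ⟨0, 0⟩, ⟨0, 0⟩, ⟨0, 0⟩, ⟨0, 0⟩, ⟨0, 0⟩, ⟨0, 0⟩, ⟨0, 0⟩, ⟨0, 0⟩, ⟨0, 0⟩, ⟨0, 0⟩, ⟨0, 0⟩, ⟨0, 0⟩, ⟨0, 0⟩, ⟨0, 0⟩, ⟨0, 0⟩, ⟨0, 0⟩, ⟨0, 0⟩, ⟨0, 0⟩, ⟨2, 0⟩, ⟨0, 0⟩, ⟨0, 0⟩, ⟨0, 0⟩, ⟨0, 0⟩, ⟨0, 0⟩, ⟨0, 0⟩, ⟨0, 0⟩, ⟨0, 0⟩],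
  ![⟨0, 0⟩, ⟨0, 0⟩, ⟨0, 0⟩, ⟨0, 0⟩, ⟨0, 0⟩, ⟨0, 0⟩, ⟨0, 0⟩, ⟨0, 0⟩, ⟨0, 0⟩, ⟨0, 0⟩, ⟨0, 0⟩, ⟨0, 0⟩, ⟨0, 0⟩, ⟨0, 0⟩, ⟨0, 0⟩, ⟨0, 0⟩, ⟨0, 0⟩, ⟨0, 0⟩, ⟨0, 0⟩, ⟨0, 0⟩, ⟨2, 0⟩, ⟨0, 0⟩, ⟨0, 0⟩, ⟨0, 0⟩, ⟨0, 0⟩, ⟨0, 0⟩, ⟨0, 0⟩, ⟨0, 0⟩],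
  ![⟨0, 0⟩, ⟨0, 0⟩, ⟨0, 0⟩, ⟨0, 0⟩, ⟨0, 0⟩, ⟨0, 0⟩, ⟨0, 0⟩, ⟨0, 0⟩, ⟨0, 0⟩, ⟨0, 0⟩, ⟨0, 0⟩, ⟨0, 0⟩, ⟨0, 0⟩, ⟨0, 0⟩, ⟨0, 0⟩, ⟨0, 0⟩, ⟨0, 0⟩, ⟨0, 0⟩, ⟨0, 0⟩, ⟨0, 0⟩, ⟨0, 0⟩, ⟨2, 0⟩, ⟨0, 0⟩, ⟨0, 0⟩, ⟨0, 0⟩, ⟨0, 0⟩, ⟨0, 0⟩, ⟨0, 0⟩],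
  ![⟨0, 0⟩, ⟨0, 0⟩, ⟨0, 0⟩, ⟨0, 0⟩, ⟨0, 0⟩, ⟨0, 0⟩, ⟨0, 0⟩, ⟨0, 0⟩, ⟨0, 0⟩, ⟨0, 0⟩, ⟨0, 0⟩, ⟨0, 0⟩, ⟨0, 0⟩, ⟨0, 0⟩, ⟨0, 0⟩, ⟨0, 0⟩, ⟨0, 0⟩, ⟨0, 0⟩, ⟨0, 0⟩, ⟨0, 0⟩, ⟨0, 0⟩, ⟨0, 0⟩, ⟨2, 0⟩, ⟨0, 0⟩, ⟨0, 0⟩, ⟨0, 0⟩, ⟨0, 0⟩, ⟨0, 0⟩],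
  ![⟨0, 0⟩, ⟨0, 0⟩, ⟨0, 0⟩, ⟨0, 0⟩, ⟨0, 0⟩, ⟨0, 0⟩, ⟨0, 0⟩, ⟨0, 0⟩, ⟨0, 0⟩, ⟨0, 0⟩, ⟨0, 0⟩, ⟨0, 0⟩, ⟨0, 0⟩, ⟨0, 0⟩, ⟨0, 0⟩, ⟨0, 0⟩, ⟨0, 0⟩, ⟨0, 0⟩, ⟨0, 0⟩, ⟨0, 0⟩, ⟨0, 0⟩, ⟨0, 0⟩, ⟨0, 0⟩, ⟨2, 0⟩, ⟨0, 0⟩, ⟨0, 0⟩, ⟨0, 0⟩, ⟨0, 0⟩],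
  ![⟨0, 0⟩, ⟨0, 0⟩, ⟨0, 0⟩, ⟨0, 0⟩, ⟨0, 0⟩, ⟨0, 0⟩, ⟨0, 0⟩, ⟨0, 0⟩, ⟨0, 0⟩, ⟨0, 0⟩, ⟨0, 0⟩, ⟨0, 0⟩, ⟨0, 0⟩, ⟨0, 0⟩, ⟨0, 0⟩, ⟨0, 0⟩, ⟨0, 0⟩, ⟨0, 0⟩, ⟨0, 0⟩, ⟨0, 0⟩, ⟨0, 0⟩, ⟨0, 0⟩, ⟨0, 0⟩, ⟨0, 0⟩, ⟨2, 0⟩, ⟨0, 0⟩, ⟨0, 0⟩, ⟨0, 0⟩],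
  ![⟨0, 0⟩, ⟨0, 0⟩, ⟨0, 0⟩, ⟨0, 0⟩, ⟨0, 0⟩, ⟨0, 0⟩, ⟨0, 0⟩, ⟨0, 0⟩, ⟨0, 0⟩, ⟨0, 0⟩, ⟨0, 0⟩, ⟨0, 0⟩, ⟨0, 0⟩, ⟨0, 0⟩, ⟨0, 0⟩, ⟨0, 0⟩, ⟨0, 0⟩, ⟨0, 0⟩, ⟨0, 0⟩, ⟨0, 0⟩, ⟨0, 0⟩, ⟨0, 0⟩, ⟨0, 0⟩, ⟨0, 0⟩, ⟨0, 0⟩, ⟨2, 0⟩, ⟨0, 0⟩, ⟨0, 0⟩],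
  ![⟨0, 0⟩, ⟨0, 0⟩, ⟨0, 0⟩, ⟨0, 0⟩, ⟨0, 0⟩, ⟨0, 0⟩, ⟨0, 0⟩, ⟨0, 0⟩, ⟨0, 0⟩, ⟨0, 0⟩, ⟨0, 0⟩, ⟨0, 0⟩, ⟨0, 0⟩, ⟨0, 0⟩, ⟨0, 0⟩, ⟨0, 0⟩, ⟨0, 0⟩, ⟨0, 0⟩, ⟨0, 0⟩, ⟨0, 0⟩, ⟨0, 0⟩, ⟨0, 0⟩, ⟨0, 0⟩, ⟨0, 0⟩, ⟨0, 0⟩, ⟨0, 0⟩, ⟨2, 0⟩, ⟨0, 0⟩],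
  ![⟨0, 0⟩, ⟨0, 0⟩, ⟨0, 0⟩, ⟨0, 0⟩, ⟨0, 0⟩, ⟨0, 0⟩, ⟨0, 0⟩, ⟨0, 0⟩, ⟨0, 0⟩, ⟨0, 0⟩, ⟨0, 0⟩, ⟨0, 0⟩, ⟨0, 0⟩, ⟨0, 0⟩, ⟨0, 0⟩, ⟨0, 0⟩, ⟨0, 0⟩, ⟨0, 0⟩, ⟨0, 0⟩, ⟨0, 0⟩, ⟨0, 0⟩, ⟨0, 0⟩, ⟨0, 0⟩, ⟨0, 0⟩, ⟨0, 0⟩, ⟨0, 0⟩, ⟨0, 0⟩, ⟨2, 0⟩]]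

def ruWa : Fin 26 → Fin 7 → Fin 4 → GaussianInt :=
  ![![![⟨0, -1⟩, ⟨1, 0⟩, ⟨1, 0⟩, ⟨1, 0⟩], ![⟨0, 0⟩, ⟨0, 0⟩, ⟨0, 0⟩, ⟨0, 0⟩], ![⟨0, 0⟩, ⟨0, 0⟩, ⟨0, 0⟩, ⟨0, 0⟩], ![⟨1, 0⟩, ⟨1, 0⟩, ⟨0, 1⟩, ⟨-1, 0⟩], ![⟨0, 0⟩, ⟨0, 0⟩, ⟨0, 0⟩, ⟨0, 0⟩], ![⟨1, 0⟩, ⟨0, 1⟩, ⟨-1, 0⟩, ⟨1, 0⟩], ![⟨1, 0⟩, ⟨-1, 0⟩, ⟨1, 0⟩, ⟨0, 1⟩]],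
  ![![⟨0, 0⟩, ⟨0, 0⟩, ⟨0, 0⟩, ⟨0, 0⟩], ![⟨0, 0⟩, ⟨0, 0⟩, ⟨0, 0⟩, ⟨0, 0⟩], ![⟨1, 0⟩, ⟨1, 0⟩, ⟨0, 1⟩, ⟨-1, 0⟩], ![⟨0, 0⟩, ⟨0, 0⟩, ⟨0, 0⟩, ⟨0, 0⟩], ![⟨1, 0⟩, ⟨0, 1⟩, ⟨-1, 0⟩, ⟨1, 0⟩], ![⟨1, 0⟩, ⟨-1, 0⟩, ⟨1, 0⟩, ⟨0, 1⟩], ![⟨0, -1⟩, ⟨1, 0⟩, ⟨1, 0⟩, ⟨1, 0⟩]],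
  ![![⟨0, 0⟩, ⟨0, 0⟩, ⟨0, 0⟩, ⟨0, 0⟩], ![⟨1, 0⟩, ⟨1, 0⟩, ⟨0, 1⟩, ⟨-1, 0⟩], ![⟨0, 0⟩, ⟨0, 0⟩, ⟨0, 0⟩, ⟨0, 0⟩], ![⟨1, 0⟩, ⟨0, 1⟩, ⟨-1, 0⟩, ⟨1, 0⟩], ![⟨1, 0⟩, ⟨-1, 0⟩, ⟨1, 0⟩, ⟨0, 1⟩], ![⟨0, -1⟩, ⟨1, 0⟩, ⟨1, 0⟩, ⟨1, 0⟩], ![⟨0, 0⟩, ⟨0, 0⟩, ⟨0, 0⟩, ⟨0, 0⟩]],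
  ![![⟨1, 0⟩, ⟨1, 0⟩, ⟨0, 1⟩, ⟨-1, 0⟩], ![⟨0, 0⟩, ⟨0, 0⟩, ⟨0, 0⟩, ⟨0, 0⟩], ![⟨1, 0⟩, ⟨0, 1⟩, ⟨-1, 0⟩, ⟨1, 0⟩], ![⟨1, 0⟩, ⟨-1, 0⟩, ⟨1, 0⟩, ⟨0, 1⟩], ![⟨0, -1⟩, ⟨1, 0⟩, ⟨1, 0⟩, ⟨1, 0⟩], ![⟨0, 0⟩, ⟨0, 0⟩, ⟨0, 0⟩, ⟨0, 0⟩], ![⟨0, 0⟩, ⟨0, 0⟩, ⟨0, 0⟩, ⟨0, 0⟩]],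
  ![![⟨0, 0⟩, ⟨0, 0⟩, ⟨0, 0⟩, ⟨0, 0⟩], ![⟨1, 0⟩, ⟨0, 1⟩, ⟨-1, 0⟩, ⟨1, 0⟩], ![⟨1, 0⟩, ⟨-1, 0⟩, ⟨1, 0⟩, ⟨0, 1⟩], ![⟨0, -1⟩, ⟨1, 0⟩, ⟨1, 0⟩, ⟨1, 0⟩], ![⟨0, 0⟩, ⟨0, 0⟩, ⟨0, 0⟩, ⟨0, 0⟩], ![⟨0, 0⟩, ⟨0, 0⟩, ⟨0, 0⟩, ⟨0, 0⟩], ![⟨1, 0⟩, ⟨1, 0⟩, ⟨0, 1⟩, ⟨-1, 0⟩]],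
  ![![⟨1, 0⟩, ⟨0, 1⟩, ⟨-1, 0⟩, ⟨1, 0⟩], ![⟨1, 0⟩, ⟨-1, 0⟩, ⟨1, 0⟩, ⟨0, 1⟩], ![⟨0, -1⟩, ⟨1, 0⟩, ⟨1, 0⟩, ⟨1, 0⟩], ![⟨0, 0⟩, ⟨0, 0⟩, ⟨0, 0⟩, ⟨0, 0⟩], ![⟨0, 0⟩, ⟨0, 0⟩, ⟨0, 0⟩, ⟨0, 0⟩], ![⟨1, 0⟩, ⟨1, 0⟩, ⟨0, 1⟩, ⟨-1, 0⟩], ![⟨0, 0⟩, ⟨0, 0⟩, ⟨0, 0⟩, ⟨0, 0⟩]],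
  ![![⟨1, 0⟩, ⟨-1, 0⟩, ⟨1, 0⟩, ⟨0, 1⟩], ![⟨0, -1⟩, ⟨1, 0⟩, ⟨1, 0⟩, ⟨1, 0⟩], ![⟨0, 0⟩, ⟨0, 0⟩, ⟨0, 0⟩, ⟨0, 0⟩], ![⟨0, 0⟩, ⟨0, 0⟩, ⟨0, 0⟩, ⟨0, 0⟩], ![⟨1, 0⟩, ⟨1, 0⟩, ⟨0, 1⟩, ⟨-1, 0⟩], ![⟨0, 0⟩, ⟨0, 0⟩, ⟨0, 0⟩, ⟨0, 0⟩], ![⟨1, 0⟩, ⟨0, 1⟩, ⟨-1, 0⟩, ⟨1, 0⟩]],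
  ![![⟨0, -1⟩, ⟨1, 0⟩, ⟨-1, 0⟩, ⟨-1, 0⟩], ![⟨0, 0⟩, ⟨0, 0⟩, ⟨0, 0⟩, ⟨0, 0⟩], ![⟨0, 0⟩, ⟨0, 0⟩, ⟨0, 0⟩, ⟨0, 0⟩], ![⟨1, 0⟩, ⟨-1, 0⟩, ⟨0, 1⟩, ⟨1, 0⟩], ![⟨0, 0⟩, ⟨0, 0⟩, ⟨0, 0⟩, ⟨0, 0⟩], ![⟨1, 0⟩, ⟨0, -1⟩, ⟨1, 0⟩, ⟨1, 0⟩], ![⟨1, 0⟩, ⟨-1, 0⟩, ⟨-1, 0⟩, ⟨0, -1⟩]],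
  ![![⟨0, 0⟩, ⟨0, 0⟩, ⟨0, 0⟩, ⟨0, 0⟩], ![⟨0, 0⟩, ⟨0, 0⟩, ⟨0, 0⟩, ⟨0, 0⟩], ![⟨1, 0⟩, ⟨-1, 0⟩, ⟨0, 1⟩, ⟨1, 0⟩], ![⟨0, 0⟩, ⟨0, 0⟩, ⟨0, 0⟩, ⟨0, 0⟩], ![⟨1, 0⟩, ⟨0, -1⟩, ⟨1, 0⟩, ⟨1, 0⟩], ![⟨1, 0⟩, ⟨-1, 0⟩, ⟨-1, 0⟩, ⟨0, -1⟩], ![⟨0, -1⟩, ⟨1, 0⟩, ⟨-1, 0⟩, ⟨-1, 0⟩]],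
  ![![⟨0, 0⟩, ⟨0, 0⟩, ⟨0, 0⟩, ⟨0, 0⟩], ![⟨1, 0⟩, ⟨-1, 0⟩, ⟨0, 1⟩, ⟨1, 0⟩], ![⟨0, 0⟩, ⟨0, 0⟩, ⟨0, 0⟩, ⟨0, 0⟩], ![⟨1, 0⟩, ⟨0, -1⟩, ⟨1, 0⟩, ⟨1, 0⟩], ![⟨1, 0⟩, ⟨-1, 0⟩, ⟨-1, 0⟩, ⟨0, -1⟩], ![⟨0, -1⟩, ⟨1, 0⟩, ⟨-1, 0⟩, ⟨-1, 0⟩], ![⟨0, 0⟩, ⟨0, 0⟩, ⟨0, 0⟩, ⟨0, 0⟩]],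
  ![![⟨1, 0⟩, ⟨-1, 0⟩, ⟨0, 1⟩, ⟨1, 0⟩], ![⟨0, 0⟩, ⟨0, 0⟩, ⟨0, 0⟩, ⟨0, 0⟩], ![⟨1, 0⟩, ⟨0, -1⟩, ⟨1, 0⟩, ⟨1, 0⟩], ![⟨1, 0⟩, ⟨-1, 0⟩, ⟨-1, 0⟩, ⟨0, -1⟩], ![⟨0, -1⟩, ⟨1, 0⟩, ⟨-1, 0⟩, ⟨-1, 0⟩], ![⟨0, 0⟩, ⟨0, 0⟩, ⟨0, 0⟩, ⟨0, 0⟩], ![⟨0, 0⟩, ⟨0, 0⟩, ⟨0, 0⟩, ⟨0, 0⟩]],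
  ![![⟨0, 0⟩, ⟨0, 0⟩, ⟨0, 0⟩, ⟨0, 0⟩], ![⟨1, 0⟩, ⟨0, -1⟩, ⟨1, 0⟩, ⟨1, 0⟩], ![⟨1, 0⟩, ⟨-1, 0⟩, ⟨-1, 0⟩, ⟨0, -1⟩], ![⟨0, -1⟩, ⟨1, 0⟩, ⟨-1, 0⟩, ⟨-1, 0⟩], ![⟨0, 0⟩, ⟨0, 0⟩, ⟨0, 0⟩, ⟨0, 0⟩], ![⟨0, 0⟩, ⟨0, 0⟩, ⟨0, 0⟩, ⟨0, 0⟩], ![⟨1, 0⟩, ⟨-1, 0⟩, ⟨0, 1⟩, ⟨1, 0⟩]],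
  ![![⟨1, 0⟩, ⟨0, -1⟩, ⟨1, 0⟩, ⟨1, 0⟩], ![⟨1, 0⟩, ⟨-1, 0⟩, ⟨-1, 0⟩, ⟨0, -1⟩], ![⟨0, -1⟩, ⟨1, 0⟩, ⟨-1, 0⟩, ⟨-1, 0⟩], ![⟨0, 0⟩, ⟨0, 0⟩, ⟨0, 0⟩, ⟨0, 0⟩], ![⟨0, 0⟩, ⟨0, 0⟩, ⟨0, 0⟩, ⟨0, 0⟩], ![⟨1, 0⟩, ⟨-1, 0⟩, ⟨0, 1⟩, ⟨1, 0⟩], ![⟨0, 0⟩, ⟨0, 0⟩, ⟨0, 0⟩, ⟨0, 0⟩]],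
  ![![⟨1, 0⟩, ⟨-1, 0⟩, ⟨-1, 0⟩, ⟨0, -1⟩], ![⟨0, -1⟩, ⟨1, 0⟩, ⟨-1, 0⟩, ⟨-1, 0⟩], ![⟨0, 0⟩, ⟨0, 0⟩, ⟨0, 0⟩, ⟨0, 0⟩], ![⟨0, 0⟩, ⟨0, 0⟩, ⟨0, 0⟩, ⟨0, 0⟩], ![⟨1, 0⟩, ⟨-1, 0⟩, ⟨0, 1⟩, ⟨1, 0⟩], ![⟨0, 0⟩, ⟨0, 0⟩, ⟨0, 0⟩, ⟨0, 0⟩], ![⟨1, 0⟩, ⟨0, -1⟩, ⟨1, 0⟩, ⟨1, 0⟩]],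
  ![![⟨0, -1⟩, ⟨-1, 0⟩, ⟨1, 0⟩, ⟨-1, 0⟩], ![⟨0, 0⟩, ⟨0, 0⟩, ⟨0, 0⟩, ⟨0, 0⟩], ![⟨0, 0⟩, ⟨0, 0⟩, ⟨0, 0⟩, ⟨0, 0⟩], ![⟨1, 0⟩, ⟨1, 0⟩, ⟨0, -1⟩, ⟨1, 0⟩], ![⟨0, 0⟩, ⟨0, 0⟩, ⟨0, 0⟩, ⟨0, 0⟩], ![⟨1, 0⟩, ⟨0, -1⟩, ⟨-1, 0⟩, ⟨-1, 0⟩], ![⟨1, 0⟩, ⟨1, 0⟩, ⟨-1, 0⟩, ⟨0, 1⟩]],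
  ![![⟨0, 0⟩, ⟨0, 0⟩, ⟨0, 0⟩, ⟨0, 0⟩], ![⟨0, 0⟩, ⟨0, 0⟩, ⟨0, 0⟩, ⟨0, 0⟩], ![⟨1, 0⟩, ⟨1, 0⟩, ⟨0, -1⟩, ⟨1, 0⟩], ![⟨0, 0⟩, ⟨0, 0⟩, ⟨0, 0⟩, ⟨0, 0⟩], ![⟨1, 0⟩, ⟨0, -1⟩, ⟨-1, 0⟩, ⟨-1, 0⟩], ![⟨1, 0⟩, ⟨1, 0⟩, ⟨-1, 0⟩, ⟨0, 1⟩], ![⟨0, -1⟩, ⟨-1, 0⟩, ⟨1, 0⟩, ⟨-1, 0⟩]],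
  ![![⟨0, 0⟩, ⟨0, 0⟩, ⟨0, 0⟩, ⟨0, 0⟩], ![⟨1, 0⟩, ⟨1, 0⟩, ⟨0, -1⟩, ⟨1, 0⟩], ![⟨0, 0⟩, ⟨0, 0⟩, ⟨0, 0⟩, ⟨0, 0⟩], ![⟨1, 0⟩, ⟨0, -1⟩, ⟨-1, 0⟩, ⟨-1, 0⟩], ![⟨1, 0⟩, ⟨1, 0⟩, ⟨-1, 0⟩, ⟨0, 1⟩], ![⟨0, -1⟩, ⟨-1, 0⟩, ⟨1, 0⟩, ⟨-1, 0⟩], ![⟨0, 0⟩, ⟨0, 0⟩, ⟨0, 0⟩, ⟨0, 0⟩]],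
  ![![⟨1, 0⟩, ⟨1, 0⟩, ⟨0, -1⟩, ⟨1, 0⟩], ![⟨0, 0⟩, ⟨0, 0⟩, ⟨0, 0⟩, ⟨0, 0⟩], ![⟨1, 0⟩, ⟨0, -1⟩, ⟨-1, 0⟩, ⟨-1, 0⟩], ![⟨1, 0⟩, ⟨1, 0⟩, ⟨-1, 0⟩, ⟨0, 1⟩], ![⟨0, -1⟩, ⟨-1, 0⟩, ⟨1, 0⟩, ⟨-1, 0⟩], ![⟨0, 0⟩, ⟨0, 0⟩, ⟨0, 0⟩, ⟨0, 0⟩], ![⟨0, 0⟩, ⟨0, 0⟩, ⟨0, 0⟩, ⟨0, 0⟩]],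
  ![![⟨0, 0⟩, ⟨0, 0⟩, ⟨0, 0⟩, ⟨0, 0⟩], ![⟨1, 0⟩, ⟨0, -1⟩, ⟨-1, 0⟩, ⟨-1, 0⟩], ![⟨1, 0⟩, ⟨1, 0⟩, ⟨-1, 0⟩, ⟨0, 1⟩], ![⟨0, -1⟩, ⟨-1, 0⟩, ⟨1, 0⟩, ⟨-1, 0⟩], ![⟨0, 0⟩, ⟨0, 0⟩, ⟨0, 0⟩, ⟨0, 0⟩], ![⟨0, 0⟩, ⟨0, 0⟩, ⟨0, 0⟩, ⟨0, 0⟩], ![⟨1, 0⟩, ⟨1, 0⟩, ⟨0, -1⟩, ⟨1, 0⟩]],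
  ![![⟨1, 0⟩, ⟨0, -1⟩, ⟨-1, 0⟩, ⟨-1, 0⟩], ![⟨1, 0⟩, ⟨1, 0⟩, ⟨-1, 0⟩, ⟨0, 1⟩], ![⟨0, -1⟩, ⟨-1, 0⟩, ⟨1, 0⟩, ⟨-1, 0⟩], ![⟨0, 0⟩, ⟨0, 0⟩, ⟨0, 0⟩, ⟨0, 0⟩], ![⟨0, 0⟩, ⟨0, 0⟩, ⟨0, 0⟩, ⟨0, 0⟩], ![⟨1, 0⟩, ⟨1, 0⟩, ⟨0, -1⟩, ⟨1, 0⟩], ![⟨0, 0⟩, ⟨0, 0⟩, ⟨0, 0⟩, ⟨0, 0⟩]],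
  ![![⟨1, 0⟩, ⟨1, 0⟩, ⟨-1, 0⟩, ⟨0, 1⟩], ![⟨0, -1⟩, ⟨-1, 0⟩, ⟨1, 0⟩, ⟨-1, 0⟩], ![⟨0, 0⟩, ⟨0, 0⟩, ⟨0, 0⟩, ⟨0, 0⟩], ![⟨0, 0⟩, ⟨0, 0⟩, ⟨0, 0⟩, ⟨0, 0⟩], ![⟨1, 0⟩, ⟨1, 0⟩, ⟨0, -1⟩, ⟨1, 0⟩], ![⟨0, 0⟩, ⟨0, 0⟩, ⟨0, 0⟩, ⟨0, 0⟩], ![⟨1, 0⟩, ⟨0, -1⟩, ⟨-1, 0⟩, ⟨-1, 0⟩]],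
  ![![⟨1, 0⟩, ⟨1, 0⟩, ⟨1, 0⟩, ⟨1, 0⟩], ![⟨1, 0⟩, ⟨0, 0⟩, ⟨0, 0⟩, ⟨-1, 0⟩], ![⟨1, 0⟩, ⟨-1, 0⟩, ⟨0, 0⟩, ⟨0, 0⟩], ![⟨0, 0⟩, ⟨0, 0⟩, ⟨-1, 0⟩, ⟨1, 0⟩], ![⟨1, 0⟩, ⟨0, 0⟩, ⟨-1, 0⟩, ⟨0, 0⟩], ![⟨0, 0⟩, ⟨-1, 0⟩, ⟨1, 0⟩, ⟨0, 0⟩], ![⟨0, 0⟩, ⟨1, 0⟩, ⟨0, 0⟩, ⟨-1, 0⟩]],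
  ![![⟨1, 0⟩, ⟨1, 0⟩, ⟨1, 0⟩, ⟨1, 0⟩], ![⟨0, 0⟩, ⟨-1, 0⟩, ⟨0, 1⟩, ⟨0, 0⟩], ![⟨0, 0⟩, ⟨0, 0⟩, ⟨-1, 0⟩, ⟨0, 1⟩], ![⟨-1, 0⟩, ⟨0, 1⟩, ⟨0, 0⟩, ⟨0, 0⟩], ![⟨0, 0⟩, ⟨0, 1⟩, ⟨0, 0⟩, ⟨-1, 0⟩], ![⟨-1, 0⟩, ⟨0, 0⟩, ⟨0, 0⟩, ⟨0, 1⟩], ![⟨-1, 0⟩, ⟨0, 0⟩, ⟨0, 1⟩, ⟨0, 0⟩]],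
  ![![⟨1, 0⟩, ⟨1, 0⟩, ⟨1, 0⟩, ⟨1, 0⟩], ![⟨0, 0⟩, ⟨0, 1⟩, ⟨-1, 0⟩, ⟨0, 0⟩], ![⟨0, 0⟩, ⟨0, 0⟩, ⟨0, 1⟩, ⟨-1, 0⟩], ![⟨0, 1⟩, ⟨-1, 0⟩, ⟨0, 0⟩, ⟨0, 0⟩], ![⟨0, 0⟩, ⟨-1, 0⟩, ⟨0, 0⟩, ⟨0, 1⟩], ![⟨0, 1⟩, ⟨0, 0⟩, ⟨0, 0⟩, ⟨-1, 0⟩], ![⟨0, 1⟩, ⟨0, 0⟩, ⟨-1, 0⟩, ⟨0, 0⟩]],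
  ![![⟨1, 0⟩, ⟨0, 0⟩, ⟨0, 0⟩, ⟨-1, 0⟩], ![⟨1, 0⟩, ⟨-1, 0⟩, ⟨0, 0⟩, ⟨0, 0⟩], ![⟨0, 0⟩, ⟨0, 0⟩, ⟨-1, 0⟩, ⟨1, 0⟩], ![⟨1, 0⟩, ⟨0, 0⟩, ⟨-1, 0⟩, ⟨0, 0⟩], ![⟨0, 0⟩, ⟨-1, 0⟩, ⟨1, 0⟩, ⟨0, 0⟩], ![⟨0, 0⟩, ⟨1, 0⟩, ⟨0, 0⟩, ⟨-1, 0⟩], ![⟨1, 0⟩, ⟨1, 0⟩, ⟨1, 0⟩, ⟨1, 0⟩]],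
  ![![⟨1, 0⟩, ⟨-1, 0⟩, ⟨0, 0⟩, ⟨0, 0⟩], ![⟨0, 0⟩, ⟨0, 0⟩, ⟨-1, 0⟩, ⟨1, 0⟩], ![⟨1, 0⟩, ⟨0, 0⟩, ⟨-1, 0⟩, ⟨0, 0⟩], ![⟨0, 0⟩, ⟨-1, 0⟩, ⟨1, 0⟩, ⟨0, 0⟩], ![⟨0, 0⟩, ⟨1, 0⟩, ⟨0, 0⟩, ⟨-1, 0⟩], ![⟨1, 0⟩, ⟨1, 0⟩, ⟨1, 0⟩, ⟨1, 0⟩], ![⟨1, 0⟩, ⟨0, 0⟩, ⟨0, 0⟩, ⟨-1, 0⟩]]]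

def ruWYa : Fin 26 → Fin 28 → GaussianInt :=
  ![![⟨0, -1⟩, ⟨1, 0⟩, ⟨1, 0⟩, ⟨0, 0⟩, ⟨0, 0⟩, ⟨0, 0⟩, ⟨1, 0⟩, ⟨1, 0⟩, ⟨0, 0⟩, ⟨-1, 0⟩, ⟨1, 2⟩, ⟨1, 1⟩, ⟨0, 1⟩, ⟨0, -1⟩, ⟨-1, 2⟩, ⟨0, 0⟩, ⟨0, -1⟩, ⟨-1, 0⟩, ⟨0, 0⟩, ⟨0, -1⟩, ⟨1, 0⟩, ⟨0, -2⟩, ⟨1, 0⟩, ⟨0, -1⟩, ⟨1, -2⟩, ⟨-2, 0⟩, ⟨0, 1⟩, ⟨0, -2⟩],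
  ![⟨0, 0⟩, ⟨0, 0⟩, ⟨0, 0⟩, ⟨1, 0⟩, ⟨0, 0⟩, ⟨0, 0⟩, ⟨0, 0⟩, ⟨1, 0⟩, ⟨1, 0⟩, ⟨-2, 1⟩, ⟨0, 0⟩, ⟨0, 0⟩, ⟨-2, 0⟩, ⟨-1, 0⟩, ⟨0, 0⟩, ⟨0, 1⟩, ⟨1, 0⟩, ⟨-1, 2⟩, ⟨0, -1⟩, ⟨1, 1⟩, ⟨0, 0⟩, ⟨1, 1⟩, ⟨1, 0⟩, ⟨4, -2⟩, ⟨2, 2⟩, ⟨2, 1⟩, ⟨1, 0⟩, ⟨-1, 2⟩],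
  ![⟨0, 0⟩, ⟨0, 0⟩, ⟨0, 0⟩, ⟨0, 0⟩, ⟨1, 0⟩, ⟨1, 0⟩, ⟨1, 0⟩, ⟨0, -1⟩, ⟨1, 0⟩, ⟨-2, 6⟩, ⟨1, 1⟩, ⟨-1, -1⟩, ⟨0, 2⟩, ⟨-1, 1⟩, ⟨-2, 2⟩, ⟨0, 1⟩, ⟨0, -1⟩, ⟨0, 0⟩, ⟨-2, -4⟩, ⟨3, 3⟩, ⟨4, 0⟩, ⟨3, 2⟩, ⟨3, 1⟩, ⟨1, -3⟩, ⟨4, 2⟩, ⟨2, -1⟩, ⟨-1, 2⟩, ⟨2, 3⟩],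
  ![⟨1, 0⟩, ⟨1, 0⟩, ⟨0, 1⟩, ⟨1, 0⟩, ⟨0, 0⟩, ⟨0, 0⟩, ⟨1, 0⟩, ⟨0, 0⟩, ⟨0, -1⟩, ⟨2, 3⟩, ⟨0, 1⟩, ⟨-2, 2⟩, ⟨0, 1⟩, ⟨-1, 1⟩, ⟨-2, 0⟩, ⟨-1, -1⟩, ⟨0, -1⟩, ⟨-1, -1⟩, ⟨-4, 0⟩, ⟨5, 1⟩, ⟨2, 3⟩, ⟨6, 2⟩, ⟨4, 2⟩, ⟨0, 0⟩, ⟨5, 0⟩, ⟨0, -2⟩, ⟨0, 5⟩, ⟨6, 1⟩],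
  ![⟨0, 0⟩, ⟨0, 0⟩, ⟨0, 0⟩, ⟨1, 0⟩, ⟨1, 0⟩, ⟨0, 1⟩, ⟨0, -1⟩, ⟨0, 0⟩, ⟨0, 0⟩, ⟨2, 2⟩, ⟨0, 0⟩, ⟨-1, 0⟩, ⟨0, 1⟩, ⟨-2, -1⟩, ⟨0, 1⟩, ⟨-1, -1⟩, ⟨-1, 0⟩, ⟨-2, -1⟩, ⟨-1, 0⟩, ⟨2, 2⟩, ⟨1, 1⟩, ⟨2, 1⟩, ⟨1, 1⟩, ⟨0, 2⟩, ⟨1, 2⟩, ⟨2, 2⟩, ⟨1, 5⟩, ⟨4, 0⟩],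
  ![⟨1, 0⟩, ⟨0, 1⟩, ⟨-1, 0⟩, ⟨0, -1⟩, ⟨1, 0⟩, ⟨-1, 0⟩, ⟨0, 0⟩, ⟨1, 0⟩, ⟨0, 0⟩, ⟨-1, 1⟩, ⟨0, 0⟩, ⟨-2, 0⟩, ⟨1, 0⟩, ⟨2, -1⟩, ⟨0, 0⟩, ⟨2, -2⟩, ⟨0, -1⟩, ⟨1, -1⟩, ⟨0, -2⟩, ⟨-2, 0⟩, ⟨-3, -1⟩, ⟨-5, 1⟩, ⟨-3, 1⟩, ⟨-2, -1⟩, ⟨-3, 0⟩, ⟨-3, 1⟩, ⟨-5, -1⟩, ⟨-1, 3⟩],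
  ![⟨1, 0⟩, ⟨-1, 0⟩, ⟨1, 0⟩, ⟨0, 0⟩, ⟨0, -1⟩, ⟨1, 0⟩, ⟨0, 0⟩, ⟨0, 0⟩, ⟨1, 0⟩, ⟨2, 2⟩, ⟨-2, 1⟩, ⟨-1, 2⟩, ⟨-1, 1⟩, ⟨-1, 3⟩, ⟨0, 1⟩, ⟨0, 1⟩, ⟨1, 1⟩, ⟨0, 1⟩, ⟨-2, 0⟩, ⟨5, -1⟩, ⟨2, -1⟩, ⟨5, -1⟩, ⟨3, -3⟩, ⟨2, -4⟩, ⟨8, -2⟩, ⟨4, -3⟩, ⟨5, -1⟩, ⟨4, -3⟩],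
  ![⟨0, -1⟩, ⟨1, 0⟩, ⟨-1, 0⟩, ⟨0, 0⟩, ⟨0, 0⟩, ⟨0, 0⟩, ⟨1, 0⟩, ⟨1, 0⟩, ⟨0, 0⟩, ⟨-1, 0⟩, ⟨3, 1⟩, ⟨0, 0⟩, ⟨1, -1⟩, ⟨1, -2⟩, ⟨0, 0⟩, ⟨-1, -2⟩, ⟨1, 0⟩, ⟨-2, 0⟩, ⟨-1, 0⟩, ⟨0, 0⟩, ⟨-1, 1⟩, ⟨-3, 2⟩, ⟨-2, 2⟩, ⟨0, 1⟩, ⟨-4, -1⟩, ⟨-4, 2⟩, ⟨-5, 1⟩, ⟨-3, 0⟩],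
  ![⟨0, 0⟩, ⟨0, 0⟩, ⟨0, 0⟩, ⟨1, 0⟩, ⟨0, 0⟩, ⟨0, 0⟩, ⟨0, 0⟩, ⟨1, 0⟩, ⟨1, 0⟩, ⟨-2, 1⟩, ⟨0, 0⟩, ⟨0, 0⟩, ⟨-2, 1⟩, ⟨-1, 0⟩, ⟨0, 0⟩, ⟨-1, 1⟩, ⟨1, -1⟩, ⟨-1, 2⟩, ⟨0, -1⟩, ⟨1, 1⟩, ⟨1, 1⟩, ⟨2, 1⟩, ⟨1, 1⟩, ⟨3, -2⟩, ⟨2, 2⟩, ⟨3, 1⟩, ⟨0, 1⟩, ⟨-1, 2⟩],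
  ![⟨0, 0⟩, ⟨0, 0⟩, ⟨0, 0⟩, ⟨0, 0⟩, ⟨1, 0⟩, ⟨-1, 0⟩, ⟨1, 0⟩, ⟨0, -1⟩, ⟨1, 0⟩, ⟨-2, 6⟩, ⟨1, 0⟩, ⟨-2, -1⟩, ⟨0, 2⟩, ⟨0, -1⟩, ⟨-1, 1⟩, ⟨2, 0⟩, ⟨-1, -1⟩, ⟨2, -1⟩, ⟨-2, -3⟩, ⟨0, 2⟩, ⟨1, -1⟩, ⟨1, 2⟩, ⟨2, 1⟩, ⟨-2, -3⟩, ⟨2, 2⟩, ⟨0, 0⟩, ⟨-4, 2⟩, ⟨3, 5⟩],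
  ![⟨1, 0⟩, ⟨-1, 0⟩, ⟨0, 1⟩, ⟨1, 0⟩, ⟨0, 0⟩, ⟨0, 0⟩, ⟨1, 0⟩, ⟨0, 0⟩, ⟨0, -1⟩, ⟨2, 3⟩, ⟨-1, 0⟩, ⟨-3, 1⟩, ⟨-2, 1⟩, ⟨-1, 1⟩, ⟨-2, 0⟩, ⟨0, 0⟩, ⟨1, 0⟩, ⟨1, 0⟩, ⟨-2, 0⟩, ⟨4, 0⟩, ⟨2, 2⟩, ⟨5, 2⟩, ⟨3, 1⟩, ⟨1, -2⟩, ⟨5, 1⟩, ⟨2, -2⟩, ⟨1, 3⟩, ⟨6, 2⟩],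
  ![⟨0, 0⟩, ⟨0, 0⟩, ⟨0, 0⟩, ⟨1, 0⟩, ⟨1, 0⟩, ⟨0, -1⟩, ⟨0, -1⟩, ⟨0, 0⟩, ⟨0, 0⟩, ⟨2, 2⟩, ⟨1, -1⟩, ⟨-1, 0⟩, ⟨0, 1⟩, ⟨0, 1⟩, ⟨0, 3⟩, ⟨0, 1⟩, ⟨0, -1⟩, ⟨-1, 1⟩, ⟨-2, 0⟩, ⟨3, -2⟩, ⟨3, -3⟩, ⟨3, -2⟩, ⟨2, -1⟩, ⟨1, -1⟩, ⟨2, 0⟩, ⟨0, 0⟩, ⟨2, 2⟩, ⟨2, 0⟩],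
  ![⟨1, 0⟩, ⟨0, -1⟩, ⟨1, 0⟩, ⟨0, -1⟩, ⟨1, 0⟩, ⟨-1, 0⟩, ⟨0, 0⟩, ⟨1, 0⟩, ⟨0, 0⟩, ⟨-1, 1⟩, ⟨-1, 1⟩, ⟨0, 1⟩, ⟨0, 1⟩, ⟨0, 1⟩, ⟨0, 2⟩, ⟨2, 1⟩, ⟨-1, -1⟩, ⟨0, 2⟩, ⟨0, 0⟩, ⟨2, -2⟩, ⟨0, -2⟩, ⟨0, -4⟩, ⟨2, -2⟩, ⟨2, -4⟩, ⟨5, -2⟩, ⟨0, 0⟩, ⟨3, -1⟩, ⟨2, -1⟩],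
  ![⟨1, 0⟩, ⟨-1, 0⟩, ⟨-1, 0⟩, ⟨0, 0⟩, ⟨0, -1⟩, ⟨1, 0⟩, ⟨0, 0⟩, ⟨0, 0⟩, ⟨1, 0⟩, ⟨2, 2⟩, ⟨0, 1⟩, ⟨-2, 0⟩, ⟨0, -1⟩, ⟨0, 2⟩, ⟨1, -1⟩, ⟨-1, 0⟩, ⟨2, 2⟩, ⟨0, 1⟩, ⟨-3, -1⟩, ⟨4, 0⟩, ⟨0, 0⟩, ⟨1, 3⟩, ⟨0, 0⟩, ⟨1, -2⟩, ⟨3, -1⟩, ⟨2, -3⟩, ⟨1, -2⟩, ⟨1, 0⟩],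
  ![⟨0, -1⟩, ⟨-1, 0⟩, ⟨1, 0⟩, ⟨0, 0⟩, ⟨0, 0⟩, ⟨0, 0⟩, ⟨1, 0⟩, ⟨1, 0⟩, ⟨0, 0⟩, ⟨-1, 0⟩, ⟨0, 1⟩, ⟨0, 0⟩, ⟨-1, 1⟩, ⟨0, 0⟩, ⟨-2, 1⟩, ⟨1, 1⟩, ⟨1, -1⟩, ⟨0, 1⟩, ⟨1, 1⟩, ⟨1, -2⟩, ⟨2, 0⟩, ⟨1, -2⟩, ⟨2, 0⟩, ⟨0, -2⟩, ⟨1, -1⟩, ⟨0, 0⟩, ⟨0, 0⟩, ⟨1, -1⟩],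
  ![⟨0, 0⟩, ⟨0, 0⟩, ⟨0, 0⟩, ⟨1, 0⟩, ⟨0, 0⟩, ⟨0, 0⟩, ⟨0, 0⟩, ⟨1, 0⟩, ⟨1, 0⟩, ⟨-2, 1⟩, ⟨0, 0⟩, ⟨0, 0⟩, ⟨-2, 0⟩, ⟨-2, 0⟩, ⟨0, 0⟩, ⟨-1, 1⟩, ⟨1, 0⟩, ⟨-1, 1⟩, ⟨0, -1⟩, ⟨1, 2⟩, ⟨1, 1⟩, ⟨2, 2⟩, ⟨1, 1⟩, ⟨3, -1⟩, ⟨2, 3⟩, ⟨2, 1⟩, ⟨1, 1⟩, ⟨-1, 2⟩],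
  ![⟨0, 0⟩, ⟨0, 0⟩, ⟨0, 0⟩, ⟨0, 0⟩, ⟨1, 0⟩, ⟨1, 0⟩, ⟨1, 0⟩, ⟨0, -1⟩, ⟨1, 0⟩, ⟨-2, 6⟩, ⟨0, 1⟩, ⟨-2, -1⟩, ⟨0, 2⟩, ⟨-1, 1⟩, ⟨-2, 2⟩, ⟨0, 0⟩, ⟨0, 0⟩, ⟨0, 1⟩, ⟨-2, -4⟩, ⟨4, 3⟩, ⟨4, 0⟩, ⟨2, 3⟩, ⟨3, 1⟩, ⟨2, -3⟩, ⟨5, 3⟩, ⟨3, -1⟩, ⟨0, 2⟩, ⟨3, 3⟩],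
  ![⟨1, 0⟩, ⟨1, 0⟩, ⟨0, -1⟩, ⟨1, 0⟩, ⟨0, 0⟩, ⟨0, 0⟩, ⟨1, 0⟩, ⟨0, 0⟩, ⟨0, -1⟩, ⟨2, 3⟩, ⟨1, 3⟩, ⟨0, 0⟩, ⟨1, 2⟩, ⟨0, 2⟩, ⟨0, 2⟩, ⟨1, -1⟩, ⟨-1, 0⟩, ⟨-1, -1⟩, ⟨-3, -1⟩, ⟨4, 0⟩, ⟨1, 0⟩, ⟨2, -3⟩, ⟨1, -2⟩, ⟨-1, -1⟩, ⟨4, -5⟩, ⟨-1, -4⟩, ⟨1, 0⟩, ⟨3, -2⟩],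
  ![⟨0, 0⟩, ⟨0, 0⟩, ⟨0, 0⟩, ⟨1, 0⟩, ⟨1, 0⟩, ⟨0, -1⟩, ⟨0, -1⟩, ⟨0, 0⟩, ⟨0, 0⟩, ⟨2, 2⟩, ⟨1, 0⟩, ⟨-1, 1⟩, ⟨0, 0⟩, ⟨0, 1⟩, ⟨0, 2⟩, ⟨0, 1⟩, ⟨0, -1⟩, ⟨-1, 1⟩, ⟨-2, 0⟩, ⟨3, -2⟩, ⟨2, -2⟩, ⟨3, -1⟩, ⟨2, -1⟩, ⟨1, -1⟩, ⟨2, -1⟩, ⟨0, 0⟩, ⟨2, 1⟩, ⟨2, 0⟩],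
  ![⟨1, 0⟩, ⟨0, -1⟩, ⟨-1, 0⟩, ⟨0, -1⟩, ⟨1, 0⟩, ⟨1, 0⟩, ⟨0, 0⟩, ⟨1, 0⟩, ⟨0, 0⟩, ⟨-1, 1⟩, ⟨1, 1⟩, ⟨-1, -1⟩, ⟨1, 0⟩, ⟨0, 1⟩, ⟨0, 0⟩, ⟨-1, 0⟩, ⟨1, 1⟩, ⟨-2, 2⟩, ⟨-1, -1⟩, ⟨4, 1⟩, ⟨1, 0⟩, ⟨-2, 1⟩, ⟨-1, 1⟩, ⟨3, -2⟩, ⟨1, 0⟩, ⟨0, 0⟩, ⟨0, -1⟩, ⟨-1, 0⟩],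
  ![⟨1, 0⟩, ⟨1, 0⟩, ⟨-1, 0⟩, ⟨0, 0⟩, ⟨0, -1⟩, ⟨-1, 0⟩, ⟨0, 0⟩, ⟨0, 0⟩, ⟨1, 0⟩, ⟨2, 2⟩, ⟨1, 0⟩, ⟨-1, 1⟩, ⟨1, -1⟩, ⟨1, -1⟩, ⟨2, 0⟩, ⟨0, -3⟩, ⟨-1, 1⟩, ⟨0, -1⟩, ⟨-4, 0⟩, ⟨0, 0⟩, ⟨-3, 0⟩, ⟨-1, 2⟩, ⟨-1, 0⟩, ⟨-2, 0⟩, ⟨0, -1⟩, ⟨-1, 0⟩, ⟨-3, 1⟩, ⟨1, 1⟩],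
  ![⟨1, 0⟩, ⟨1, 0⟩, ⟨1, 0⟩, ⟨1, 0⟩, ⟨1, 0⟩, ⟨0, 0⟩, ⟨0, 0⟩, ⟨0, 0⟩, ⟨1, 0⟩, ⟨0, 4⟩, ⟨-1, 2⟩, ⟨0, 2⟩, ⟨-1, 3⟩, ⟨-1, 1⟩, ⟨-1, 3⟩, ⟨0, 1⟩, ⟨-1, 0⟩, ⟨-2, 0⟩, ⟨-3, -2⟩, ⟨4, 2⟩, ⟨4, -1⟩, ⟨7, -2⟩, ⟨4, -2⟩, ⟨4, -3⟩, ⟨9, 0⟩, ⟨3, -2⟩, ⟨4, 2⟩, ⟨5, -1⟩],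
  ![⟨1, 0⟩, ⟨1, 0⟩, ⟨1, 0⟩, ⟨0, 0⟩, ⟨0, 0⟩, ⟨-1, 0⟩, ⟨-1, 0⟩, ⟨-1, 0⟩, ⟨0, 0⟩, ⟨2, 0⟩, ⟨-1, 1⟩, ⟨2, 3⟩, ⟨0, 1⟩, ⟨1, 1⟩, ⟨1, 1⟩, ⟨1, 0⟩, ⟨-2, 0⟩, ⟨0, -2⟩, ⟨-2, 1⟩, ⟨0, -1⟩, ⟨0, -1⟩, ⟨4, -4⟩, ⟨1, -4⟩, ⟨-1, -1⟩, ⟨4, -4⟩, ⟨-1, -2⟩, ⟨3, -1⟩, ⟨3, -3⟩],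
  ![⟨1, 0⟩, ⟨1, 0⟩, ⟨1, 0⟩, ⟨0, 0⟩, ⟨0, 0⟩, ⟨0, 1⟩, ⟨0, 1⟩, ⟨0, 1⟩, ⟨0, 0⟩, ⟨0, -1⟩, ⟨-2, 3⟩, ⟨1, 2⟩, ⟨0, 1⟩, ⟨0, 0⟩, ⟨-1, 0⟩, ⟨0, 0⟩, ⟨-1, 1⟩, ⟨-2, -2⟩, ⟨0, 0⟩, ⟨1, 2⟩, ⟨0, 1⟩, ⟨2, -3⟩, ⟨1, -1⟩, ⟨2, 1⟩, ⟨4, -2⟩, ⟨0, -2⟩, ⟨2, 0⟩, ⟨3, -4⟩],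
  ![⟨1, 0⟩, ⟨0, 0⟩, ⟨0, 0⟩, ⟨0, 0⟩, ⟨1, 0⟩, ⟨-1, 0⟩, ⟨1, 0⟩, ⟨0, 0⟩, ⟨0, 0⟩, ⟨0, 3⟩, ⟨0, 1⟩, ⟨-2, 0⟩, ⟨1, 1⟩, ⟨1, 0⟩, ⟨-1, 2⟩, ⟨2, -1⟩, ⟨-1, -1⟩, ⟨1, -2⟩, ⟨-2, -1⟩, ⟨1, 0⟩, ⟨1, -1⟩, ⟨0, -1⟩, ⟨2, 0⟩, ⟨-2, -1⟩, ⟨2, -1⟩, ⟨-2, -1⟩, ⟨-2, 1⟩, ⟨4, 1⟩],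
  ![⟨1, 0⟩, ⟨-1, 0⟩, ⟨0, 0⟩, ⟨1, 0⟩, ⟨0, 0⟩, ⟨0, 0⟩, ⟨0, 0⟩, ⟨1, 0⟩, ⟨0, 0⟩, ⟨0, 0⟩, ⟨-1, 1⟩, ⟨-1, 1⟩, ⟨-2, 0⟩, ⟨-1, 2⟩, ⟨0, -1⟩, ⟨0, 0⟩, ⟨1, 0⟩, ⟨0, 1⟩, ⟨0, 0⟩, ⟨3, -1⟩, ⟨0, 2⟩, ⟨2, 1⟩, ⟨1, 0⟩, ⟨2, -2⟩, ⟨3, -1⟩, ⟨2, -1⟩, ⟨2, -1⟩, ⟨1, 0⟩]]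

def ruG0a : Fin 9 → Fin 7 → Fin 4 → ZMod 2 :=
  ![![![1, 0, 0, 1], ![0, 0, 1, 1], ![0, 0, 1, 1], ![0, 1, 0, 1], ![0, 1, 1, 0], ![0, 1, 0, 1], ![1, 1, 1, 1]],
  ![![0, 1, 0, 1], ![0, 0, 0, 0], ![0, 1, 1, 0], ![0, 0, 1, 1], ![0, 0, 1, 1], ![0, 1, 0, 1], ![0, 1, 1, 0]],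
  ![![0, 0, 1, 1], ![0, 0, 1, 1], ![0, 1, 0, 1], ![0, 1, 1, 0], ![0, 1, 0, 1], ![0, 0, 0, 0], ![0, 1, 1, 0]],
  ![![0, 0, 0, 0], ![0, 0, 0, 0], ![1, 1, 1, 1], ![0, 0, 0, 0], ![0, 0, 0, 0], ![0, 0, 0, 0], ![1, 1, 1, 1]],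
  ![![0, 0, 0, 0], ![1, 0, 0, 1], ![0, 0, 1, 1], ![0, 0, 1, 1], ![0, 1, 0, 1], ![0, 1, 1, 0], ![1, 0, 1, 0]],
  ![![0, 0, 0, 0], ![0, 1, 1, 0], ![0, 0, 1, 1], ![0, 0, 1, 1], ![0, 1, 0, 1], ![0, 1, 1, 0], ![0, 1, 0, 1]],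
  ![![0, 0, 0, 0], ![0, 0, 0, 0], ![0, 0, 0, 0], ![1, 1, 1, 1], ![0, 0, 0, 0], ![0, 0, 0, 0], ![1, 1, 1, 1]],
  ![![0, 0, 0, 0], ![0, 0, 0, 0], ![0, 0, 0, 0], ![0, 0, 0, 0], ![0, 0, 0, 0], ![1, 1, 1, 1], ![1, 1, 1, 1]],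
  ![![0, 0, 0, 0], ![0, 0, 0, 0], ![0, 0, 0, 0], ![0, 0, 0, 0], ![1, 1, 1, 1], ![0, 0, 0, 0], ![1, 1, 1, 1]]]

def ruG1a : Fin 10 → Fin 7 → Fin 4 → ZMod 2 :=
  ![![![1, 0, 0, 1], ![0, 0, 1, 1], ![0, 0, 1, 1], ![0, 1, 0, 1], ![0, 1, 1, 0], ![0, 1, 0, 1], ![1, 1, 1, 1]],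
  ![![0, 1, 0, 1], ![0, 0, 0, 0], ![0, 1, 1, 0], ![0, 0, 1, 1], ![0, 0, 1, 1], ![0, 1, 0, 1], ![0, 1, 1, 0]],
  ![![0, 0, 1, 1], ![0, 0, 1, 1], ![0, 1, 0, 1], ![0, 1, 1, 0], ![0, 1, 0, 1], ![0, 0, 0, 0], ![0, 1, 1, 0]],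
  ![![0, 0, 0, 0], ![0, 0, 0, 0], ![1, 1, 1, 1], ![0, 0, 0, 0], ![0, 0, 0, 0], ![0, 0, 0, 0], ![1, 1, 1, 1]],
  ![![0, 0, 0, 0], ![1, 0, 0, 1], ![0, 0, 1, 1], ![0, 0, 1, 1], ![0, 1, 0, 1], ![0, 1, 1, 0], ![1, 0, 1, 0]],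
  ![![0, 0, 0, 0], ![0, 1, 1, 0], ![0, 0, 1, 1], ![0, 0, 1, 1], ![0, 1, 0, 1], ![0, 1, 1, 0], ![0, 1, 0, 1]],
  ![![0, 0, 0, 0], ![0, 0, 0, 0], ![0, 0, 0, 0], ![1, 1, 1, 1], ![0, 0, 0, 0], ![0, 0, 0, 0], ![1, 1, 1, 1]],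
  ![![0, 0, 0, 0], ![0, 0, 0, 0], ![0, 0, 0, 0], ![0, 0, 0, 0], ![0, 0, 0, 0], ![1, 1, 1, 1], ![1, 1, 1, 1]],
  ![![0, 0, 0, 0], ![0, 0, 0, 0], ![0, 0, 0, 0], ![0, 0, 0, 0], ![1, 1, 1, 1], ![0, 0, 0, 0], ![1, 1, 1, 1]],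
  ![![0, 0, 0, 0], ![0, 0, 0, 0], ![0, 0, 0, 0], ![0, 0, 0, 0], ![0, 0, 0, 0], ![0, 0, 0, 0], ![1, 1, 1, 1]]]

def ruK0a : Fin 7 → Fin 4 → Fin 9 → ZMod 2 :=
  ![![![1, 0, 0, 0, 0, 0, 0, 0, 0], ![0, 1, 0, 0, 0, 0, 0, 0, 0], ![0, 0, 1, 0, 0, 0, 0, 0, 0], ![0, 0, 0, 0, 0, 0, 0, 0, 0]],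
  ![![0, 0, 0, 0, 1, 0, 0, 0, 0], ![0, 0, 0, 0, 0, 1, 0, 0, 0], ![0, 0, 0, 0, 0, 0, 0, 0, 0], ![0, 0, 0, 0, 0, 0, 0, 0, 0]],
  ![![0, 0, 0, 1, 0, 0, 0, 0, 0], ![0, 0, 0, 0, 0, 0, 0, 0, 0], ![0, 0, 0, 0, 0, 0, 0, 0, 0], ![0, 0, 0, 0, 0, 0, 0, 0, 0]],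
  ![![0, 0, 0, 0, 0, 0, 1, 0, 0], ![0, 0, 0, 0, 0, 0, 0, 0, 0], ![0, 0, 0, 0, 0, 0, 0, 0, 0], ![0, 0, 0, 0, 0, 0, 0, 0, 0]],
  ![![0, 0, 0, 0, 0, 0, 0, 0, 1], ![0, 0, 0, 0, 0, 0, 0, 0, 0], ![0, 0, 0, 0, 0, 0, 0, 0, 0], ![0, 0, 0, 0, 0, 0, 0, 0, 0]],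
  ![![0, 0, 0, 0, 0, 0, 0, 1, 0], ![0, 0, 0, 0, 0, 0, 0, 0, 0], ![0, 0, 0, 0, 0, 0, 0, 0, 0], ![0, 0, 0, 0, 0, 0, 0, 0, 0]],
  ![![0, 0, 0, 0, 0, 0, 0, 0, 0], ![0, 0, 0, 0, 0, 0, 0, 0, 0], ![0, 0, 0, 0, 0, 0, 0, 0, 0], ![0, 0, 0, 0, 0, 0, 0, 0, 0]]]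

def ruCand0 : Fin 7 → Fin 7 → List (Fin 26) :=
  ![![[], [0, 3, 10], [0, 6, 20], [5, 6, 19], [0, 5, 7], [3, 6, 13], [3, 5, 12]],
  ![[2, 4, 11], [], [2, 6, 9], [5, 6, 19], [4, 5, 18], [4, 6, 13], [2, 5, 12]],
  ![[1, 4, 11], [1, 3, 10], [], [1, 5, 8], [4, 5, 18], [3, 4, 17], [3, 5, 12]],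
  ![[2, 4, 11], [0, 3, 10], [0, 2, 9], [], [0, 4, 7], [3, 4, 17], [2, 3, 16]],
  ![[1, 2, 15], [1, 3, 10], [2, 6, 9], [1, 6, 8], [], [3, 6, 13], [2, 3, 16]],
  ![[1, 2, 15], [0, 1, 14], [0, 2, 9], [1, 5, 8], [0, 5, 7], [], [2, 5, 12]],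
  ![[1, 4, 11], [0, 1, 14], [0, 6, 20], [1, 6, 8], [0, 4, 7], [4, 6, 13], []]]

def ruCand1 : Fin 7 → List (Fin 26) :=
  ![[0, 21], [21, 22, 23], [21, 22, 23], [0, 21, 22, 23], [21, 22, 23], [0, 21, 22, 23], [0, 21, 22, 23]]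

def ruCand2 : List (Fin 26) := [0, 1, 2, 21, 24, 25]

end Cfsg.Agent.Lib.helper23
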