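import Mathlib
import Cfsg.Prelude.Def_Spor_Ru
import Cfsg.Agent.Lib.helper23.RuData

set_option autoImplicit false

namespace Cfsg.Agent.Lib.helper23

/-- The echelon basis of the Ru lattice as a matrix. -/
def ruB0 : Matrix (Fin 28) Cfsg.Spor.RuIdx GaussianInt := fun r p => ruB0a r p.1 p.2

/-- The basis after dividing the rows of index at least 9 by `1 + i`. -/
def ruB1 : Matrix (Fin 28) Cfsg.Spor.RuIdx GaussianInt := fun r p => ruB1a r p.1 p.2

/-- Witness vectors. -/
def ruW : Fin 26 → Cfsg.Spor.RuVec := fun j p => ruWa j p.1 p.2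

/-- The binary code generator at level 0. -/
def ruG0 : Matrix (Fin 9) Cfsg.Spor.RuIdx (ZMod 2) := fun r p => ruG0a r p.1 p.2

/-- The binary code generator at level 1. -/
def ruG1 : Matrix (Fin 10) Cfsg.Spor.RuIdx (ZMod 2) := fun r p => ruG1a r p.1 p.2

/-- A right inverse of `ruG0`. -/
def ruK0 : Matrix Cfsg.Spor.RuIdx (Fin 9) (ZMod 2) := fun p j => ruK0a p.1 p.2 j

/-- The prime `1 + i`. -/
def ruPi : GaussianInt := ⟨1, 1⟩

/-- Reduction modulo `1 + i`, as a plain function. -/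
def ruPhiF (z : GaussianInt) : ZMod 2 := ((z.re + z.im : ℤ) : ZMod 2)

/-- Divisibility by 4, decidably. -/
def ruDiv4 (z : GaussianInt) : Prop := z.re % 4 = 0 ∧ z.im % 4 = 0

instance ruDiv4_decidable (z : GaussianInt) : Decidable (ruDiv4 z) := by
  unfold ruDiv4; infer_instance

/-- A four-term Hermitian sum. -/
def ruH4 (u0 u1 u2 u3 : GaussianInt) (w : Fin 4 → GaussianInt) : GaussianInt :=
  u0 * star (w 0) + u1 * star (w 1) + u2 * star (w 2) + u3 * star (w 3)

/-- The four units. -/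
def ruUnits : List GaussianInt := [⟨1, 0⟩, ⟨0, 1⟩, ⟨-1, 0⟩, ⟨0, -1⟩]

end Cfsg.Agent.Lib.helper23
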