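import Mathlib
import Cfsg.Prelude.Def_Spor_Ru
import Cfsg.Agent.Lib.helper23.RuDefs

set_option autoImplicit false
namespace Cfsg.Agent.Lib.helper23
open Cfsg.Spor Matrix

/-- Reduction modulo `1 + i` as a ring homomorphism. -/
def ruPhi : GaussianInt →+* ZMod 2 := Zsqrtd.lift ⟨1, by decide⟩

theorem ruPhi_eq (z : GaussianInt) : ruPhi z = ruPhiF z := by
  simp [ruPhi, ruPhiF]

theorem ruPhi_pi : ruPhi ruPi = 0 := by
  rw [ruPhi_eq]; decide

theorem ruPhi_star (z : GaussianInt) : ruPhi (star z) = ruPhi z := by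
  rw [ruPhi_eq, ruPhi_eq]
  simp only [ruPhiF, Zsqrtd.re_star, Zsqrtd.im_star]
  push_cast
  simp only [CharTwo.neg_eq]

theorem ruPhi_eq_zero (z : GaussianInt) (h : ruPhi z = 0) : ∃ z' : GaussianInt, z = ruPi * z' := by
  rw [ruPhi_eq, ruPhiF] at h
  have h2 : (2 : ℤ) ∣ z.re + z.im := (ZMod.intCast_zmod_eq_zero_iff_dvd _ 2).mp h
  obtain ⟨k, hk⟩ := h2
  refine ⟨⟨k, k - z.re⟩, ?_⟩
  apply Zsqrtd.ext
  · simp only [ruPi, Zsqrtd.re_mul]; ring
  · simp only [ruPi, Zsqrtd.im_mul]; linarith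

theorem ruPhi_dvd (z : GaussianInt) (h : ruPi ∣ z) : ruPhi z = 0 := by
  obtain ⟨c, rfl⟩ := h
  rw [map_mul, ruPhi_pi, zero_mul]

theorem ruNorm_nonneg (u : RuVec) : 0 ≤ ruNorm u :=
  Finset.sum_nonneg fun p _ => GaussianInt.norm_nonneg (u p)

theorem ruNorm_pi_smul (u : RuVec) : ruNorm (ruPi • u) = 2 * ruNorm u := by
  simp only [ruNorm, Pi.smul_apply, smul_eq_mul, Zsqrtd.norm_mul, Finset.mul_sum]
  refine Finset.sum_congr rfl fun p _ => ?_
  have : ruPi.norm = 2 := by decide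
  rw [this]

theorem ruPhi_ne_zero_norm {z : GaussianInt} (h : ruPhi z ≠ 0) : 1 ≤ z.norm := by
  have hz : z ≠ 0 := by rintro rfl; exact h (map_zero _)
  have := GaussianInt.norm_pos.mpr hz
  linarith

theorem ru_norm_one {z : GaussianInt} (h : z.norm = 1) : z ∈ ruUnits := by
  rw [Zsqrtd.norm_def] at h
  obtain ⟨a, b⟩ := z
  simp only at h
  have h' : a * a + b * b = 1 := by linarith
  have ha : -1 ≤ a ∧ a ≤ 1 := by
    constructor <;> nlinarith [mul_self_nonneg b, mul_self_nonneg a]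
  have hb : -1 ≤ b ∧ b ≤ 1 := by
    constructor <;> nlinarith [mul_self_nonneg b, mul_self_nonneg a]
  obtain ⟨ha1, ha2⟩ := ha
  obtain ⟨hb1, hb2⟩ := hb
  interval_cases a <;> interval_cases b <;> simp_all [ruUnits]

theorem ruPhi_smul_zero (u : RuVec) (h : ∀ p, ruPhi (u p) = 0) : ∃ u' : RuVec, u = ruPi • u' := by
  choose u' hu' using fun p => ruPhi_eq_zero (u p) (h p)
  exact ⟨u', funext fun p => by rw [hu' p]; rfl⟩

theorem ru_wt_le (u : RuVec) :
    ((Finset.univ.filter (fun p => ruPhi (u p) ≠ 0)).card : ℤ) ≤ ruNorm u := by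
  rw [Finset.card_filter, ruNorm]
  push_cast
  refine Finset.sum_le_sum fun p _ => ?_
  split_ifs with h
  · exact ruPhi_ne_zero_norm h
  · exact GaussianInt.norm_nonneg (u p)

theorem ru_tight (u : RuVec) (S : Finset RuIdx) (hS : ∀ p ∈ S, ruPhi (u p) ≠ 0)
    (hn : ruNorm u = S.card) :
    (∀ p ∈ S, (u p).norm = 1) ∧ ∀ p, p ∉ S → u p = 0 := by
  have hterm : ∀ p ∈ (Finset.univ : Finset RuIdx),
      0 ≤ (u p).norm - (if p ∈ S then (1 : ℤ) else 0) := by
    intro p _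
    split_ifs with h
    · have := ruPhi_ne_zero_norm (hS p h); linarith
    · have := GaussianInt.norm_nonneg (u p); linarith
  have hcard : ∑ p : RuIdx, (if p ∈ S then (1 : ℤ) else 0) = S.card := by
    simp
  have hsum : ∑ p : RuIdx, ((u p).norm - (if p ∈ S then (1 : ℤ) else 0)) = 0 := by
    rw [Finset.sum_sub_distrib, hcard]
    unfold ruNorm at hn
    linarith
  have hz := (Finset.sum_eq_zero_iff_of_nonneg hterm).mp hsum
  constructor
  · intro p hp
    have := hz p (Finset.mem_univ p)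
    simp only [hp, if_true] at this
    linarith
  · intro p hp
    have := hz p (Finset.mem_univ p)
    simp only [hp, if_false, sub_zero] at this
    exact GaussianInt.norm_eq_zero.mp this

theorem ruDiv4_of_dvd {z : GaussianInt} (h : (4 : GaussianInt) ∣ z) : ruDiv4 z := by
  have h4 : (4 : GaussianInt) = ((4 : ℤ) : GaussianInt) := by norm_num
  rw [h4, Zsqrtd.intCast_dvd] at h
  exact ⟨Int.emod_eq_zero_of_dvd h.1, Int.emod_eq_zero_of_dvd h.2⟩

theorem ruNorm_cast (v : RuVec) : ((ruNorm v : ℤ) : GaussianInt) = v ⬝ᵥ star v := by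
  simp only [ruNorm, dotProduct, Int.cast_sum, Pi.star_apply]
  exact Finset.sum_congr rfl fun p _ => Zsqrtd.norm_eq_mul_conj (v p)

theorem ru_dot_comp (v w : RuVec) (n : Fin 7) (h : ∀ p : RuIdx, p.1 ≠ n → v p = 0 ∨ w p = 0) :
    v ⬝ᵥ star w = ruH4 (v (n, 0)) (v (n, 1)) (v (n, 2)) (v (n, 3)) (fun t => w (n, t)) := by
  simp only [dotProduct, Pi.star_apply, ruH4]
  rw [Fintype.sum_prod_type, Finset.sum_eq_single n]
  · rw [Fin.sum_univ_four]
  · intro n' _ hn'
    apply Finset.sum_eq_zero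
    intro t _
    rcases h (n', t) hn' with h | h <;> simp [h]
  · intro h; exact absurd (Finset.mem_univ n) h

end Cfsg.Agent.Lib.helper23
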