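import Mathlib
import Cfsg.Prelude.Def_Spor_Ru
import Cfsg.Agent.Lib.helper23.RuDefs

set_option autoImplicit false
namespace Cfsg.Agent.Lib.helper23
open Cfsg.Spor Matrix

set_option maxRecDepth 100000

/-- Selection matrix of the first `k` rows. -/
def ruP (k : ℕ) (hk : k ≤ 28) : Matrix (Fin 28) (Fin k) (ZMod 2) :=
  fun r i => if r = Fin.castLE hk i then 1 else 0

/-- Level 0 code property. -/
def ruCodeP0 (c : RuIdx → ZMod 2) : Prop :=
  c = 0 ∨ 8 < (Finset.univ.filter (fun p => c p ≠ 0)).card ∨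
    ∃ n m : Fin 7, n ≠ m ∧ ∀ p : RuIdx, c p = if p.1 = n ∨ p.1 = m then 1 else 0

instance ruCodeP0_decidable (c : RuIdx → ZMod 2) : Decidable (ruCodeP0 c) := by
  unfold ruCodeP0; infer_instance

/-- Level 1 code property. -/
def ruCodeP1 (c : RuIdx → ZMod 2) : Prop :=
  c = 0 ∨ 4 < (Finset.univ.filter (fun p => c p ≠ 0)).card ∨
    ∃ n : Fin 7, ∀ p : RuIdx, c p = if p.1 = n then 1 else 0

instance ruCodeP1_decidable (c : RuIdx → ZMod 2) : Decidable (ruCodeP1 c) := by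
  unfold ruCodeP1; infer_instance

theorem ruGram_entry : ∀ r s : Fin 28,
    ruB0 r ⬝ᵥ star (ruB0 s) = 4 * (ruUa r s + star (ruUa s r)) := by
  decide +kernel

theorem ruTable_eq : ruTable = List.ofFn (fun a : Fin 20 => (ruTa a) ᵥ* ruB0) := by
  decide +kernel

theorem ruCRj_spec : ∀ r : Fin 28, ruRj (ruB0 r) = ruCRj r ᵥ* ruB0 := by
  decide +kernel

theorem ruCRk_spec : ∀ r : Fin 28, ruRk (ruB0 r) = ruCRk r ᵥ* ruB0 := by
  decide +kernel

theorem ruCSign_spec : ∀ r : Fin 28, ruSign (ruB0 r) = ruCSign r ᵥ* ruB0 := by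
  decide +kernel

theorem ruCShift_spec : ∀ r : Fin 28, ruShift (ruB0 r) = ruCShift r ᵥ* ruB0 := by
  decide +kernel

theorem ruB0_G0 : ∀ (r : Fin 28) (p : RuIdx),
    ruPhiF (ruB0 r p) = (ruP 9 (by norm_num) * ruG0) r p := by
  decide +kernel

theorem ruB1_G1 : ∀ (r : Fin 28) (p : RuIdx),
    ruPhiF (ruB1 r p) = (ruP 10 (by norm_num) * ruG1) r p := by
  decide +kernel

theorem ruG0_K0 : ruG0 * ruK0 = 1 := by
  decide +kernel

theorem ruW_spec : ∀ j : Fin 26, ruW j = ruWYa j ᵥ* ruB0 := by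
  decide +kernel

theorem ruWit2a : ∀ p : RuIdx, ∃ j ∈ ruCand2, ruPhiF (ruW j p) = 1 := by
  decide +kernel

theorem ruWit2b : ∀ p q : RuIdx, p ≠ q →
    ∃ j ∈ ruCand2, ruPhiF (ruW j p) + ruPhiF (ruW j q) = 1 := by
  decide +kernel

theorem ruCard2 : ∀ n m : Fin 7, n ≠ m →
    (Finset.univ.filter (fun p : RuIdx => p.1 = n ∨ p.1 = m)).card = 8 := by
  decide +kernel

theorem ruCard1 : ∀ n : Fin 7, (Finset.univ.filter (fun p : RuIdx => p.1 = n)).card = 4 := by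
  decide +kernel

end Cfsg.Agent.Lib.helper23
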