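import Mathlib
import Cfsg.Prelude.Def_Spor_Ru
import Cfsg.Agent.Lib.helper23.RuCheck

set_option autoImplicit false
namespace Cfsg.Agent.Lib.helper23
open Cfsg.Spor Matrix

set_option maxRecDepth 100000

/-- Entry relation between the two bases. -/
def ruB0B1P (r : Fin 28) (p : RuIdx) : Prop :=
  ruB0 r p = (if r.val < 9 then (1 : GaussianInt) else ruPi) * ruB1 r p

instance ruB0B1P_decidable (r : Fin 28) (p : RuIdx) : Decidable (ruB0B1P r p) := by
  unfold ruB0B1P; infer_instance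

theorem ruB0_B1 : ∀ (r : Fin 28) (p : RuIdx), ruB0B1P r p := by
  decide +kernel

theorem ruTable_zero_norm : ∃ x ∈ ruTable, ruNorm x = 16 := by
  decide +kernel

theorem ruWit1 : ∀ n : Fin 7, ∀ u0 ∈ ruUnits, ∀ u1 ∈ ruUnits, ∀ u2 ∈ ruUnits, ∀ u3 ∈ ruUnits,
    ∃ j ∈ ruCand1 n, ¬ ruDiv4 (ruPi * ruH4 u0 u1 u2 u3 (fun t => ruW j (n, t))) := by
  decide +kernel

end Cfsg.Agent.Lib.helper23
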