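import Mathlib
import Cfsg.Prelude.Def_Spor_Ru
import Cfsg.Agent.Lib.helper23.RuCheck

set_option autoImplicit false
namespace Cfsg.Agent.Lib.helper23
open Cfsg.Spor Matrix

set_option maxRecDepth 100000

theorem ruWit0 : ∀ n m : Fin 7, n ≠ m →
    ∀ u0 ∈ ruUnits, ∀ u1 ∈ ruUnits, ∀ u2 ∈ ruUnits, ∀ u3 ∈ ruUnits,
    ∃ j ∈ ruCand0 n m, (∀ t : Fin 4, ruW j (m, t) = 0) ∧
      ¬ ruDiv4 (ruH4 u0 u1 u2 u3 (fun t => ruW j (n, t))) := by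
  decide +kernel

end Cfsg.Agent.Lib.helper23
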