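import Mathlib
import Cfsg.Prelude.Def_Spor_Ru
import Cfsg.Agent.Lib.helper23.RuCheck

set_option autoImplicit false
namespace Cfsg.Agent.Lib.helper23
open Cfsg.Spor Matrix

set_option maxRecDepth 100000

theorem ruCode1_one : ∀ a1 a2 a3 a4 a5 a6 a7 a8 a9 : ZMod 2,
    ruCodeP1 (![1, a1, a2, a3, a4, a5, a6, a7, a8, a9] ᵥ* ruG1) := by
  decide +kernel

end Cfsg.Agent.Lib.helper23
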