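import Mathlib
import Cfsg.Prelude.Def_Spor_Ru
import Cfsg.Agent.Lib.helper23.RuBasic
import Cfsg.Agent.Lib.helper23.RuCheck

set_option autoImplicit false
namespace Cfsg.Agent.Lib.helper23
open Cfsg.Spor Matrix

/-- The row space of the echelon basis. -/
def ruM : Submodule GaussianInt RuVec := LinearMap.range (Matrix.vecMulLinear ruB0)

theorem mem_ruM {v : RuVec} : v ∈ ruM ↔ ∃ y : Fin 28 → GaussianInt, y ᵥ* ruB0 = v := by
  simp [ruM, LinearMap.mem_range]

/-- `ruRj` as a linear map. -/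
def ruRjL : RuVec →ₗ[GaussianInt] RuVec where
  toFun := ruRj
  map_add' := by
    intro v w
    funext ⟨n, t⟩
    fin_cases t <;> simp [ruRj, mul_add] <;> ring
  map_smul' := by
    intro c v
    funext ⟨n, t⟩
    fin_cases t <;> simp [ruRj] <;> ring

/-- `ruRk` as a linear map. -/
def ruRkL : RuVec →ₗ[GaussianInt] RuVec where
  toFun := ruRk
  map_add' := by
    intro v w
    funext ⟨n, t⟩
    fin_cases t <;> simp [ruRk, mul_add] <;> ring
  map_smul' := by
    intro c v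
    funext ⟨n, t⟩
    fin_cases t <;> simp [ruRk] <;> ring

/-- `ruSign` as a linear map. -/
def ruSignL : RuVec →ₗ[GaussianInt] RuVec where
  toFun := ruSign
  map_add' := by
    intro v w
    funext p
    simp only [ruSign, Pi.add_apply]
    split_ifs <;> ring
  map_smul' := by
    intro c v
    funext p
    simp only [ruSign, Pi.smul_apply, smul_eq_mul, RingHom.id_apply]
    split_ifs <;> ring

/-- `ruShift` as a linear map. -/
def ruShiftL : RuVec →ₗ[GaussianInt] RuVec where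
  toFun := ruShift
  map_add' := by
    intro v w
    funext p
    rfl
  map_smul' := by
    intro c v
    funext p
    rfl

theorem ruM_map (f : RuVec →ₗ[GaussianInt] RuVec) (C : Matrix (Fin 28) (Fin 28) GaussianInt)
    (h : ∀ r, f (ruB0 r) = C r ᵥ* ruB0) {v : RuVec} (hv : v ∈ ruM) : f v ∈ ruM := by
  obtain ⟨y, rfl⟩ := mem_ruM.mp hv
  refine mem_ruM.mpr ⟨y ᵥ* C, ?_⟩
  rw [Matrix.vecMul_vecMul, Matrix.vecMul_eq_sum, Matrix.vecMul_eq_sum, map_sum]
  refine Finset.sum_congr rfl fun r _ => ?_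
  rw [map_smul, h r]
  rfl

theorem ruLattice_le : ruLattice ≤ ruM.toAddSubgroup := by
  apply sInf_le
  refine ⟨?_, fun v hv => ⟨?_, ?_, ?_, ?_, ?_⟩⟩
  · intro v hv
    rw [ruTable_eq, List.mem_ofFn] at hv
    obtain ⟨a, rfl⟩ := hv
    exact mem_ruM.mpr ⟨ruTa a, rfl⟩
  · exact ruM.smul_mem gI hv
  · exact ruM_map ruRjL ruCRj ruCRj_spec hv
  · exact ruM_map ruRkL ruCRk ruCRk_spec hv
  · exact ruM_map ruSignL ruCSign ruCSign_spec hv
  · exact ruM_map ruShiftL ruCShift ruCShift_spec hv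

theorem ruGram : ruB0 * ruB0ᴴ = (4 : GaussianInt) • ((Matrix.of ruUa) + (Matrix.of ruUa)ᴴ) := by
  refine Matrix.ext fun r s => ?_
  exact ruGram_entry r s

theorem ruH_mem (y z : Fin 28 → GaussianInt) :
    (y ᵥ* ruB0) ⬝ᵥ star (z ᵥ* ruB0) =
      4 * (y ⬝ᵥ (((Matrix.of ruUa) + (Matrix.of ruUa)ᴴ) *ᵥ star z)) := by
  rw [Matrix.star_vecMul, Matrix.dotProduct_mulVec, Matrix.vecMul_vecMul, ruGram,
    Matrix.vecMul_smul, smul_dotProduct, ← Matrix.dotProduct_mulVec, smul_eq_mul]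

theorem ruH_dvd {v w : RuVec} (hv : v ∈ ruM) (hw : w ∈ ruM) :
    (4 : GaussianInt) ∣ v ⬝ᵥ star w := by
  obtain ⟨y, rfl⟩ := mem_ruM.mp hv
  obtain ⟨z, rfl⟩ := mem_ruM.mp hw
  rw [ruH_mem]
  exact dvd_mul_right _ _

theorem ruNorm_even {v : RuVec} (hv : v ∈ ruM) : (8 : ℤ) ∣ ruNorm v := by
  obtain ⟨y, rfl⟩ := mem_ruM.mp hv
  have h := ruH_mem y y
  rw [← ruNorm_cast] at h
  set s : GaussianInt := y ⬝ᵥ ((Matrix.of ruUa) *ᵥ star y) with hs
  have h2 : y ⬝ᵥ (((Matrix.of ruUa) + (Matrix.of ruUa)ᴴ) *ᵥ star y) = s + star s := by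
    rw [Matrix.add_mulVec, dotProduct_add]
    congr 1
    rw [hs]
    simp only [dotProduct, mulVec, conjTranspose_apply, star_sum, star_mul', star_star,
      Pi.star_apply, Finset.mul_sum, Matrix.of_apply]
    rw [Finset.sum_comm]
    refine Finset.sum_congr rfl fun a _ => Finset.sum_congr rfl fun b _ => ?_
    ring
  have h3 : s + star s = ((2 * s.re : ℤ) : GaussianInt) := by
    apply Zsqrtd.ext <;> simp <;> ring
  rw [h2, h3] at h
  have h4 : ruNorm (y ᵥ* ruB0) = 4 * (2 * s.re) := by exact_mod_cast h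
  exact ⟨s.re, by rw [h4]; ring⟩

theorem ruW_mem (j : Fin 26) : ruW j ∈ ruM := mem_ruM.mpr ⟨ruWYa j, (ruW_spec j).symm⟩

end Cfsg.Agent.Lib.helper23
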