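import Mathlib
import Cfsg.Prelude.Def_Spor_Ru
import Cfsg.Agent.Lib.helper23.RuLat
import Cfsg.Agent.Lib.helper23.RuCheck2
import Cfsg.Agent.Lib.helper23.RuCheck3
import Cfsg.Agent.Lib.helper23.RuCheck4
import Cfsg.Agent.Lib.helper23.RuCheck5
import Cfsg.Agent.Lib.helper23.RuCheck6

set_option autoImplicit false
namespace Cfsg.Agent.Lib.helper23
open Cfsg.Spor Matrix

theorem ru_code (B : Matrix (Fin 28) RuIdx GaussianInt) (k : ℕ) (hk : k ≤ 28)
    (G : Matrix (Fin k) RuIdx (ZMod 2))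
    (hG : ∀ (r : Fin 28) (p : RuIdx), ruPhiF (B r p) = (ruP k hk * G) r p)
    (y : Fin 28 → GaussianInt) (p : RuIdx) :
    ruPhi ((y ᵥ* B) p) = (((fun r => ruPhi (y r)) ᵥ* ruP k hk) ᵥ* G) p := by
  rw [Matrix.vecMul_vecMul, RingHom.map_vecMul]
  simp only [Matrix.vecMul, dotProduct, Matrix.map_apply, Function.comp]
  refine Finset.sum_congr rfl fun r _ => ?_
  rw [ruPhi_eq (B r p), hG r p]

theorem ru_descend (B B' : Matrix (Fin 28) RuIdx GaussianInt) (k : ℕ) (hk : k ≤ 28)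
    (G : Matrix (Fin k) RuIdx (ZMod 2)) (K : Matrix RuIdx (Fin k) (ZMod 2))
    (hB : ∀ (r : Fin 28) (p : RuIdx),
      B r p = (if r.val < k then (1 : GaussianInt) else ruPi) * B' r p)
    (hG : ∀ (r : Fin 28) (p : RuIdx), ruPhiF (B r p) = (ruP k hk * G) r p)
    (hK : G * K = 1)
    (y : Fin 28 → GaussianInt) (h0 : ∀ p, ruPhi ((y ᵥ* B) p) = 0) :
    ∃ y' : Fin 28 → GaussianInt, y ᵥ* B = ruPi • (y' ᵥ* B') := by
  have hc := ru_code B k hk G hG y
  have ha : (fun r => ruPhi (y r)) ᵥ* ruP k hk = 0 := by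
    have h1 : ((fun r => ruPhi (y r)) ᵥ* ruP k hk) ᵥ* G = 0 := by
      funext p; rw [← hc p]; exact h0 p
    have h2 : ((fun r => ruPhi (y r)) ᵥ* ruP k hk) ᵥ* (G * K) = 0 := by
      rw [← Matrix.vecMul_vecMul, h1, Matrix.zero_vecMul]
    rwa [hK, Matrix.vecMul_one] at h2
  have hy : ∀ r : Fin 28, r.val < k → ruPhi (y r) = 0 := by
    intro r hr
    have h3 := congrFun ha ⟨r.val, hr⟩
    have hrr : Fin.castLE hk ⟨r.val, hr⟩ = r := Fin.ext rfl
    simp only [Matrix.vecMul, dotProduct, ruP, Pi.zero_apply, hrr] at h3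
    rw [Finset.sum_eq_single r] at h3
    · simpa using h3
    · intro b _ hb
      simp [hb]
    · intro h; exact absurd (Finset.mem_univ r) h
  choose! y' hy' using fun (r : Fin 28) (hr : r.val < k) => ruPhi_eq_zero (y r) (hy r hr)
  refine ⟨fun r => if r.val < k then y' r else y r, ?_⟩
  funext p
  simp only [Matrix.vecMul, dotProduct, Pi.smul_apply, smul_eq_mul, Finset.mul_sum]
  refine Finset.sum_congr rfl fun r _ => ?_
  rw [hB r p]
  by_cases hr : r.val < k
  · simp only [hr, if_true, one_mul]; rw [hy' r hr]; ring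
  · simp only [hr, if_false]; ring

theorem ruCode0' (a : Fin 9 → ZMod 2) : ruCodeP0 (a ᵥ* ruG0) := by
  have h : a = ![a 0, a 1, a 2, a 3, a 4, a 5, a 6, a 7, a 8] := by
    funext i; fin_cases i <;> rfl
  rw [h]; exact ruCode0 _ _ _ _ _ _ _ _ _

theorem ruCode1' (a : Fin 10 → ZMod 2) : ruCodeP1 (a ᵥ* ruG1) := by
  have h : a = ![a 0, a 1, a 2, a 3, a 4, a 5, a 6, a 7, a 8, a 9] := by
    funext i; fin_cases i <;> rfl
  rw [h]
  have h01 : ∀ x : ZMod 2, x = 0 ∨ x = 1 := by decide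
  rcases h01 (a 0) with h | h <;> rw [h]
  · exact ruCode1_zero _ _ _ _ _ _ _ _ _
  · exact ruCode1_one _ _ _ _ _ _ _ _ _

theorem ru_wt_contra (u : RuVec) (c : RuIdx → ZMod 2) (hc : ∀ p, ruPhi (u p) = c p) (N : ℕ)
    (hN : ruNorm u = N) (hbig : N < (Finset.univ.filter (fun p => c p ≠ 0)).card) : False := by
  have hwt := ru_wt_le u
  have hfe : (Finset.univ.filter (fun p => ruPhi (u p) ≠ 0)) =
      Finset.univ.filter (fun p => c p ≠ 0) :=
    Finset.filter_congr fun p _ => by rw [hc p]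
  rw [hfe, hN] at hwt
  have : (Finset.univ.filter (fun p => c p ≠ 0)).card ≤ N := by exact_mod_cast hwt
  omega

theorem ru_pi_pow : (4 : GaussianInt) = ruPi ^ 3 * (-ruPi) := by
  decide

theorem ru_zmod2_ne_zero : ∀ x : ZMod 2, x ≠ 0 → x = 1 := by decide

theorem ru_final (u : RuVec) (hu : (ruPi ^ 3) • u ∈ ruM)
    (hS : (Finset.univ.filter (fun p => ruPhi (u p) ≠ 0)).card = 1 ∨
          (Finset.univ.filter (fun p => ruPhi (u p) ≠ 0)).card = 2) : False := by
  have hw : ∃ j : Fin 26,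
      ∑ p ∈ Finset.univ.filter (fun p => ruPhi (u p) ≠ 0), ruPhi (ruW j p) ≠ 0 := by
    rcases hS with h1 | h2
    · obtain ⟨p, hp⟩ := Finset.card_eq_one.mp h1
      obtain ⟨j, _, hj⟩ := ruWit2a p
      refine ⟨j, ?_⟩
      rw [hp, Finset.sum_singleton, ruPhi_eq, hj]; exact one_ne_zero
    · obtain ⟨p, q, hpq, hp⟩ := Finset.card_eq_two.mp h2
      obtain ⟨j, _, hj⟩ := ruWit2b p q hpq
      refine ⟨j, ?_⟩
      rw [hp, Finset.sum_pair hpq, ruPhi_eq, ruPhi_eq, hj]; exact one_ne_zero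
  obtain ⟨j, hj⟩ := hw
  have hdvd := ruH_dvd hu (ruW_mem j)
  rw [smul_dotProduct, smul_eq_mul, ru_pi_pow] at hdvd
  have hpi3 : ruPi ^ 3 ≠ 0 := by decide
  have h5 : -ruPi ∣ u ⬝ᵥ star (ruW j) := (mul_dvd_mul_iff_left hpi3).mp hdvd
  have h6 : ruPhi (u ⬝ᵥ star (ruW j)) = 0 := ruPhi_dvd _ (neg_dvd.mp h5)
  apply hj
  have h7 : ruPhi (u ⬝ᵥ star (ruW j)) =
      ∑ p ∈ Finset.univ.filter (fun p => ruPhi (u p) ≠ 0), ruPhi (ruW j p) := by
    simp only [dotProduct, map_sum, map_mul, Pi.star_apply, ruPhi_star]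
    rw [Finset.sum_filter]
    refine Finset.sum_congr rfl fun p _ => ?_
    split_ifs with h
    · have h1 : ruPhi (u p) = 1 := ru_zmod2_ne_zero (ruPhi (u p)) h
      rw [h1, one_mul]
    · rw [not_not] at h
      rw [h, zero_mul]
  rw [← h7]
  exact h6

theorem ru_pow3_smul (u : RuVec) : (ruPi ^ 3) • u = ruPi • (ruPi • (ruPi • u)) := by
  rw [smul_smul, smul_smul]; congr 1

theorem ruNorm_ne_eight {v : RuVec} (hv : v ∈ ruM) : ruNorm v ≠ 8 := by
  intro h8
  obtain ⟨y, hy⟩ := mem_ruM.mp hv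
  have hc : ∀ p, ruPhi (v p) = (((fun r => ruPhi (y r)) ᵥ* ruP 9 (by norm_num)) ᵥ* ruG0) p := by
    intro p; rw [← hy]; exact ru_code ruB0 9 (by norm_num) ruG0 ruB0_G0 y p
  rcases ruCode0' ((fun r => ruPhi (y r)) ᵥ* ruP 9 (by norm_num)) with
    h0 | hbig | ⟨n, m, hnm, hind⟩
  · -- the vector is divisible by `1 + i`
    have h0' : ∀ p, ruPhi ((y ᵥ* ruB0) p) = 0 := by
      intro p; rw [hy, hc p, h0]; rfl
    obtain ⟨y1, hy1⟩ := ru_descend ruB0 ruB1 9 (by norm_num) ruG0 ruK0 ruB0_B1 ruB0_G0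
      ruG0_K0 y h0'
    rw [hy] at hy1
    have hn1 : ruNorm (y1 ᵥ* ruB1) = 4 := by
      have := ruNorm_pi_smul (y1 ᵥ* ruB1); rw [← hy1, h8] at this; linarith
    have hc1 : ∀ p, ruPhi ((y1 ᵥ* ruB1) p) =
        (((fun r => ruPhi (y1 r)) ᵥ* ruP 10 (by norm_num)) ᵥ* ruG1) p :=
      ru_code ruB1 10 (by norm_num) ruG1 ruB1_G1 y1
    rcases ruCode1' ((fun r => ruPhi (y1 r)) ᵥ* ruP 10 (by norm_num)) with
      h10 | hbig1 | ⟨n, hind⟩
    · have h10' : ∀ p, ruPhi ((y1 ᵥ* ruB1) p) = 0 := by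
        intro p; rw [hc1 p, h10]; rfl
      obtain ⟨v2, hv2⟩ := ruPhi_smul_zero _ h10'
      have hn2 : ruNorm v2 = 2 := by
        have := ruNorm_pi_smul v2; rw [← hv2, hn1] at this; linarith
      by_cases hex : ∃ p, ruPhi (v2 p) ≠ 0
      · obtain ⟨p, hp⟩ := hex
        have hM : (ruPi ^ 3) • v2 ∈ ruM := by
          rw [ru_pow3_smul, ← hv2, ← hy1]; exact ruM.smul_mem ruPi hv
        apply ru_final v2 hM
        have hle := ru_wt_le v2
        rw [hn2] at hle
        have hle' : (Finset.univ.filter (fun p => ruPhi (v2 p) ≠ 0)).card ≤ 2 := by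
          exact_mod_cast hle
        have hpos : 0 < (Finset.univ.filter (fun p => ruPhi (v2 p) ≠ 0)).card :=
          Finset.card_pos.mpr ⟨p, by simp [hp]⟩
        omega
      · simp only [not_exists, not_not] at hex
        obtain ⟨v3, hv3⟩ := ruPhi_smul_zero _ hex
        have hn3 : ruNorm v3 = 1 := by
          have := ruNorm_pi_smul v3; rw [← hv3, hn2] at this; linarith
        have hM : (ruPi ^ 3) • v3 ∈ ruM := by
          rw [ru_pow3_smul, ← hv3, ← hv2, ← hy1]; exact hv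
        apply ru_final v3 hM
        left
        have hle := ru_wt_le v3
        rw [hn3] at hle
        have hle' : (Finset.univ.filter (fun p => ruPhi (v3 p) ≠ 0)).card ≤ 1 := by
          exact_mod_cast hle
        have hpos : 0 < (Finset.univ.filter (fun p => ruPhi (v3 p) ≠ 0)).card := by
          by_contra hneg
          have hcz : (Finset.univ.filter (fun p => ruPhi (v3 p) ≠ 0)).card = 0 := by omega
          have hall : ∀ p, ruPhi (v3 p) = 0 := by
            intro p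
            by_contra hp
            have : p ∈ Finset.univ.filter (fun p => ruPhi (v3 p) ≠ 0) := by simp [hp]
            rw [Finset.card_eq_zero.mp hcz] at this
            exact absurd this (Finset.notMem_empty p)
          obtain ⟨v4, hv4⟩ := ruPhi_smul_zero _ hall
          have := ruNorm_pi_smul v4
          rw [← hv4, hn3] at this
          omega
        omega
    · exact ru_wt_contra _ _ hc1 4 (by rw [hn1]; rfl) hbig1
    · -- a single component with unit entries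
      have hcard := ruCard1 n
      have hS : ∀ p ∈ Finset.univ.filter (fun p : RuIdx => p.1 = n),
          ruPhi ((y1 ᵥ* ruB1) p) ≠ 0 := by
        intro p hp
        rw [Finset.mem_filter] at hp
        rw [hc1 p, hind p, if_pos hp.2]; exact one_ne_zero
      obtain ⟨hu, hz⟩ := ru_tight (y1 ᵥ* ruB1) _ hS (by rw [hn1, hcard]; rfl)
      have hunit : ∀ t : Fin 4, (y1 ᵥ* ruB1) (n, t) ∈ ruUnits := fun t =>
        ru_norm_one (hu (n, t) (by simp))
      obtain ⟨j, _, hj⟩ := ruWit1 n _ (hunit 0) _ (hunit 1) _ (hunit 2) _ (hunit 3)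
      apply hj
      have hdvd := ruH_dvd hv (ruW_mem j)
      rw [hy1, smul_dotProduct, smul_eq_mul, ru_dot_comp (y1 ᵥ* ruB1) (ruW j) n
        (fun p hp => Or.inl (hz p (by simp [hp])))] at hdvd
      exact ruDiv4_of_dvd hdvd
  · exact ru_wt_contra _ _ hc 8 (by rw [h8]; rfl) hbig
  · -- two components with unit entries
    have hcard := ruCard2 n m hnm
    have hS : ∀ p ∈ Finset.univ.filter (fun p : RuIdx => p.1 = n ∨ p.1 = m),
        ruPhi (v p) ≠ 0 := by
      intro p hp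
      rw [Finset.mem_filter] at hp
      rw [hc p, hind p, if_pos hp.2]; exact one_ne_zero
    obtain ⟨hu, hz⟩ := ru_tight v _ hS (by rw [h8, hcard]; rfl)
    have hunit : ∀ t : Fin 4, v (n, t) ∈ ruUnits := fun t =>
      ru_norm_one (hu (n, t) (by simp))
    obtain ⟨j, _, hjm, hj⟩ := ruWit0 n m hnm _ (hunit 0) _ (hunit 1) _ (hunit 2) _ (hunit 3)
    apply hj
    have hdvd := ruH_dvd hv (ruW_mem j)
    have hzero : ∀ p : RuIdx, p.1 ≠ n → v p = 0 ∨ ruW j p = 0 := by
      intro p hp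
      by_cases hpm : p.1 = m
      · right
        have : p = (m, p.2) := by rw [← hpm]
        rw [this]; exact hjm p.2
      · left
        exact hz p (by simp [hp, hpm])
    rw [ru_dot_comp v (ruW j) n hzero] at hdvd
    exact ruDiv4_of_dvd hdvd

theorem ru_lattice_even_rootless :
    (∀ x ∈ ruLattice, (8 : ℤ) ∣ ruNorm x) ∧ (∀ x ∈ ruLattice, ruNorm x ≠ 8) ∧
    (∀ x ∈ ruLattice, x ≠ 0 → 16 ≤ ruNorm x) ∧ ∃ x ∈ ruLattice, ruNorm x = 16 := by
  have hM : ∀ x ∈ ruLattice, x ∈ ruM := fun x hx => ruLattice_le hx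
  refine ⟨fun x hx => ruNorm_even (hM x hx), fun x hx => ruNorm_ne_eight (hM x hx), ?_, ?_⟩
  · intro x hx hx0
    have h1 := ruNorm_even (hM x hx)
    have h2 := ruNorm_ne_eight (hM x hx)
    have h3 : 0 < ruNorm x := by
      obtain ⟨p, hp⟩ := Function.ne_iff.mp hx0
      have hp' : 0 < (x p).norm := GaussianInt.norm_pos.mpr hp
      calc 0 < (x p).norm := hp'
        _ ≤ ruNorm x := Finset.single_le_sum (f := fun q => (x q).norm)
            (fun q _ => GaussianInt.norm_nonneg (x q)) (Finset.mem_univ p)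
    obtain ⟨k, hk⟩ := h1
    omega
  · obtain ⟨x, hx, hn⟩ := ruTable_zero_norm
    exact ⟨x, AddSubgroup.mem_sInf.mpr fun L hL => hL.1 x hx, hn⟩

end Cfsg.Agent.Lib.helper23
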